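import Cfsg.Agent.PermB.CentralizerAlgebra
import Cfsg.Agent.Lib.CharCore.Virtual
import Cfsg.Agent.CharDeep.Ext.Main
import Mathlib.GroupTheory.SpecificGroups.Alternating.MaximalSubgroups
import Mathlib.GroupTheory.Perm.Cycle.Type

/-!
# Three small characters of the alternating groups
-/

set_option autoImplicit false
set_option linter.unusedSectionVars false

namespace Cfsg.Agent.BC84.AltChar

open Equiv MulAction
open scoped ComplexConjugate

variable {n : ℕ}

/-- The subsets with two points. -/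
def Two (n : ℕ) : Type := {s : Finset (Fin n) // s.card = 2}

noncomputable instance : Fintype (Two n) := inferInstanceAs (Fintype {s : Finset (Fin n) // s.card = 2})
instance : DecidableEq (Two n) := inferInstanceAs (DecidableEq {s : Finset (Fin n) // s.card = 2})

instance : MulAction (Perm (Fin n)) (Two n) where
  smul g s := ⟨s.1.map g.toEmbedding, by rw [Finset.card_map]; exact s.2⟩
  one_smul s := Subtype.ext (Finset.ext fun x => by
    change x ∈ s.1.map (1 : Perm (Fin n)).toEmbedding ↔ _
    rw [Finset.mem_map_equiv]; rfl)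
  mul_smul g h s := Subtype.ext (Finset.ext fun x => by
    change x ∈ s.1.map (g * h).toEmbedding ↔ x ∈ (s.1.map h.toEmbedding).map g.toEmbedding
    rw [Finset.mem_map_equiv, Finset.mem_map_equiv, Finset.mem_map_equiv]; rfl)

/-- The number of fixed points. -/
noncomputable def F (g : Perm (Fin n)) : ℕ := Nat.card {x : Fin n // g x = x}

/-- The ordered pairs exchanged by `g`. -/
abbrev X (g : Perm (Fin n)) := {q : Fin n × Fin n // q.1 ≠ q.2 ∧ g q.1 = q.2 ∧ g q.2 = q.1}

/-- The number of ordered pairs exchanged by `g`. -/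
noncomputable def T (g : Perm (Fin n)) : ℕ := Nat.card (X g)

/-- The fixed two point subsets. -/
noncomputable def Q (g : Perm (Fin n)) : ℕ := Nat.card (fixedBy (Two n) g)

theorem two_Q (g : Perm (Fin n)) : 2 * Q g + F g = F g * F g + T g := by
  classical
  let P := {q : Fin n × Fin n // q.1 ≠ q.2 ∧ ((g q.1 = q.1 ∧ g q.2 = q.2) ∨ (g q.1 = q.2 ∧ g q.2 = q.1))}
  have h1 : Nat.card P + F g = F g * F g + T g := by
    rw [F, T, ← Nat.card_prod]
    simp only [Nat.card_eq_fintype_card, Fintype.card_prod, P, X, Fintype.card_subtype]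
    rw [← Finset.card_product, ← Finset.card_map ⟨fun x : Fin n => (x, x), fun a b h => congrArg Prod.fst h⟩,
      ← Finset.card_union_of_disjoint, ← Finset.card_union_of_disjoint]
    · refine congrArg Finset.card ?_
      ext ⟨a, b⟩
      simp only [Finset.mem_union, Finset.mem_filter, Finset.mem_univ, true_and, Finset.mem_map, Finset.mem_product,
        Function.Embedding.coeFn_mk, Prod.mk.injEq]
      constructor
      · rintro (⟨hne, h | h⟩ | ⟨x, hx, e⟩)
        · exact Or.inl h
        · exact Or.inr ⟨hne, h⟩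
        · obtain ⟨rfl, rfl⟩ := Prod.mk.inj e
          exact Or.inl ⟨hx, hx⟩
      · rintro (⟨ha, hb⟩ | ⟨hne, h⟩)
        · by_cases hab : a = b
          · exact Or.inr ⟨a, ha, Prod.ext rfl hab⟩
          · exact Or.inl ⟨hab, Or.inl ⟨ha, hb⟩⟩
        · exact Or.inl ⟨hne, Or.inr h⟩
    · rw [Finset.disjoint_left]
      rintro ⟨a, b⟩ h h'
      simp only [Finset.mem_product, Finset.mem_filter, Finset.mem_univ, true_and] at h h'
      exact h'.1 (h.1.symm.trans h'.2.1)
    · rw [Finset.disjoint_left]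
      rintro ⟨a, b⟩ h h'
      simp only [Finset.mem_map, Finset.mem_filter, Finset.mem_univ, true_and, Function.Embedding.coeFn_mk,
        Prod.mk.injEq] at h h'
      obtain ⟨x, -, rfl, rfl⟩ := h'
      exact h.1 rfl
  suffices Nat.card P = 2 * Q g by omega
  let fS : P → fixedBy (Two n) g := fun q => ⟨⟨{q.1.1, q.1.2}, Finset.card_pair q.2.1⟩, by
    refine Subtype.ext (Finset.ext fun x => ?_)
    change x ∈ ({q.1.1, q.1.2} : Finset (Fin n)).map g.toEmbedding ↔ x ∈ ({q.1.1, q.1.2} : Finset (Fin n))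
    rcases q.2.2 with ⟨ha, hb⟩ | ⟨ha, hb⟩ <;> simp [Finset.map_insert, ha, hb, or_comm]⟩
  rw [Q, Nat.card_eq_fintype_card, Nat.card_eq_fintype_card, ← Finset.card_univ, ← Finset.card_univ]
  rw [Finset.card_eq_sum_card_fiberwise (f := fS) (t := Finset.univ) (fun _ _ => Finset.mem_univ _),
    Finset.sum_const_nat (m := 2) (fun s _ => ?_), mul_comm]
  obtain ⟨a, b, hab, hs⟩ := Finset.card_eq_two.mp s.1.2
  have hfix := congrArg Subtype.val s.2
  change (s.1.1).map g.toEmbedding = s.1.1 at hfix
  rw [hs] at hfix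
  have ha : g a = a ∨ g a = b := by
    have := Finset.mem_map_of_mem g.toEmbedding (show a ∈ ({a, b} : Finset (Fin n)) by simp)
    rw [hfix] at this; simpa using this
  have hb : g b = a ∨ g b = b := by
    have := Finset.mem_map_of_mem g.toEmbedding (show b ∈ ({a, b} : Finset (Fin n)) by simp)
    rw [hfix] at this; simpa using this
  have hcase : (g a = a ∧ g b = b) ∨ (g a = b ∧ g b = a) := by
    rcases ha with ha | ha <;> rcases hb with hb | hb
    · exact absurd (g.injective (ha.trans hb.symm)) hab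
    · exact Or.inl ⟨ha, hb⟩
    · exact Or.inr ⟨ha, hb⟩
    · exact absurd (g.injective (ha.trans hb.symm)) hab
  let q₁ : P := ⟨(a, b), hab, hcase⟩
  let q₂ : P := ⟨(b, a), Ne.symm hab, hcase.imp And.symm And.symm⟩
  rw [show Finset.univ.filter (fun q : P => fS q = s) = {q₁, q₂} from ?_]
  · exact Finset.card_pair fun h => hab (congrArg (fun q : P => q.1.1) h)
  ext ⟨⟨c, d⟩, hcd, hh⟩
  simp only [Finset.mem_filter, Finset.mem_univ, true_and, Finset.mem_insert, Finset.mem_singleton]
  constructor
  · intro h0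
    have h : ({c, d} : Finset (Fin n)) = {a, b} :=
      (congrArg (fun z : fixedBy (Two n) g => z.1.1) h0).trans hs
    have hc : c = a ∨ c = b := by
      have : c ∈ ({a, b} : Finset (Fin n)) := h ▸ by simp
      simpa using this
    have hd : d = a ∨ d = b := by
      have : d ∈ ({a, b} : Finset (Fin n)) := h ▸ by simp
      simpa using this
    rcases hc with rfl | rfl <;> rcases hd with rfl | rfl <;>
      first | exact absurd rfl hcd | exact Or.inl rfl | exact Or.inr rfl
  · intro h0
    refine Subtype.ext (Subtype.ext ?_)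
    show ({c, d} : Finset (Fin n)) = s.1.1
    rw [hs]
    rcases h0 with h0 | h0
    · have e : (c, d) = (a, b) := congrArg (fun q : P => q.1) h0
      obtain ⟨rfl, rfl⟩ := Prod.mk.inj e
      rfl
    · have e : (c, d) = (b, a) := congrArg (fun q : P => q.1) h0
      obtain ⟨rfl, rfl⟩ := Prod.mk.inj e
      exact Finset.pair_comm _ _

/-- The tuples which `g` moves by a prescribed permutation of the indices. -/
abbrev Sol {k : ℕ} (π : Perm (Fin k)) (g : Perm (Fin n)) := {e : Fin k ↪ Fin n // ∀ i, g (e i) = e (π i)}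

theorem sum_sol {H : Subgroup (Perm (Fin n))} [Fintype H] (hH : alternatingGroup (Fin n) ≤ H)
    {k : ℕ} (hk : k + 2 ≤ n) (π : Perm (Fin k)) :
    ∑ g : H, Nat.card (Sol π (g : Perm (Fin n))) = Nat.card (H) := by
  classical
  have : IsMultiplyPretransitive (alternatingGroup (Fin n)) (Fin n) (Nat.card (Fin n) - 2) :=
    alternatingGroup.isMultiplyPretransitive (Fin n)
  have : IsMultiplyPretransitive (alternatingGroup (Fin n)) (Fin n) k :=
    isMultiplyPretransitive_of_le (n := Nat.card (Fin n) - 2) (by simp; omega) (Nat.sub_le _ _)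
  have hpA : IsPretransitive (alternatingGroup (Fin n)) (Fin k ↪ Fin n) := this
  have hp : IsPretransitive H (Fin k ↪ Fin n) := ⟨fun e e' => by
    obtain ⟨g, hg⟩ := hpA.exists_smul_eq e e'
    exact ⟨⟨g, hH g.2⟩, hg⟩⟩
  rw [Finset.sum_congr rfl fun g _ => (Nat.card_eq_fintype_card.trans (Fintype.card_subtype _)).trans (Finset.card_filter _ _),
    Finset.sum_comm]
  have key : ∀ e : Fin k ↪ Fin n, (∑ g : H, if ∀ i, (g : Perm (Fin n)) (e i) = e (π i) then 1 else 0) =
      Nat.card (stabilizer H e) := by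
    intro e
    obtain ⟨g₀, hg₀⟩ := hp.exists_smul_eq e (π.toEmbedding.trans e)
    rw [← Finset.card_filter, Nat.card_eq_fintype_card, Fintype.card_subtype]
    refine Finset.card_equiv (Equiv.mulLeft g₀⁻¹) fun g => ?_
    simp only [Finset.mem_filter, Finset.mem_univ, true_and, Equiv.coe_mulLeft, mem_stabilizer_iff]
    rw [mul_smul, inv_smul_eq_iff]
    exact ⟨fun h => (Function.Embedding.ext h).trans hg₀.symm,
      fun h i => congrArg (fun q : Fin k ↪ Fin n => q i) (h.trans hg₀)⟩
  rw [Finset.sum_congr rfl fun e _ => key e]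
  haveI := hp
  rcases isEmpty_or_nonempty (Fin k ↪ Fin n) with h | ⟨⟨e₀⟩⟩
  · exact absurd (Function.Embedding.nonempty_of_card_le (α := Fin k) (β := Fin n) (by simp; omega)) (not_nonempty_iff.mpr h)
  · have hc : ∀ e : Fin k ↪ Fin n, Nat.card (stabilizer H e) =
        Nat.card (stabilizer H e₀) := by
      intro e
      obtain ⟨g, hg⟩ := hp.exists_smul_eq e₀ e
      rw [← hg]
      exact (Nat.card_congr (stabilizerEquivStabilizer (g := g) rfl).toEquiv).symm
    rw [Finset.sum_congr rfl fun e _ => hc e, Finset.sum_const, smul_eq_mul, Finset.card_univ,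
      ← Nat.card_eq_fintype_card, ← (stabilizer H e₀).card_mul_index,
      index_stabilizer H e₀, mul_comm]
    congr 1
    exact ((congrArg Set.ncard (Set.eq_univ_of_forall fun e => hp.exists_smul_eq e₀ e)).trans (Set.ncard_univ _)).symm

theorem sol_one (k : ℕ) (g : Perm (Fin n)) : Nat.card (Sol (1 : Perm (Fin k)) g) = (F g).descFactorial k := by
  classical
  rw [F, Nat.card_eq_fintype_card, Nat.card_eq_fintype_card]
  conv_rhs => rw [← Fintype.card_fin k]
  rw [← Fintype.card_embedding_eq]
  exact Fintype.card_congr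
    { toFun := fun e => ⟨fun i => ⟨e.1 i, e.2 i⟩, fun i j h => e.1.injective (congrArg Subtype.val h)⟩
      invFun := fun e => ⟨e.trans (Function.Embedding.subtype _), fun i => (e i).2⟩
      left_inv := fun e => rfl
      right_inv := fun e => rfl }

theorem sol_swap (g : Perm (Fin n)) : Nat.card (Sol (Equiv.swap (0 : Fin 2) 1) g) = T g :=
  Nat.card_congr
    { toFun := fun e => ⟨(e.1 0, e.1 1), e.1.injective.ne (by decide), by simpa using e.2 0, by simpa using e.2 1⟩
      invFun := fun q => ⟨⟨![q.1.1, q.1.2], by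
        intro i j h
        have := q.2.1
        fin_cases i <;> fin_cases j <;> simp_all⟩, fun i => by
        fin_cases i <;> first | exact q.2.2.1 | exact q.2.2.2⟩
      left_inv := fun e => Subtype.ext (Function.Embedding.ext fun i => by fin_cases i <;> rfl)
      right_inv := fun q => rfl }

theorem moved {g : Perm (Fin n)} (q : X g) : g q.1.1 ≠ q.1.1 ∧ g q.1.2 ≠ q.1.2 :=
  ⟨by rw [q.2.2.1]; exact Ne.symm q.2.1, by rw [q.2.2.2]; exact q.2.1⟩

theorem sol_swap_three (g : Perm (Fin n)) : Nat.card (Sol (Equiv.swap (0 : Fin 3) 1) g) = T g * F g := by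
  rw [T, F, ← Nat.card_prod]
  exact Nat.card_congr
    { toFun := fun e => (⟨(e.1 0, e.1 1), e.1.injective.ne (by decide), by simpa using e.2 0, by simpa using e.2 1⟩,
        ⟨e.1 2, (e.2 2).trans (congrArg e.1 (by decide))⟩)
      invFun := fun q => ⟨⟨![q.1.1.1, q.1.1.2, q.2.1], by
        intro i j h
        have := q.1.2.1
        have := Ne.symm q.1.2.1
        have hx : ∀ a, g a ≠ a → a ≠ q.2.1 ∧ q.2.1 ≠ a := fun a ha =>
          ⟨fun h => ha (h ▸ q.2.2), fun h => ha (h ▸ q.2.2)⟩
        have := hx _ (moved q.1).1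
        have := hx _ (moved q.1).2
        fin_cases i <;> fin_cases j <;> simp_all⟩, fun i => by
        fin_cases i <;> first | exact q.1.2.2.1 | exact q.1.2.2.2 | exact q.2.2⟩
      left_inv := fun e => Subtype.ext (Function.Embedding.ext fun i => by fin_cases i <;> rfl)
      right_inv := fun q => rfl }

theorem sol_swap_four (g : Perm (Fin n)) :
    Nat.card (Sol (Equiv.swap (0 : Fin 4) 1) g) = T g * (F g).descFactorial 2 := by
  rw [T, ← sol_one 2 g, ← Nat.card_prod]
  exact Nat.card_congr
    { toFun := fun e => (⟨(e.1 0, e.1 1), e.1.injective.ne (by decide), by simpa using e.2 0, by simpa using e.2 1⟩,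
        ⟨⟨![e.1 2, e.1 3], by
          intro i j h
          have := e.1.injective.ne (show (2 : Fin 4) ≠ 3 by decide)
          have := e.1.injective.ne (show (3 : Fin 4) ≠ 2 by decide)
          fin_cases i <;> fin_cases j <;> simp_all⟩, fun i => by
          fin_cases i
          · exact (e.2 2).trans (congrArg e.1 (by decide))
          · exact (e.2 3).trans (congrArg e.1 (by decide))⟩)
      invFun := fun q => ⟨⟨![q.1.1.1, q.1.1.2, q.2.1 0, q.2.1 1], by
        intro i j h
        have := q.1.2.1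
        have := Ne.symm q.1.2.1
        have hx : ∀ (a : Fin n) (l : Fin 2), g a ≠ a → a ≠ q.2.1 l ∧ q.2.1 l ≠ a := fun a l ha =>
          ⟨fun h => ha (h ▸ q.2.2 l), fun h => ha (h ▸ q.2.2 l)⟩
        have := hx _ 0 (moved q.1).1
        have := hx _ 0 (moved q.1).2
        have := hx _ 1 (moved q.1).1
        have := hx _ 1 (moved q.1).2
        fin_cases i <;> fin_cases j <;> simp_all⟩, fun i => by
        have : g (q.2.1 0) = q.2.1 0 := q.2.2 0
        have : g (q.2.1 1) = q.2.1 1 := q.2.2 1
        fin_cases i <;> first | exact q.1.2.2.1 | exact q.1.2.2.2 | exact q.2.2 0 | exact q.2.2 1⟩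
      left_inv := fun e => Subtype.ext (Function.Embedding.ext fun i => by fin_cases i <;> rfl)
      right_inv := fun q => Prod.ext rfl (Subtype.ext (Function.Embedding.ext fun i => by fin_cases i <;> rfl)) }

theorem sol_double (g : Perm (Fin n)) :
    Nat.card (Sol (Equiv.swap (0 : Fin 4) 1 * Equiv.swap 2 3) g) + 2 * T g = T g * T g := by
  classical
  let bad : X g × X g → Prop := fun q => q.1.1.1 = q.2.1.1 ∨ q.1.1.1 = q.2.1.2
  have hgood : Nat.card (Sol (Equiv.swap (0 : Fin 4) 1 * Equiv.swap 2 3) g) = Nat.card {q // ¬ bad q} := Nat.card_congr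
    { toFun := fun e => ⟨(⟨(e.1 0, e.1 1), e.1.injective.ne (by decide), (e.2 0).trans (congrArg e.1 (by decide)),
          (e.2 1).trans (congrArg e.1 (by decide))⟩,
        ⟨(e.1 2, e.1 3), e.1.injective.ne (by decide), (e.2 2).trans (congrArg e.1 (by decide)),
          (e.2 3).trans (congrArg e.1 (by decide))⟩), not_or.mpr ⟨e.1.injective.ne (by decide), e.1.injective.ne (by decide)⟩⟩
      invFun := fun q => ⟨⟨![q.1.1.1.1, q.1.1.1.2, q.1.2.1.1, q.1.2.1.2], by
        obtain ⟨h1, h2⟩ := not_or.mp q.2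
        have := q.1.1.2.1
        have := q.1.2.2.1
        have := Ne.symm q.1.1.2.1
        have := Ne.symm q.1.2.2.1
        have := Ne.symm h1
        have := Ne.symm h2
        have h3 : q.1.1.1.2 ≠ q.1.2.1.1 := fun h => h2 (g.injective (by rw [q.1.1.2.2.1, q.1.2.2.2.2, h]))
        have h4 : q.1.1.1.2 ≠ q.1.2.1.2 := fun h => h1 (g.injective (by rw [q.1.1.2.2.1, q.1.2.2.2.1, h]))
        have := Ne.symm h3
        have := Ne.symm h4
        intro i j h
        fin_cases i <;> fin_cases j <;> simp_all⟩, fun i => by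
        fin_cases i <;> first | exact q.1.1.2.2.1 | exact q.1.1.2.2.2 | exact q.1.2.2.2.1 | exact q.1.2.2.2.2⟩
      left_inv := fun e => Subtype.ext (Function.Embedding.ext fun i => by fin_cases i <;> rfl)
      right_inv := fun q => rfl }
  let other : X g → X g := fun q => ⟨(q.1.2, q.1.1), Ne.symm q.2.1, q.2.2.2, q.2.2.1⟩
  let f : X g × Bool → {q // bad q} := fun z => ⟨(z.1, if z.2 then z.1 else other z.1), by
    rcases z with ⟨q, _ | _⟩
    · exact Or.inr rfl
    · exact Or.inl rfl⟩
  have hbad : 2 * T g = Nat.card {q // bad q} := by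
    rw [T, mul_comm, show (2 : ℕ) = Nat.card Bool by simp, ← Nat.card_prod]
    refine Nat.card_eq_of_bijective f ⟨?_, ?_⟩
    · rintro ⟨q, b⟩ ⟨q', b'⟩ h
      have e : q = q' := congrArg (fun z : {q // bad q} => z.1.1) h
      subst e
      have h2 := congrArg (fun z : {q // bad q} => z.1.2.1.1) h
      have := q.2.1
      have := Ne.symm q.2.1
      change (if b then q else other q).1.1 = (if b' then q else other q).1.1 at h2
      rcases b with _ | _ <;> rcases b' with _ | _
      · rfl
      · exact absurd h2 (Ne.symm q.2.1)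
      · exact absurd h2 q.2.1
      · rfl
    · rintro ⟨⟨q, q'⟩, h | h⟩
      · exact ⟨(q, true), Subtype.ext (Prod.ext rfl (Subtype.ext (Prod.ext h (by
          rw [← q'.2.2.1, ← h]; exact q.2.2.1.symm))))⟩
      · exact ⟨(q, false), Subtype.ext (Prod.ext rfl (Subtype.ext (Prod.ext (by
          show q.1.2 = q'.1.1
          rw [← q'.2.2.2, ← h]; exact q.2.2.1.symm) h)))⟩
  rw [hgood, hbad, T, ← Nat.card_prod]
  simp only [Nat.card_eq_fintype_card]
  rw [add_comm, ← Fintype.card_sum]
  exact Fintype.card_congr (Equiv.sumCompl bad)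

theorem cast_descFactorial (m : ℕ) : ((m.descFactorial 1 : ℕ) : ℂ) = m ∧
    ((m.descFactorial 2 : ℕ) : ℂ) = (m : ℂ) * (m - 1) ∧
    ((m.descFactorial 4 : ℕ) : ℂ) = (m : ℂ) * (m - 1) * (m - 2) * (m - 3) := by
  refine ⟨by simp, Nat.cast_descFactorial_two ℂ m, ?_⟩
  rcases lt_or_ge m 4 with h | h
  · interval_cases m <;> norm_num [Nat.descFactorial]
  · simp only [Nat.descFactorial, Nat.sub_zero]
    push_cast [Nat.cast_sub (show 1 ≤ m by omega), Nat.cast_sub (show 2 ≤ m by omega), Nat.cast_sub (show 3 ≤ m by omega)]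
    ring

/-- The first character: the deleted permutation character. -/
noncomputable def stdFun (g : Perm (Fin n)) : ℂ := (F g : ℂ) - 1

/-- The second character. -/
noncomputable def twoFun (g : Perm (Fin n)) : ℂ := ((F g : ℂ) ^ 2 - 3 * F g + T g) / 2

/-- The third character. -/
noncomputable def extFun (g : Perm (Fin n)) : ℂ := ((F g : ℂ) ^ 2 - 3 * F g + 2 - T g) / 2

theorem norms {H : Subgroup (Perm (Fin n))} [Fintype H] (hH : alternatingGroup (Fin n) ≤ H) (hn : 6 ≤ n) :
    classInner (fun g : H => stdFun (g : Perm (Fin n))) (fun g : H => stdFun (g : Perm (Fin n))) = 1 ∧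
    classInner (fun g : H => twoFun (g : Perm (Fin n))) (fun g : H => twoFun (g : Perm (Fin n))) = 1 ∧
    classInner (fun g : H => extFun (g : Perm (Fin n))) (fun g : H => extFun (g : Perm (Fin n))) = 1 := by
  classical
  set A := (Nat.card (H) : ℂ) with hA
  have hA0 : A ≠ 0 := Nat.cast_ne_zero.mpr Nat.card_pos.ne'
  have hs : ∀ {k : ℕ}, k + 2 ≤ n → ∀ π : Perm (Fin k),
      ∑ g : H, (Nat.card (Sol π (g : Perm (Fin n))) : ℂ) = A := fun hk π => by
    rw [hA, ← Nat.cast_sum, sum_sol hH hk π]
  have h1 := hs (k := 1) (by omega) 1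
  have h2 := hs (k := 2) (by omega) 1
  have h4 := hs (k := 4) (by omega) 1
  have t2 := hs (k := 2) (by omega) (Equiv.swap (0 : Fin 2) 1)
  have t3 := hs (k := 3) (by omega) (Equiv.swap (0 : Fin 3) 1)
  have t4 := hs (k := 4) (by omega) (Equiv.swap (0 : Fin 4) 1)
  have td := hs (k := 4) (by omega) (Equiv.swap (0 : Fin 4) 1 * Equiv.swap 2 3)
  have hdbl : ∀ g : Perm (Fin n), (Nat.card (Sol (Equiv.swap (0 : Fin 4) 1 * Equiv.swap 2 3) g) : ℂ) =
      (T g : ℂ) * T g - 2 * T g := fun g => by
    rw [eq_sub_iff_add_eq]; exact_mod_cast sol_double g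
  simp only [sol_one, sol_swap, sol_swap_three, sol_swap_four, hdbl, Nat.cast_mul, (cast_descFactorial _).1,
    (cast_descFactorial _).2.1, (cast_descFactorial _).2.2] at h1 h2 h4 t2 t3 t4 td
  have hreal : ∀ (φ : Perm (Fin n) → ℂ), (∀ g, conj (φ g) = φ g) →
      (∑ g : H, φ g * φ g = A) →
      classInner (fun g : H => φ g) (fun g : H => φ g) = 1 := by
    intro φ hr hsum
    simp only [classInner, hr]
    rw [hsum, inv_mul_cancel₀ hA0]
  refine ⟨hreal stdFun (fun g => by simp [stdFun]) ?_, hreal twoFun (fun g => by simp [twoFun, map_div₀, map_ofNat]) ?_,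
    hreal extFun (fun g => by simp [extFun, map_div₀, map_ofNat]) ?_⟩
  · have e : ∀ g : H, stdFun (g : Perm (Fin n)) * stdFun (g : Perm (Fin n)) =
        (F (g : Perm (Fin n)) : ℂ) * (F (g : Perm (Fin n)) - 1) - F (g : Perm (Fin n)) + 1 := fun g => by
      simp only [stdFun]; ring
    simp only [e, Finset.sum_add_distrib, Finset.sum_sub_distrib, h1, h2, Finset.sum_const, Finset.card_univ,
      nsmul_eq_mul, mul_one, hA, Nat.card_eq_fintype_card]
    ring
  · have e : ∀ g : H, twoFun (g : Perm (Fin n)) * twoFun (g : Perm (Fin n)) = (1 / 4 : ℂ) *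
        ((F (g : Perm (Fin n)) : ℂ) * (F (g : Perm (Fin n)) - 1) * (F (g : Perm (Fin n)) - 2) * (F (g : Perm (Fin n)) - 3)
          - 2 * ((F (g : Perm (Fin n)) : ℂ) * (F (g : Perm (Fin n)) - 1)) + 4 * (F (g : Perm (Fin n)) : ℂ)
          + 2 * ((T (g : Perm (Fin n)) : ℂ) * ((F (g : Perm (Fin n)) : ℂ) * (F (g : Perm (Fin n)) - 1)))
          - 4 * ((T (g : Perm (Fin n)) : ℂ) * F (g : Perm (Fin n)))
          + ((T (g : Perm (Fin n)) : ℂ) * T (g : Perm (Fin n)) - 2 * T (g : Perm (Fin n)))
          + 2 * (T (g : Perm (Fin n)) : ℂ)) := fun g => by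
      simp only [twoFun]; ring
    rw [Finset.sum_congr rfl fun g _ => e g, ← Finset.mul_sum]
    simp only [Finset.sum_add_distrib, Finset.sum_sub_distrib, ← Finset.mul_sum, h1, h2, h4, t2, t3, t4]
    rw [Finset.sum_sub_distrib, ← Finset.mul_sum, t2] at td
    linear_combination (1 / 4 : ℂ) * td
  · have e : ∀ g : H, extFun (g : Perm (Fin n)) * extFun (g : Perm (Fin n)) = (1 / 4 : ℂ) *
        ((F (g : Perm (Fin n)) : ℂ) * (F (g : Perm (Fin n)) - 1) * (F (g : Perm (Fin n)) - 2) * (F (g : Perm (Fin n)) - 3)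
          + 2 * ((F (g : Perm (Fin n)) : ℂ) * (F (g : Perm (Fin n)) - 1)) - 4 * (F (g : Perm (Fin n)) : ℂ) + 4
          - 2 * ((T (g : Perm (Fin n)) : ℂ) * ((F (g : Perm (Fin n)) : ℂ) * (F (g : Perm (Fin n)) - 1)))
          + 4 * ((T (g : Perm (Fin n)) : ℂ) * F (g : Perm (Fin n)))
          + ((T (g : Perm (Fin n)) : ℂ) * T (g : Perm (Fin n)) - 2 * T (g : Perm (Fin n)))
          - 2 * (T (g : Perm (Fin n)) : ℂ)) := fun g => by
      simp only [extFun]; ring
    rw [Finset.sum_congr rfl fun g _ => e g, ← Finset.mul_sum]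
    simp only [Finset.sum_add_distrib, Finset.sum_sub_distrib, ← Finset.mul_sum, h1, h2, h4, t2, t3, t4,
      Finset.sum_const, Finset.card_univ, nsmul_eq_mul]
    rw [Finset.sum_sub_distrib, ← Finset.mul_sum, t2] at td
    simp only [hA, Nat.card_eq_fintype_card] at td ⊢
    linear_combination (1 / 4 : ℂ) * td

theorem at_one : F (1 : Perm (Fin n)) = n ∧ T (1 : Perm (Fin n)) = 0 := by
  refine ⟨by simp [F], ?_⟩
  have : IsEmpty (X (1 : Perm (Fin n))) := ⟨fun q => q.2.1 (by simpa using q.2.2.1)⟩
  exact Nat.card_eq_zero.mpr (Or.inl this)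

/-- The three functions are irreducible on the symmetric and on the alternating group. -/
theorem irr (hn : 6 ≤ n) : ∀ φ ∈ [stdFun (n := n), twoFun, extFun],
    IsIrrCharacter (Perm (Fin n)) φ ∧ IsIrrCharacter (alternatingGroup (Fin n)) (fun g : alternatingGroup (Fin n) => φ g) := by
  classical
  have hF : IsCharacter (Perm (Fin n)) (fun g : Perm (Fin n) => (F g : ℂ)) := by
    exact PermB.isCharacter_permChar (Perm (Fin n)) (Fin n)
  have hQ : IsCharacter (Perm (Fin n)) (fun g : Perm (Fin n) => (Q g : ℂ)) :=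
    PermB.isCharacter_permChar (Perm (Fin n)) (Two n)
  have gF := CharCore.IsCharacter.isGeneralized hF
  have gQ := CharCore.IsCharacter.isGeneralized hQ
  have hQe : ∀ g : Perm (Fin n), 2 * (Q g : ℂ) + F g = (F g : ℂ) * F g + T g := fun g => by
    exact_mod_cast two_Q g
  have g1 : IsGeneralizedCharacter (Perm (Fin n)) stdFun := CharCore.isGeneralized_sub gF CharCore.isGeneralized_one
  have g2 : IsGeneralizedCharacter (Perm (Fin n)) twoFun := by
    convert CharCore.isGeneralized_sub gQ gF using 1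
    funext g
    simp only [twoFun, Pi.sub_apply]
    linear_combination (-1 / 2 : ℂ) * hQe g
  have g3 : IsGeneralizedCharacter (Perm (Fin n)) extFun := by
    convert CharCore.isGeneralized_add (CharCore.isGeneralized_sub (CharCore.isGeneralized_sub
      (CharCore.isGeneralized_sub (CharCore.isGeneralized_mul gF gF) gF) gQ) gF) CharCore.isGeneralized_one using 1
    funext g
    simp only [extFun, Pi.sub_apply, Pi.add_apply, Pi.mul_apply, Pi.one_apply]
    linear_combination (1 / 2 : ℂ) * hQe g
  obtain ⟨n1, n2, n3⟩ := norms (H := alternatingGroup (Fin n)) le_rfl hn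
  have : Fintype (⊤ : Subgroup (Perm (Fin n))) := Fintype.ofFinite _
  obtain ⟨m1, m2, m3⟩ := norms (H := (⊤ : Subgroup (Perm (Fin n)))) le_top hn
  have htop : ∀ φ : Perm (Fin n) → ℂ,
      classInner (fun g : (⊤ : Subgroup (Perm (Fin n))) => φ g) (fun g : (⊤ : Subgroup (Perm (Fin n))) => φ g) = classInner φ φ := by
    intro φ
    rw [classInner, classInner, Subgroup.card_top]
    congr 1
    exact Fintype.sum_equiv Subgroup.topEquiv.toEquiv _ _ fun g => rfl
  rw [htop] at m1 m2 m3
  obtain ⟨hF1, hT1⟩ := at_one (n := n)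
  have hn' : (6 : ℝ) ≤ n := by exact_mod_cast hn
  have main : ∀ φ : Perm (Fin n) → ℂ, IsGeneralizedCharacter (Perm (Fin n)) φ →
      classInner (fun g : alternatingGroup (Fin n) => φ g) (fun g : alternatingGroup (Fin n) => φ g) = 1 →
      classInner φ φ = 1 →
      0 < (φ 1).re → IsIrrCharacter (Perm (Fin n)) φ ∧
        IsIrrCharacter (alternatingGroup (Fin n)) (fun g : alternatingGroup (Fin n) => φ g) :=
    fun φ hφ hN hN' hpos => ⟨CharCore.IsGeneralizedCharacter.isIrr_of_norm_one hφ hN' hpos,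
      CharCore.IsGeneralizedCharacter.isIrr_of_norm_one (CharCore.isGeneralized_restrict hφ _) hN (by simpa using hpos)⟩
  intro φ hφ
  simp only [List.mem_cons, List.not_mem_nil, or_false] at hφ
  rcases hφ with rfl | rfl | rfl
  · exact main _ g1 n1 m1 (by simp [stdFun, hF1]; omega)
  · exact main _ g2 n2 m2 (by simp [twoFun, hF1, hT1, Complex.div_re, sq]; nlinarith)
  · exact main _ g3 n3 m3 (by simp [extFun, hF1, hT1, Complex.div_re, sq]; nlinarith)

/-- No pair is exchanged when there is no cycle of length two. -/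
theorem T_eq_zero {g : Perm (Fin n)} (h : 2 ∉ g.cycleType) : T g = 0 := by
  classical
  refine Nat.card_eq_zero.mpr (Or.inl ⟨fun q => h ?_⟩)
  have hne := (moved q).1
  have hc := Perm.isCycle_cycleOf g hne
  have h2 : (g.cycleOf q.1.1 ^ 2) q.1.1 = q.1.1 := by
    rw [Perm.cycleOf_pow_apply_self, sq, Perm.mul_apply, q.2.2.1, q.2.2.2]
  have h3 : g.cycleOf q.1.1 ^ 2 = 1 := (hc.pow_eq_one_iff' (by rwa [Perm.cycleOf_apply_self])).mpr h2
  have h4 : (g.cycleOf q.1.1).support.card = 2 := by
    rw [← hc.orderOf]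
    exact orderOf_eq_prime h3 (hc.ne_one)
  rw [Perm.cycleType_def, Multiset.mem_map]
  exact ⟨_, Perm.cycleOf_mem_cycleFactorsFinset_iff.mpr (Perm.mem_support.mpr hne), h4⟩

/-- An even permutation with prescribed cycle type, and its number of fixed points. -/
theorem exists_element (m : Multiset ℕ) (h2 : ∀ a ∈ m, 2 ≤ a) (hle : m.sum ≤ n)
    (heven : Even (m.sum + m.card)) :
    ∃ g : alternatingGroup (Fin n), (g : Perm (Fin n)).cycleType = m ∧ orderOf g = m.lcm ∧
      F (g : Perm (Fin n)) = n - m.sum := by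
  classical
  obtain ⟨g, hg⟩ := (Perm.exists_with_cycleType_iff (Fin n)).mpr ⟨by simpa using hle, h2⟩
  have hmem : g ∈ alternatingGroup (Fin n) := by
    rw [Perm.mem_alternatingGroup, Perm.sign_of_cycleType, hg]
    exact heven.neg_one_pow
  refine ⟨⟨g, hmem⟩, hg, by rw [← Subgroup.orderOf_coe, ← Perm.lcm_cycleType, hg], ?_⟩
  show Nat.card {x : Fin n // g x = x} = _
  have hs : g.support.card = m.sum := by rw [← Perm.sum_cycleType, hg]
  rw [Nat.card_eq_fintype_card, Fintype.card_subtype, ← hs,
    show Finset.univ.filter (fun x => g x = x) = g.supportᶜ by ext x; simp, Finset.card_compl, Fintype.card_fin]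

end Cfsg.Agent.BC84.AltChar
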