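import Cfsg.Agent.BC85.Contribution
import Cfsg.Agent.Lib.BlocksDefect.PrincipalSection
import Cfsg.Agent.Lib.BlocksDefect.LocalBlock
import Cfsg.Agent.Lib.BlocksCore.SecondBlock
import Cfsg.Agent.Lib.BlocksCore.Ortho

/-!
# Brauer's count of the characters of a block by subsections
-/

set_option autoImplicit false
set_option linter.unusedSectionVars false

namespace Cfsg.Agent.BC84

open BlocksCore BlocksDefect
open scoped ComplexConjugate

variable {G : Type*} [Group G] [Finite G] {p : ℕ} [Fact p.Prime] {M : Ideal AlgInt}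

/-- The span of the regular parts of a set of characters. -/
noncomputable def regSpan {H : Type*} [Group H] (p : ℕ) (b : Set (IrrCharacter H)) : Submodule ℂ (H → ℂ) :=
  Submodule.span ℂ ((fun χ : IrrCharacter H => pRegularPart p (χ : H → ℂ)) '' b)

theorem blockRank_eq_finrank {H : Type*} [Group H] (b : Set (IrrCharacter H)) :
    blockRank p b = Module.finrank ℂ (regSpan p b) := rfl

/-- The regular part, as a linear map. -/
noncomputable def regMap (H : Type*) [Group H] (p : ℕ) : (H → ℂ) →ₗ[ℂ] (H → ℂ) where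
  toFun f := pRegularPart p f
  map_add' f g := by funext x; simp only [pRegularPart, Pi.add_apply]; split_ifs <;> simp
  map_smul' c f := by funext x; simp only [pRegularPart, Pi.smul_apply, RingHom.id_apply]; split_ifs <;> simp

theorem regMap_apply {H : Type*} [Group H] (f : H → ℂ) : regMap H p f = pRegularPart p f := rfl

theorem regSpan_eq_map {H : Type*} [Group H] (b : Set (IrrCharacter H)) :
    regSpan p b = (Submodule.span ℂ ((fun χ : IrrCharacter H => (χ : H → ℂ)) '' b)).map (regMap H p) := by
  rw [Submodule.map_span, ← Set.image_comp]; rfl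

theorem isClassFunction_of_mem_regSpan {H : Type*} [Group H] [Finite H] {b : Set (IrrCharacter H)} {v : H → ℂ}
    (hv : v ∈ regSpan p b) :
    IsClassFunction H v ∧ ∀ x, p ∣ orderOf x → v x = 0 := by
  induction hv using Submodule.span_induction with
  | mem w hw =>
    obtain ⟨χ, -, rfl⟩ := hw
    exact ⟨BC85.isClassFunction_pRegularPart (CharCore.irr_isClassFunction χ), fun x hx => BC85.pRegularPart_neg hx⟩
  | zero => exact ⟨fun _ _ => rfl, fun _ _ => rfl⟩
  | add u w _ _ hu hw =>
    exact ⟨fun x y => by simp [hu.1 x y, hw.1 x y], fun x hx => by simp [hu.2 x hx, hw.2 x hx]⟩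
  | smul a u _ hu => exact ⟨fun x y => by simp [hu.1 x y], fun x hx => by simp [hu.2 x hx]⟩

theorem mem_span_of_mem_regSpan (hM : IsPModular p M) {b : Set (IrrCharacter G)} (hb : IsPBlock M b)
    {v : G → ℂ} (hv : v ∈ regSpan p b) :
    v ∈ Submodule.span ℂ ((fun χ : IrrCharacter G => (χ : G → ℂ)) '' b) := by
  have := Fintype.ofFinite G
  refine Submodule.span_le.mpr ?_ hv
  rintro _ ⟨χ, hχ, rfl⟩
  have := finite_irr (G := G)
  have e : pRegularPart p (χ : G → ℂ) = ∑ᶠ ψ ∈ b, BC85.prj p χ ψ • (ψ : G → ℂ) := by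
    funext x
    rw [BC85.pRegularPart_eq_finsum hM hb hχ, finsum_mem_eq_finite_toFinset_sum _ b.toFinite,
      finsum_mem_eq_finite_toFinset_sum _ b.toFinite, Finset.sum_apply]
    rfl
  show pRegularPart p (χ : G → ℂ) ∈ Submodule.span ℂ ((fun χ : IrrCharacter G => (χ : G → ℂ)) '' b)
  rw [e, finsum_mem_eq_finite_toFinset_sum _ b.toFinite]
  exact Submodule.sum_mem _ fun ψ hψ => Submodule.smul_mem _ _
    (Submodule.subset_span ⟨ψ, b.toFinite.mem_toFinset.mp hψ, rfl⟩)

theorem classInner_eq_zero_of_mem_span [Fintype G] {b : Set (IrrCharacter G)} {v : G → ℂ}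
    (hv : v ∈ Submodule.span ℂ ((fun χ : IrrCharacter G => (χ : G → ℂ)) '' b))
    {η : IrrCharacter G} (hη : η ∉ b) : classInner v (η : G → ℂ) = 0 := by
  induction hv using Submodule.span_induction with
  | mem w hw =>
    obtain ⟨χ, hχ, rfl⟩ := hw
    exact CharCore.classInner_irr_of_ne fun h => hη (h ▸ hχ)
  | zero => simp [classInner]
  | add u w _ _ hu hw =>
    have h2 : classInner (u + w) (η : G → ℂ) = classInner u (η : G → ℂ) + classInner w (η : G → ℂ) := by
      simp only [classInner, Pi.add_apply, add_mul, Finset.sum_add_distrib, mul_add]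
    rw [h2, hu, hw, add_zero]
  | smul a u _ hu => rw [CharCore.classInner_smul_left, hu, mul_zero]

/-- The regular spans of distinct blocks are independent. -/
theorem regSpan_indep (hM : IsPModular p M) {ι : Type*} [Fintype ι] (β : ι → Set (IrrCharacter G))
    (hβ : Function.Injective β) (hb : ∀ i, IsPBlock M (β i)) (v : ∀ i, regSpan p (β i))
    (h : ∑ i, (v i : G → ℂ) = 0) : v = 0 := by
  have := isPrime hM
  have := Fintype.ofFinite G
  funext i
  apply Subtype.ext
  refine CharCore.eq_zero_of_classInner_irr_eq_zero (isClassFunction_of_mem_regSpan (v i).2).1 fun η => ?_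
  have hz : classInner (v i : G → ℂ) (η : G → ℂ) = 0 := by
    by_cases hη : η ∈ β i
    · have h1 : classInner (∑ j, (v j : G → ℂ)) (η : G → ℂ) = 0 := by rw [h]; simp [classInner]
      rw [CharCore.classInner_sum_left, Finset.sum_eq_single i] at h1
      · exact h1
      · exact fun j _ hj => classInner_eq_zero_of_mem_span (mem_span_of_mem_regSpan hM (hb j) (v j).2)
          fun hc => hj (hβ (isPBlock_eq_of_mem (hb j) (hb i) hc hη))
      · simp
    · exact classInner_eq_zero_of_mem_span (mem_span_of_mem_regSpan hM (hb i) (v i).2) hη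
  exact hz

theorem isClassFunction_translate_of (z : G) {f : G → ℂ} (hf : IsClassFunction G f) :
    IsClassFunction (Subgroup.centralizer ({z} : Set G))
      (fun c : Subgroup.centralizer ({z} : Set G) => f (z * (c : G))) := by
  intro c d
  show f _ = f _
  rw [← hf (z * (c : G)) (d : G)]
  refine congrArg f ?_
  push_cast
  rw [← mul_assoc (d : G) z, Subgroup.mem_centralizer_singleton_iff.mp d.2]
  group

/-- The component at a block `b` of the centralizer of `z` of the section of `z`. -/
noncomputable def sectMap (p : ℕ) (z : G) (b : Set (IrrCharacter (Subgroup.centralizer ({z} : Set G)))) :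
    (G → ℂ) →ₗ[ℂ] (Subgroup.centralizer ({z} : Set G) → ℂ) :=
  haveI := Fintype.ofFinite (Subgroup.centralizer ({z} : Set G))
  haveI := finite_irr (G := Subgroup.centralizer ({z} : Set G))
  haveI := Fintype.ofFinite b
  (regMap _ p).comp (∑ η : b,
    (LinearMap.smulRight
      ({ toFun := fun f => classInner (fun c : Subgroup.centralizer ({z} : Set G) => f (z * (c : G)))
          ((η : IrrCharacter (Subgroup.centralizer ({z} : Set G))) : Subgroup.centralizer ({z} : Set G) → ℂ)
         map_add' := fun f g => by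
           simp only [classInner, Pi.add_apply, add_mul, Finset.sum_add_distrib, mul_add]
         map_smul' := fun a f => by
           simp only [classInner, Pi.smul_apply, smul_eq_mul, RingHom.id_apply, Finset.mul_sum]
           exact Finset.sum_congr rfl fun _ _ => by ring } : (G → ℂ) →ₗ[ℂ] ℂ)
      ((η : IrrCharacter (Subgroup.centralizer ({z} : Set G))) : Subgroup.centralizer ({z} : Set G) → ℂ)))

theorem sectMap_mem (z : G) (b : Set (IrrCharacter (Subgroup.centralizer ({z} : Set G)))) (f : G → ℂ) :
    sectMap p z b f ∈ regSpan p b := by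
  rw [regSpan_eq_map, sectMap]
  refine Submodule.mem_map_of_mem ?_
  rw [LinearMap.sum_apply]
  refine Submodule.sum_mem _ fun η _ => ?_
  rw [LinearMap.smulRight_apply]
  exact Submodule.smul_mem _ _ (Submodule.subset_span ⟨η, η.2, rfl⟩)

theorem sectMap_eq_regPart (z : G) (b : Set (IrrCharacter (Subgroup.centralizer ({z} : Set G)))) (f : G → ℂ) :
    sectMap p z b f = pRegularPart p (blockPart b (fun c : Subgroup.centralizer ({z} : Set G) => f (z * (c : G)))) := by
  have := Fintype.ofFinite (Subgroup.centralizer ({z} : Set G))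
  have := finite_irr (G := Subgroup.centralizer ({z} : Set G))
  have := Fintype.ofFinite b
  rw [sectMap, LinearMap.comp_apply, regMap_apply]
  congr 1
  funext c
  rw [blockPart, ← finsum_set_coe_eq_finsum_mem, finsum_eq_sum_of_fintype, LinearMap.sum_apply, Finset.sum_apply]
  refine Finset.sum_congr (by congr!) fun η _ => ?_
  rw [LinearMap.smulRight_apply, Pi.smul_apply, smul_eq_mul]
  congr!

theorem eq_zero_of_sectMap (hM : IsPModular p M) {B : Set (IrrCharacter G)} (hB : IsPBlock M B)
    {f : G → ℂ} (hf : f ∈ Submodule.span ℂ ((fun χ : IrrCharacter G => (χ : G → ℂ)) '' B))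
    (hfc : IsClassFunction G f) {z : G} {k : ℕ} (hz : orderOf z = p ^ k)
    (h : ∀ b, IsInducedBlock M (Subgroup.centralizer ({z} : Set G)) b B → sectMap p z b f = 0)
    (y : Subgroup.centralizer ({z} : Set G)) (hy : ¬ p ∣ orderOf y) : f (z * y) = 0 := by
  classical
  have := isPrime hM
  have := Fintype.ofFinite (Subgroup.centralizer ({z} : Set G))
  have := finite_irr (G := Subgroup.centralizer ({z} : Set G))
  have := Fintype.ofFinite (IrrCharacter (Subgroup.centralizer ({z} : Set G)))
  set h' : Subgroup.centralizer ({z} : Set G) → ℂ := fun c => f (z * (c : G)) with hh'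
  have hhc : IsClassFunction (Subgroup.centralizer ({z} : Set G)) h' := isClassFunction_translate_of z hfc
  have hzero : ∀ b, IsPBlock M b → blockPart b h' y = 0 := by
    intro b hb
    by_cases hi : IsInducedBlock M (Subgroup.centralizer ({z} : Set G)) b B
    · have h1 := congrFun (h b hi) y
      rw [sectMap_eq_regPart, BC85.pRegularPart_pos hy] at h1
      exact h1
    · rw [blockPart_eq_sum_blockCoeff b hhc]
      have hlin : ∀ F ∈ Submodule.span ℂ ((fun χ : IrrCharacter G => (χ : G → ℂ)) '' B),
          ∑ c : Subgroup.centralizer ({z} : Set G), blockCoeff b c * F (z * ((c * y : Subgroup.centralizer ({z} : Set G)) : G)) = 0 := by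
        intro F hF
        induction hF using Submodule.span_induction with
        | mem w hw =>
          obtain ⟨χ, hχ, rfl⟩ := hw
          rw [← sum_blockCoeff_section_eq_zero hM hz hb (χ := χ) (fun hc => hi ?_) y hy]
          · refine Finset.sum_congr rfl fun c _ => ?_
            rw [Subgroup.coe_mul, ← mul_assoc, ← mul_assoc, Subgroup.mem_centralizer_singleton_iff.mp c.2]
          · rwa [isPBlock_eq_blockOf hB hχ]
        | zero => simp
        | add u w _ _ hu hw =>
          simp only [Pi.add_apply, mul_add, Finset.sum_add_distrib, hu, hw, add_zero]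
        | smul a u _ hu =>
          simp only [Pi.smul_apply, smul_eq_mul, mul_left_comm _ a, ← Finset.mul_sum, hu, mul_zero]
      exact hlin f hf
  have hexp := congrFun (CharCore.eq_sum_classInner hhc) y
  simp only [Finset.sum_apply, Pi.smul_apply, smul_eq_mul] at hexp
  show h' y = 0
  rw [hexp]
  refine (Finset.sum_fiberwise _
    (fun η : IrrCharacter (Subgroup.centralizer ({z} : Set G)) =>
      blockOf M (η : Subgroup.centralizer ({z} : Set G) → ℂ))
    (fun η => classInner h' (η : Subgroup.centralizer ({z} : Set G) → ℂ) *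
      (η : Subgroup.centralizer ({z} : Set G) → ℂ) y)).symm.trans ?_
  refine Finset.sum_eq_zero fun b _ => ?_
  by_cases hb : IsPBlock M b
  · refine Eq.trans ?_ (hzero b hb)
    rw [Finset.sum_filter, blockPart, finsum_mem_def, finsum_eq_sum_of_fintype]
    refine Finset.sum_congr (by congr!) fun η _ => ?_
    by_cases hη : η ∈ b
    · rw [Set.indicator_of_mem hη, if_pos (isPBlock_eq_blockOf hb hη).symm]
      congr!
    · rw [Set.indicator_of_notMem hη, if_neg fun hc => hη (by rw [← hc]; exact mem_blockOf_self η)]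
  · exact Finset.sum_eq_zero fun η hη => absurd ((Finset.mem_filter.mp hη).2 ▸ isPBlock_blockOf η) hb

/-- A function on the section of `x`, spread over `G`. -/
noncomputable def spread (x : G) (w : Subgroup.centralizer ({x} : Set G) → ℂ) : G → ℂ :=
  haveI := Fintype.ofFinite G
  fun g => (Nat.card (Subgroup.centralizer ({x} : Set G)) : ℂ)⁻¹ *
    ∑ t : G, extendByZero (Subgroup.centralizer ({x} : Set G)) w (x⁻¹ * (t * g * t⁻¹))

theorem isClassFunction_spread (x : G) (w : Subgroup.centralizer ({x} : Set G) → ℂ) :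
    IsClassFunction G (spread x w) := by
  let := Fintype.ofFinite G
  intro g h
  simp only [spread]
  congr 1
  refine (Equiv.sum_comp (Equiv.mulRight h⁻¹) (fun t => extendByZero (Subgroup.centralizer ({x} : Set G)) w
    (x⁻¹ * (t * (h * g * h⁻¹) * t⁻¹)))).symm.trans (Finset.sum_congr rfl fun t _ => ?_)
  simp only [Equiv.coe_mulRight]
  congr 1
  group

theorem spread_apply {x x' : G} {k k' : ℕ} (hx : orderOf x = p ^ k) (hx' : orderOf x' = p ^ k')
    {w : Subgroup.centralizer ({x} : Set G) → ℂ} (hw : IsClassFunction _ w) (hw0 : ∀ c, p ∣ orderOf c → w c = 0)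
    {y : G} (hy : ¬ p ∣ orderOf y) (hyc : Commute x' y) :
    (∀ _h : ¬ IsConj x' x, spread x w (x' * y) = 0) ∧
      ∀ (_h : x' = x) (hm : y ∈ Subgroup.centralizer ({x} : Set G)), spread x w (x' * y) = w ⟨y, hm⟩ := by
  classical
  let := Fintype.ofFinite G
  have key : ∀ t : G, extendByZero (Subgroup.centralizer ({x} : Set G)) w (x⁻¹ * (t * (x' * y) * t⁻¹)) ≠ 0 → t * x' * t⁻¹ = x := by
    intro t ht
    set u := x⁻¹ * (t * (x' * y) * t⁻¹) with hu
    by_cases hm : u ∈ (Subgroup.centralizer ({x} : Set G))
    · rw [CharInd.extendByZero_mem _ hm] at ht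
      have hreg : ¬ p ∣ orderOf u := fun h => ht (hw0 ⟨u, hm⟩ (by rwa [Subgroup.orderOf_mk]))
      have h1 := pp_mul (p := p) ⟨k, hx⟩ hreg (Subgroup.mem_centralizer_singleton_iff.mp hm).symm
      rw [hu, mul_inv_cancel_left, pp_conj, pp_mul ⟨k', hx'⟩ hy hyc] at h1
      exact h1
    · exact absurd (CharInd.extendByZero_notMem _ hm) ht
  refine ⟨fun hn => ?_, fun he hm => ?_⟩
  · rw [spread, Finset.sum_eq_zero (fun t _ => ?_), mul_zero]
    by_contra ht
    exact hn (isConj_iff.mpr ⟨t, key t ht⟩)
  · subst he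
    rw [spread, ← Finset.sum_subset (f := fun t => extendByZero (Subgroup.centralizer ({x'} : Set G)) w (x'⁻¹ * (t * (x' * y) * t⁻¹))) (Finset.subset_univ (Finset.univ.filter fun t => t ∈ (Subgroup.centralizer ({x'} : Set G)))) (fun t _ ht => ?_),
      Finset.sum_congr rfl (g := fun _ => w ⟨y, hm⟩) (fun t ht => ?_), Finset.sum_const, nsmul_eq_mul,
      show (Finset.univ.filter fun t => t ∈ (Subgroup.centralizer ({x'} : Set G))).card = Nat.card (Subgroup.centralizer ({x'} : Set G)) by
        rw [Nat.card_eq_fintype_card, Fintype.card_subtype], inv_mul_cancel_left₀]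
    · exact Nat.cast_ne_zero.mpr Nat.card_pos.ne'
    · have htC : t ∈ (Subgroup.centralizer ({x'} : Set G)) := (Finset.mem_filter.mp ht).2
      have e : x'⁻¹ * (t * (x' * y) * t⁻¹) = t * y * t⁻¹ := by
        rw [← mul_assoc t x', Subgroup.mem_centralizer_singleton_iff.mp htC]; group
      rw [e, CharInd.extendByZero_mem _ ((Subgroup.centralizer ({x'} : Set G)).mul_mem ((Subgroup.centralizer ({x'} : Set G)).mul_mem htC hm) ((Subgroup.centralizer ({x'} : Set G)).inv_mem htC))]
      exact hw ⟨y, hm⟩ ⟨t, htC⟩
    · by_contra hne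
      refine ht (Finset.mem_filter.mpr ⟨Finset.mem_univ _, Subgroup.mem_centralizer_singleton_iff.mpr ?_⟩)
      exact mul_inv_eq_iff_eq_mul.mp (key t hne)

theorem induced_unique (hM : IsPModular p M) {H : Subgroup G} {b : Set (IrrCharacter H)}
    {B B' : Set (IrrCharacter G)} (h : IsInducedBlock M H b B) (h' : IsInducedBlock M H b B') : B = B' := by
  have := isPrime hM
  obtain ⟨ξ, hξ⟩ := isPBlock_nonempty h.1
  obtain ⟨χ, hχ⟩ := isPBlock_nonempty h.2.1
  obtain ⟨χ', hχ'⟩ := isPBlock_nonempty h'.2.1
  refine isPBlock_eq_of_mem h.2.1 h'.2.1 ?_ hχ'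
  rw [isPBlock_eq_blockOf h.2.1 hχ]
  intro g
  have := memLocalIdeal_sub (h'.2.2 ξ hξ χ' hχ' g) (h.2.2 ξ hξ χ hχ g)
  simpa using this

theorem induced_exists (hM : IsPModular p M) {z : G} {k : ℕ} (hz : orderOf z = p ^ k)
    {b : Set (IrrCharacter (Subgroup.centralizer ({z} : Set G)))} (hb : IsPBlock M b) :
    ∃ B, IsInducedBlock M (Subgroup.centralizer ({z} : Set G)) b B := by
  have := Fintype.ofFinite G
  have := Fintype.ofFinite (Subgroup.centralizer ({z} : Set G))
  exact inducedBlockDefined hM (isPGroup_zpowers (p := p) hz)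
    (Subgroup.zpowers_le.mpr (Subgroup.mem_centralizer_singleton_iff.mpr rfl))
    (by rw [BlocksCore.centralizer_zpowers]) (centralizer_le_normalizer_zpowers z) hb

/-- The blocks of the centralizer of `x` inducing `B`. -/
abbrev Subsec (M : Ideal AlgInt) (x : G) (B : Set (IrrCharacter G)) : Type _ :=
  {b : Set (IrrCharacter (Subgroup.centralizer ({x} : Set G))) //
    IsInducedBlock M (Subgroup.centralizer ({x} : Set G)) b B}

theorem finite_blockSets (H : Type*) [Group H] [Finite H] : Finite (Set (IrrCharacter H)) := by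
  have := Fintype.ofFinite H
  have := finite_irr (G := H)
  infer_instance

/-- Brauer's count. -/
theorem natCard_eq_sum_blockRank (hM : IsPModular p M) {B : Set (IrrCharacter G)} (hB : IsPBlock M B)
    (X : Finset G) (hX : ∀ x ∈ X, ∃ k : ℕ, orderOf x = p ^ k)
    (hXrep : ∀ g : G, (∃ k : ℕ, orderOf g = p ^ k) → ∃! x, x ∈ X ∧ IsConj g x) :
    Nat.card B = ∑ x ∈ X, ∑ᶠ b ∈ {b : Set (IrrCharacter (Subgroup.centralizer ({x} : Set G))) |
      IsInducedBlock M (Subgroup.centralizer ({x} : Set G)) b B}, blockRank p b := by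
  classical
  have := isPrime hM
  have := Fintype.ofFinite G
  have hfin : ∀ x : G, Finite (IrrCharacter (Subgroup.centralizer ({x} : Set G))) := fun x => finite_irr
  have := finite_irr (G := G)
  let iI := Fintype.ofFinite (IrrCharacter G)
  let iF : ∀ x : G, Fintype (Set (IrrCharacter (Subgroup.centralizer ({x} : Set G)))) := fun x => Fintype.ofFinite _
  -- sections separate class functions
  have hdec : ∀ f : G → ℂ, IsClassFunction G f →
      (∀ x ∈ X, ∀ y : Subgroup.centralizer ({x} : Set G), ¬ p ∣ orderOf y → f (x * y) = 0) → f = 0 := by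
    intro f hf h
    funext g
    obtain ⟨hc, hy⟩ := regular_inv_pp_mul (p := p) g
    obtain ⟨-, -, -, hk, -⟩ := pp_spec (p := p) g
    obtain ⟨x, ⟨hx, hconj⟩, -⟩ := hXrep _ hk
    obtain ⟨t, ht⟩ := isConj_iff.mp hconj
    set y := t * ((pp p g)⁻¹ * g) * t⁻¹ with hydef
    have hcx : Commute x y := by
      rw [← ht, hydef]
      exact Commute.map hc (MulAut.conj t).toMonoidHom
    have hyC : y ∈ Subgroup.centralizer ({x} : Set G) := Subgroup.mem_centralizer_singleton_iff.mpr hcx.symm
    have hyo : ¬ p ∣ orderOf (⟨y, hyC⟩ : Subgroup.centralizer ({x} : Set G)) := by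
      rw [Subgroup.orderOf_mk, hydef, orderOf_conjugate]; exact hy
    have h1 := h x hx ⟨y, hyC⟩ hyo
    rw [← hf g t, show t * g * t⁻¹ = x * y by rw [← ht, hydef]; group]
    exact h1
  -- the upper bound for every block
  let r : Set (IrrCharacter G) → ℕ := fun B' => ∑ x : X, ∑ b : Subsec M (x : G) B', blockRank p b.1
  have hupper : ∀ B', IsPBlock M B' → Nat.card B' ≤ r B' := by
    intro B' hB'
    have := Fintype.ofFinite B'
    let L : (B' → ℂ) →ₗ[ℂ] (G → ℂ) :=
      Fintype.linearCombination ℂ fun χ : B' => ((χ : IrrCharacter G) : G → ℂ)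
    have hL : ∀ v, L v ∈ Submodule.span ℂ ((fun χ : IrrCharacter G => (χ : G → ℂ)) '' B') := fun v => by
      rw [Fintype.linearCombination_apply]
      exact Submodule.sum_mem _ fun χ _ => Submodule.smul_mem _ _ (Submodule.subset_span ⟨χ, χ.2, rfl⟩)
    let Φ : (B' → ℂ) →ₗ[ℂ] (∀ x : X, ∀ b : Subsec M (x : G) B', regSpan p b.1) :=
      LinearMap.pi fun x => LinearMap.pi fun b =>
        ((sectMap p (x : G) b.1).comp L).codRestrict _ (fun v => sectMap_mem _ _ _)
    have hinj : Function.Injective Φ := by
      rw [← LinearMap.ker_eq_bot, Submodule.eq_bot_iff]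
      intro v hv
      have hLc : IsClassFunction G (L v) := by
        intro g h
        simp only [L, Fintype.linearCombination_apply, Finset.sum_apply, Pi.smul_apply]
        exact Finset.sum_congr rfl fun χ _ => by rw [CharCore.irr_isClassFunction]
      have h0 : L v = 0 := hdec _ hLc fun x hx y hy => by
        obtain ⟨k, hk⟩ := hX x hx
        refine eq_zero_of_sectMap hM hB' (hL v) hLc hk (fun b hb => ?_) y hy
        have h1 := congrArg Subtype.val (congrFun (congrFun (LinearMap.mem_ker.mp hv) ⟨x, hx⟩) ⟨b, hb⟩)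
        exact h1
      funext χ
      have h2 : classInner (L v) ((χ : IrrCharacter G) : G → ℂ) = v χ := by
        simp only [L, Fintype.linearCombination_apply]
        rw [CharCore.classInner_sum_left, Finset.sum_eq_single χ]
        · rw [CharCore.classInner_smul_left, CharCore.classInner_irr_self, mul_one]
        · intro η _ hne
          rw [CharCore.classInner_smul_left, CharCore.classInner_irr_of_ne (fun he => hne (Subtype.ext he)), mul_zero]
        · simp
      rw [← h2, h0]; simp [classInner]
    have h := LinearMap.finrank_le_finrank_of_injective hinj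
    rw [Module.finrank_pi, Module.finrank_pi_fintype ℂ] at h
    simp only [Module.finrank_pi_fintype ℂ] at h
    rw [Nat.card_eq_fintype_card]
    exact h
  -- the lower bound in total
  let AllB : G → Type _ := fun x => {b : Set (IrrCharacter (Subgroup.centralizer ({x} : Set G))) // IsPBlock M b}
  let Ψ : (∀ x : X, ∀ b : AllB (x : G), regSpan p b.1) → (IrrCharacter G → ℂ) := fun v χ =>
    classInner (∑ x : X, spread (x : G) (∑ b : AllB (x : G), (v x b : Subgroup.centralizer ({(x : G)} : Set G) → ℂ))) (χ : G → ℂ)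
  have hspread_lin : ∀ (x : G) (u w : Subgroup.centralizer ({x} : Set G) → ℂ) (a : ℂ),
      spread x (a • u + w) = a • spread x u + spread x w := by
    intro x u w a
    funext g
    simp only [spread, Pi.add_apply, Pi.smul_apply, smul_eq_mul]
    rw [Finset.mul_sum, Finset.mul_sum, Finset.mul_sum, Finset.mul_sum, ← Finset.sum_add_distrib]
    refine Finset.sum_congr rfl fun t _ => ?_
    by_cases hm : x⁻¹ * (t * g * t⁻¹) ∈ Subgroup.centralizer ({x} : Set G)
    · rw [CharInd.extendByZero_mem _ hm, CharInd.extendByZero_mem _ hm, CharInd.extendByZero_mem _ hm]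
      simp only [Pi.add_apply, Pi.smul_apply, smul_eq_mul]; ring
    · rw [CharInd.extendByZero_notMem _ hm, CharInd.extendByZero_notMem _ hm, CharInd.extendByZero_notMem _ hm]
      ring
  have hΨlin : ∀ u w (a : ℂ), Ψ (a • u + w) = a • Ψ u + Ψ w := by
    intro u w a
    funext χ
    simp only [Ψ, Pi.add_apply, Pi.smul_apply, smul_eq_mul, Submodule.coe_add, Submodule.coe_smul,
      Finset.sum_add_distrib, ← Finset.smul_sum, hspread_lin]
    simp only [classInner, Pi.add_apply, Pi.smul_apply, smul_eq_mul, add_mul, Finset.sum_add_distrib, mul_add,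
      Finset.mul_sum]
    congr 1
    exact Finset.sum_congr rfl fun _ _ => by ring
  have hΨ0 : Ψ 0 = 0 := by
    have := hΨlin 0 0 1
    simpa using this
  let ΨL : (∀ x : X, ∀ b : AllB (x : G), regSpan p b.1) →ₗ[ℂ] (IrrCharacter G → ℂ) :=
    { toFun := Ψ
      map_add' := fun u w => by have := hΨlin u w 1; simpa using this
      map_smul' := fun a u => by have := hΨlin u 0 a; simpa [hΨ0] using this }
  have hΨinj : Function.Injective ΨL := by
    rw [← LinearMap.ker_eq_bot, Submodule.eq_bot_iff]
    intro v hv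
    set F := ∑ x : X, spread (x : G) (∑ b : AllB (x : G), (v x b : Subgroup.centralizer ({(x : G)} : Set G) → ℂ)) with hF
    have hFc : IsClassFunction G F := by
      intro g h
      simp only [hF, Finset.sum_apply]
      exact Finset.sum_congr rfl fun x _ => isClassFunction_spread _ _ g h
    have hF0 : F = 0 := CharCore.eq_zero_of_classInner_irr_eq_zero hFc fun χ => congrFun (LinearMap.mem_ker.mp hv) χ
    funext x
    refine regSpan_indep (p := p) hM (fun b : AllB (x : G) => b.1) Subtype.val_injective (fun b => b.2) (v x) ?_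
    obtain ⟨k, hk⟩ := hX x x.2
    have hw : ∀ x' : X, IsClassFunction _ (∑ b : AllB (x' : G), (v x' b : Subgroup.centralizer ({(x' : G)} : Set G) → ℂ)) ∧
        ∀ c, p ∣ orderOf c → (∑ b : AllB (x' : G), (v x' b : Subgroup.centralizer ({(x' : G)} : Set G) → ℂ)) c = 0 := fun x' =>
      ⟨fun c d => by
        simp only [Finset.sum_apply]
        exact Finset.sum_congr rfl fun b _ => (isClassFunction_of_mem_regSpan (v x' b).2).1 c d,
      fun c hc => by
        simp only [Finset.sum_apply]
        exact Finset.sum_eq_zero fun b _ => (isClassFunction_of_mem_regSpan (v x' b).2).2 c hc⟩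
    funext y
    by_cases hy : p ∣ orderOf y
    · exact (hw x).2 y hy
    have h1 := congrFun hF0 ((x : G) * y)
    simp only [hF, Finset.sum_apply, Pi.zero_apply] at h1
    have hy' : ¬ p ∣ orderOf (y : G) := by rwa [Subgroup.orderOf_coe]
    have hcy : Commute (x : G) (y : G) := (Subgroup.mem_centralizer_singleton_iff.mp y.2).symm
    rw [Finset.sum_eq_single x] at h1
    · rw [(spread_apply hk hk (hw x).1 (hw x).2 hy' hcy).2 rfl y.2] at h1
      exact h1
    · intro x' _ hne
      obtain ⟨k', hk'⟩ := hX x' x'.2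
      refine (spread_apply hk' hk (hw x').1 (hw x').2 hy' hcy).1 fun hc => hne (Subtype.ext ?_)
      obtain ⟨x₀, -, hu⟩ := hXrep x ⟨k, hk⟩
      rw [hu x' ⟨x'.2, hc⟩, hu x ⟨x.2, IsConj.refl _⟩]
    · simp
  have hlower : ∑ x : X, ∑ b : AllB (x : G), blockRank p b.1 ≤ Nat.card (IrrCharacter G) := by
    have h := LinearMap.finrank_le_finrank_of_injective hΨinj
    rw [Module.finrank_pi, Module.finrank_pi_fintype ℂ] at h
    simp only [Module.finrank_pi_fintype ℂ] at h
    rw [Nat.card_eq_fintype_card]
    exact h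
  -- comparison
  set 𝔅 : Finset (Set (IrrCharacter G)) :=
    Finset.univ.image (fun χ : IrrCharacter G => blockOf M (χ : G → ℂ)) with h𝔅
  have hmem : ∀ B', B' ∈ 𝔅 ↔ IsPBlock M B' := fun B' => by
    simp [h𝔅, IsPBlock, eq_comm]
  have hcount : ∑ B' ∈ 𝔅, Nat.card B' = Nat.card (IrrCharacter G) := by
    rw [Nat.card_eq_fintype_card, ← Finset.card_univ, Finset.card_eq_sum_card_image
      (fun χ : IrrCharacter G => blockOf M (χ : G → ℂ))]
    refine Finset.sum_congr rfl fun B' hB' => ?_
    rw [Nat.card_eq_card_toFinset]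
    congr 1
    ext χ
    simp only [Set.mem_toFinset, Finset.mem_filter, Finset.mem_univ, true_and]
    exact ⟨fun h => (isPBlock_eq_blockOf ((hmem B').mp hB') h).symm, fun h => h ▸ mem_blockOf_self χ⟩
  have hsum : ∑ B' ∈ 𝔅, r B' = ∑ x : X, ∑ b : AllB (x : G), blockRank p b.1 := by
    simp only [r]
    rw [Finset.sum_comm]
    refine Finset.sum_congr rfl fun x _ => ?_
    obtain ⟨k, hk⟩ := hX x x.2
    choose I hI using fun b : AllB (x : G) => induced_exists hM hk b.2
    rw [← Finset.sum_fiberwise_of_maps_to (t := 𝔅) (g := I) (fun b _ => (hmem _).mpr (hI b).2.1)]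
    refine Finset.sum_congr rfl fun B' _ => ?_
    refine Finset.sum_bij' (fun b _ => (⟨b.1, b.2.1⟩ : AllB (x : G)))
      (fun b hb => ⟨b.1, (Finset.mem_filter.mp hb).2 ▸ hI b⟩) ?_ ?_ ?_ ?_ ?_
    · intro b _
      exact Finset.mem_filter.mpr ⟨Finset.mem_univ _, induced_unique hM (hI _) b.2⟩
    · intros; exact Finset.mem_univ _
    · intros; rfl
    · intros; rfl
    · intros; rfl
  have heq : ∀ B' ∈ 𝔅, Nat.card B' = r B' := by
    refine (Finset.sum_eq_sum_iff_of_le fun B' hB' => hupper B' ((hmem B').mp hB')).mp ?_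
    refine le_antisymm (Finset.sum_le_sum fun B' hB' => hupper B' ((hmem B').mp hB')) ?_
    rw [hcount, hsum]; exact hlower
  rw [heq B ((hmem B).mpr hB), ← Finset.sum_coe_sort]
  refine Finset.sum_congr rfl fun x _ => ?_
  rw [← finsum_set_coe_eq_finsum_mem, finsum_eq_sum_of_fintype]
  rfl

end Cfsg.Agent.BC84
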