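import Mathlib.GroupTheory.Transfer
import Mathlib.GroupTheory.Sylow

/-!
# The `p'`-part of the centralizer of a Sylow `p`-subgroup
-/

set_option autoImplicit false
set_option linter.unusedSectionVars false

namespace Cfsg.Agent.BC84

variable {G : Type*} [Group G] [Finite G] {p : ℕ} [Fact p.Prime]

/-- `C_G(P)` has a subgroup `K` consisting of its `p`-regular elements, and projects onto it. -/
theorem exists_regular_centralizer (P : Sylow p G) :
    ∃ (K : Subgroup (Subgroup.centralizer ((P : Subgroup G) : Set G))),
      (∀ c, c ∈ K ↔ ¬ p ∣ orderOf c) ∧ ¬ p ∣ Nat.card K ∧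
      ∃ π : Subgroup.centralizer ((P : Subgroup G) : Set G) →* K, ∀ k : K, π (k : _) = k := by
  classical
  set C := Subgroup.centralizer ((P : Subgroup G) : Set G) with hC
  set Q := (P : Subgroup G).subgroupOf C with hQ
  have hQc : Q ≤ Subgroup.center C := fun q hq => Subgroup.mem_center_iff.mpr fun c =>
    Subtype.ext (Subgroup.mem_centralizer_iff.mp c.2 q (Subgroup.mem_subgroupOf.mp hq)).symm
  have hQp : IsPGroup p Q := P.2.comap_of_injective C.subtype (Subgroup.subtype_injective C)
  have hQi : ¬ p ∣ Q.index := by
    intro h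
    have hCN : C ≤ Subgroup.normalizer ((P : Subgroup G) : Set G) := by
      intro c hc
      rw [Subgroup.mem_normalizer_iff]
      intro x
      constructor <;> intro hx
      · rw [← Subgroup.mem_centralizer_iff.mp hc x hx, mul_inv_cancel_right]; exact hx
      · have h1 := Subgroup.mem_centralizer_iff.mp hc _ hx
        have : x = c * x * c⁻¹ := by
          calc x = c⁻¹ * ((c * x * c⁻¹) * c) := by group
            _ = c⁻¹ * (c * (c * x * c⁻¹)) := by rw [h1]
            _ = c * x * c⁻¹ := by group
        rw [this]; exact hx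
    have hd : (P : Subgroup G).relIndex C ∣
        (P : Subgroup G).relIndex (Subgroup.normalizer ((P : Subgroup G) : Set G)) := by
      set N := Subgroup.normalizer ((P : Subgroup G) : Set G)
      have hn : ((P : Subgroup G).subgroupOf N).Normal := Subgroup.normal_in_normalizer
      have h1 := Subgroup.relIndex_dvd_index_of_normal ((P : Subgroup G).subgroupOf N) (C.subgroupOf N)
      rwa [Subgroup.relIndex_subgroupOf hCN] at h1
    exact P.not_dvd_index (h.trans (hd.trans
      (Subgroup.relIndex_dvd_index_of_le Subgroup.le_normalizer)))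
  let R : Sylow p C := hQp.toSylow hQi
  have hR : (R : Subgroup C) = Q := rfl
  have hle : Subgroup.normalizer (R : Set C) ≤ Subgroup.centralizer ((R : Subgroup C) : Set C) :=
    fun g _ => Subgroup.mem_centralizer_iff.mpr fun q hq => (Subgroup.mem_center_iff.mp (hQc hq) g).symm
  have hcompl := MonoidHom.ker_transferSylow_isComplement' R hle
  set K := (MonoidHom.transferSylow R hle).ker with hK
  have hKcard : Nat.card K = Q.index := (hcompl.index_eq_card).symm.trans (by rw [hR])
  refine ⟨K, fun c => ?_, hKcard ▸ hQi, ?_⟩
  · constructor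
    · intro hc hp
      have := orderOf_dvd_natCard (⟨c, hc⟩ : K)
      rw [Subgroup.orderOf_mk, hKcard] at this
      exact hQi (hp.trans this)
    · intro hc
      have h1 : orderOf (MonoidHom.transferSylow R hle c) ∣ orderOf c := orderOf_map_dvd _ c
      obtain ⟨n, hn⟩ := R.2 (MonoidHom.transferSylow R hle c)
      have h2 := orderOf_dvd_of_pow_eq_one hn
      have hco : Nat.Coprime (p ^ n) (orderOf c) :=
        Nat.Coprime.pow_left _ ((Fact.out : p.Prime).coprime_iff_not_dvd.mpr hc)
      rw [hK, MonoidHom.mem_ker]
      exact orderOf_eq_one_iff.mp (Nat.eq_one_of_dvd_coprimes hco h2 h1)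
  · haveI : Q.Normal := ⟨fun q hq g => by
      have := Subgroup.mem_center_iff.mp (hQc hq) g
      rw [this, mul_inv_cancel_right]; exact hq⟩
    rw [hR] at hcompl
    let e := Subgroup.IsComplement'.QuotientMulEquiv hcompl
    refine ⟨e.toMonoidHom.comp (QuotientGroup.mk' Q), fun k => ?_⟩
    show e ((k : C) : C ⧸ Q) = k
    exact e.symm.injective (e.symm_apply_apply _)

end Cfsg.Agent.BC84
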