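import Cfsg.Prelude.Def_Solvable
import Cfsg.Prelude.Def_Local
import Cfsg.Agent.FG78.MaximalClass
import Cfsg.Agent.Lib.PGroup.Basic
import Cfsg.Agent.Lib.Transfer.Tate
import Cfsg.Agent.Lib.Components.GenFitting
import Cfsg.Agent.Lib.Solvable.Basic
import Cfsg.Agent.Lib.Fitting.Minimal

/-!
# `|P : P'| = p²` and `p`-elements with centralizer `p`-part `p²`
-/

set_option autoImplicit false

open Cfsg
open scoped commutatorElement Pointwise IsMulCommutative

namespace Cfsg.Agent.BC84.PSquare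

universe u

section PGroupFacts

variable {p : ℕ} [Fact p.Prime] {X : Type*} [Group X] [Finite X]

/-- A finite subgroup mapped into itself by conjugation is normalised. -/
theorem mem_normalizer_of_map_le {H : Subgroup X} {g : X}
    (h : H.map (MulAut.conj g).toMonoidHom ≤ H) : g ∈ Subgroup.normalizer (H : Set X) :=
  Components.map_conj_eq_iff_mem_normalizer.mp (Subgroup.eq_of_le_of_card_ge h
    (by rw [Subgroup.card_map_of_injective (MulEquiv.injective _)]))

omit [Finite X] in
/-- A normal subgroup swallowing the commutators of generators contains the derived subgroup. -/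
theorem commutator_le_of_generators {R M : Subgroup X} [M.Normal] (y : X)
    (htop : R ⊔ Subgroup.zpowers y = ⊤) (hRR : ⁅R, R⁆ ≤ M)
    (hRy : ∀ r ∈ R, r * y * r⁻¹ * y⁻¹ ∈ M) : commutator X ≤ M := by
  let q := QuotientGroup.mk' M
  have hcomm : ∀ a b : X, a * b * a⁻¹ * b⁻¹ ∈ M → q a * q b = q b * q a := fun a b h => by
    have h' := (QuotientGroup.eq_one_iff _).mpr h
    change q (a * b * a⁻¹ * b⁻¹) = 1 at h'
    simp only [map_mul, map_inv] at h'
    rwa [mul_inv_eq_one, mul_inv_eq_iff_eq_mul] at h'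
  have hy : ∀ x, q x * q y = q y * q x := by
    intro x
    have hle : (⊤ : Subgroup X) ≤ (Subgroup.centralizer {q y}).comap q := by
      rw [← htop, sup_le_iff, Subgroup.zpowers_le]
      exact ⟨fun r hr => Subgroup.mem_centralizer_singleton_iff.mpr (hcomm r y (hRy r hr)),
        Subgroup.mem_centralizer_singleton_iff.mpr rfl⟩
    exact Subgroup.mem_centralizer_singleton_iff.mp (hle (Subgroup.mem_top x))
  have hr : ∀ r ∈ R, ∀ x, q x * q r = q r * q x := by
    intro r hr x
    have hle : (⊤ : Subgroup X) ≤ (Subgroup.centralizer {q r}).comap q := by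
      rw [← htop, sup_le_iff, Subgroup.zpowers_le]
      refine ⟨fun s hs => Subgroup.mem_centralizer_singleton_iff.mpr (hcomm s r (hRR ?_)),
        Subgroup.mem_centralizer_singleton_iff.mpr (hy r).symm⟩
      exact Subgroup.commutator_mem_commutator hs hr
    exact Subgroup.mem_centralizer_singleton_iff.mp (hle (Subgroup.mem_top x))
  have hall : ∀ a b, q a * q b = q b * q a := by
    intro a b
    have hle : (⊤ : Subgroup X) ≤ (Subgroup.centralizer {q b}).comap q := by
      rw [← htop, sup_le_iff, Subgroup.zpowers_le]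
      exact ⟨fun r hr' => Subgroup.mem_centralizer_singleton_iff.mpr (hr r hr' b).symm,
        Subgroup.mem_centralizer_singleton_iff.mpr (hy b).symm⟩
    exact Subgroup.mem_centralizer_singleton_iff.mp (hle (Subgroup.mem_top a))
  rw [commutator_def, Subgroup.commutator_le]
  intro a _ b _
  rw [← QuotientGroup.eq_one_iff]
  change q ⁅a, b⁆ = 1
  rw [map_commutatorElement, commutatorElement_eq_one_iff_mul_comm]
  exact hall a b

theorem eq_bot_of_commutator_index_le (hX : IsPGroup p X) (h : (commutator X).index ≤ p) :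
    commutator X = ⊥ := by
  have hle : (frattini X).index ≤ p :=
    (Nat.le_of_dvd (Nat.pos_of_ne_zero Subgroup.index_ne_zero_of_finite)
      (Subgroup.index_dvd_of_le (PGroup.commutator_le_frattini hX))).trans h
  haveI := PGroup.isCyclic_of_index_frattini_le hX hle
  exact (commutator_eq_bot_iff_center_eq_top _).mpr (by
    rw [eq_top_iff]
    exact fun a _ => Subgroup.mem_center_iff.mpr fun b => mul_comm' b a)

/-- A normal subgroup not inside the derived subgroup. -/
theorem eq_top_or_index_eq (hX : IsPGroup p X) (hXd : (commutator X).index = p ^ 2)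
    (R : Subgroup X) [R.Normal] (hR : ¬ R ≤ commutator X) : R = ⊤ ∨ R.index = p := by
  have hp := (Fact.out : p.Prime)
  have hdvd : (R ⊔ commutator X).index ∣ p ^ 2 := hXd ▸ Subgroup.index_dvd_of_le le_sup_right
  obtain ⟨i, hi2, hi⟩ := (Nat.dvd_prime_pow hp).mp hdvd
  have hne : i ≠ 2 := fun h2 => by
    have h3 := Subgroup.relIndex_mul_index (le_sup_right : commutator X ≤ R ⊔ commutator X)
    rw [hi, h2, hXd, mul_eq_right₀ (pow_ne_zero _ hp.ne_zero), Subgroup.relIndex_eq_one] at h3
    exact hR (le_sup_left.trans h3)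
  interval_cases i
  · left
    rw [pow_zero, Subgroup.index_eq_one] at hi
    refine frattini_nongenerating (top_le_iff.mp ?_)
    rw [← hi]
    exact sup_le_sup_left (PGroup.commutator_le_frattini hX) R
  · right
    rw [pow_one] at hi
    let q := QuotientGroup.mk' R
    have hmap : (commutator X).map q = commutator (X ⧸ R) := by
      rw [commutator_def, commutator_def, Subgroup.map_commutator,
        Subgroup.map_top_of_surjective q (QuotientGroup.mk'_surjective R)]
    have h1 : (commutator (X ⧸ R)).index = p := by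
      rw [← hmap, Subgroup.index_map, MonoidHom.range_eq_top.mpr (QuotientGroup.mk'_surjective R), Subgroup.index_top, mul_one, QuotientGroup.ker_mk', sup_comm]
      exact hi
    have h2 := eq_bot_of_commutator_index_le (hX.to_quotient R) h1.le
    rwa [h2, Subgroup.index_bot, ← Subgroup.index_eq_card] at h1
  · exact absurd rfl hne

/-- An abelian subgroup of index `p` in a group with derived subgroup of index `p²`. -/
theorem card_centralizer_of_abelian (hXd : (commutator X).index = p ^ 2) (R : Subgroup X)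
    [R.Normal] (hab : ∀ a ∈ R, ∀ b ∈ R, a * b = b * a) (hR : R.index = p) {y : X} (hy : y ∉ R) :
    Nat.card (Subgroup.centralizer ({y} : Set X)) = p ^ 2 := by
  have hp := (Fact.out : p.Prime)
  have htop : R ⊔ Subgroup.zpowers y = ⊤ := by
    rw [← Subgroup.index_eq_one]
    have hd : (R ⊔ Subgroup.zpowers y).index ∣ p := hR ▸ Subgroup.index_dvd_of_le le_sup_left
    refine ((Nat.dvd_prime hp).mp hd).resolve_right fun h => hy ?_
    have h3 := Subgroup.relIndex_mul_index (le_sup_left : R ≤ R ⊔ Subgroup.zpowers y)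
    rw [h, hR, mul_eq_right₀ hp.ne_zero, Subgroup.relIndex_eq_one] at h3
    exact h3 (Subgroup.mem_sup_right (Subgroup.mem_zpowers y))
  have hmem : ∀ r ∈ R, r * y * r⁻¹ * y⁻¹ ∈ R := fun r hr => by
    have := R.mul_mem hr (Subgroup.Normal.conj_mem ‹R.Normal› r⁻¹ (R.inv_mem hr) y)
    simpa [mul_assoc] using this
  let φ : R →* X := MonoidHom.mk' (fun r => (r : X) * y * (r : X)⁻¹ * y⁻¹) fun a b => by
    have h1 : y * (b : X)⁻¹ * y⁻¹ ∈ R :=
      Subgroup.Normal.conj_mem ‹R.Normal› _ (R.inv_mem b.2) y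
    have h2 := hab _ (R.mul_mem b.2 h1) _ (Subgroup.Normal.conj_mem ‹R.Normal› _ (R.inv_mem a.2) y)
    simp only [Subgroup.coe_mul, mul_inv_rev]
    calc (a : X) * b * y * ((b : X)⁻¹ * (a : X)⁻¹) * y⁻¹
        = (a : X) * ((b * (y * (b : X)⁻¹ * y⁻¹)) * (y * (a : X)⁻¹ * y⁻¹)) := by group
      _ = (a : X) * ((y * (a : X)⁻¹ * y⁻¹) * (b * (y * (b : X)⁻¹ * y⁻¹))) := by rw [h2]
      _ = _ := by group
  set I := φ.range with hI
  have hIR : I ≤ R := by
    rintro _ ⟨r, rfl⟩
    exact hmem r r.2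
  haveI : I.Normal := by
    refine ⟨fun z hz g => ?_⟩
    have hg : g ∈ (Subgroup.normalizer (I : Set X)) := by
      have hle : (⊤ : Subgroup X) ≤ Subgroup.normalizer (I : Set X) := by
        rw [← htop, sup_le_iff, Subgroup.zpowers_le]
        refine ⟨fun r hr => ?_, ?_⟩
        · rw [Subgroup.mem_normalizer_iff]
          intro z
          constructor
          · intro hz
            rwa [hab r hr z (hIR hz), mul_inv_cancel_right]
          · intro hz
            have hzR : z ∈ R := by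
              have := R.mul_mem (R.mul_mem (R.inv_mem hr) (hIR hz)) hr
              simpa [mul_assoc] using this
            rwa [hab r hr z hzR, mul_inv_cancel_right] at hz
        · apply mem_normalizer_of_map_le
          rintro _ ⟨_, ⟨r, rfl⟩, rfl⟩
          exact ⟨⟨y * r * y⁻¹, Subgroup.Normal.conj_mem ‹R.Normal› _ r.2 y⟩, by simp [φ, mul_assoc]⟩
      exact hle (Subgroup.mem_top g)
    exact (Subgroup.mem_normalizer_iff.mp hg z).mp hz
  have hIeq : I = commutator X := by
    refine le_antisymm ?_ (commutator_le_of_generators y htop ?_ fun r hr => ⟨⟨r, hr⟩, rfl⟩)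
    · rintro _ ⟨r, rfl⟩
      exact Subgroup.commutator_mem_commutator (Subgroup.mem_top (r : X)) (Subgroup.mem_top y)
    · rw [Subgroup.commutator_le]
      intro a ha b hb
      rw [commutatorElement_eq_one_iff_mul_comm.mpr (hab a ha b hb)]
      exact I.one_mem
  set C := Subgroup.centralizer ({y} : Set X) with hC
  have hker : φ.ker = C.subgroupOf R := by
    ext r
    rw [MonoidHom.mem_ker, Subgroup.mem_subgroupOf, hC, Subgroup.mem_centralizer_singleton_iff]
    change (r : X) * y * (r : X)⁻¹ * y⁻¹ = 1 ↔ _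
    rw [mul_inv_eq_one, mul_inv_eq_iff_eq_mul]
  -- the centralizer meets R in order p
  have h1 : Nat.card φ.ker * Nat.card I = Nat.card R := by
    rw [hI, ← Subgroup.index_ker, Subgroup.card_mul_index]
  have h2 : Nat.card (commutator X) * p ^ 2 = Nat.card R * p := by
    rw [← hXd, Subgroup.card_mul_index, ← hR, Subgroup.card_mul_index]
  have h3 : Nat.card φ.ker = p := by
    rw [← hIeq] at h2
    rw [← h1, mul_right_comm, mul_comm (Nat.card φ.ker * p)] at h2
    have := Nat.eq_of_mul_eq_mul_left Nat.card_pos h2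
    rw [pow_two] at this
    exact (Nat.eq_of_mul_eq_mul_right hp.pos this).symm
  -- the centralizer covers the quotient
  have h4 : R.relIndex C = p := by
    have hCR : C ⊔ R = ⊤ := top_le_iff.mp (htop ▸ sup_le le_sup_right
      ((Subgroup.zpowers_le.mpr (Subgroup.mem_centralizer_singleton_iff.mpr rfl)).trans le_sup_left))
    rw [← Subgroup.relIndex_sup_right, hCR,
      Subgroup.relIndex_top_right, hR]
  have h5 := (R.subgroupOf C).card_mul_index
  rw [← Subgroup.relIndex, h4] at h5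
  have h6 : Nat.card (R.subgroupOf C) = Nat.card φ.ker := by
    rw [hker]
    exact Nat.card_congr
      { toFun := fun x => ⟨⟨(x.1 : X), x.2⟩, x.1.2⟩
        invFun := fun x => ⟨⟨(x.1 : X), x.2⟩, x.1.2⟩
        left_inv := fun _ => rfl
        right_inv := fun _ => rfl }
  rw [h6, h3] at h5
  rw [← h5, pow_two]

end PGroupFacts

section Sylow

variable {p : ℕ} [Fact p.Prime] {G : Type*} [Group G] [Finite G]

/-- The `p`-part of a centralizer is computed inside a fixed Sylow subgroup. -/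
theorem exists_mem_sylow_centralizer (P : Sylow p G) {x : G} (hx : ∃ k : ℕ, orderOf x = p ^ k) :
    ∃ g : G, ∃ h : g * x * g⁻¹ ∈ (P : Subgroup G),
      Nat.card (Subgroup.centralizer ({(⟨_, h⟩ : (P : Subgroup G))} : Set (P : Subgroup G))) =
        p ^ (Nat.card (Subgroup.centralizer ({x} : Set G))).factorization p := by
  set C := Subgroup.centralizer ({x} : Set G) with hC
  obtain ⟨k, hk⟩ := hx
  have hxC : x ∈ C := Subgroup.mem_centralizer_singleton_iff.mpr rfl
  obtain ⟨Q₀, hQ₀⟩ := (IsPGroup.of_card (p := p) (n := k)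
    (show Nat.card (Subgroup.zpowers (⟨x, hxC⟩ : C)) = p ^ k by
      rw [Nat.card_zpowers, Subgroup.orderOf_mk, hk])).exists_le_sylow
  have hxQ : x ∈ (Q₀ : Subgroup C).map C.subtype := ⟨⟨x, hxC⟩, hQ₀ (Subgroup.mem_zpowers _), rfl⟩
  obtain ⟨P₁, hP₁⟩ := (Q₀.2.map C.subtype).exists_le_sylow
  obtain ⟨g, hg⟩ := MulAction.exists_smul_eq G P₁ P
  have hgP : ∀ z ∈ (P₁ : Subgroup G), g * z * g⁻¹ ∈ (P : Subgroup G) := fun z hz => by
    rw [← hg]
    exact Subgroup.smul_mem_pointwise_smul z (MulAut.conj g) _ hz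
  refine ⟨g, hgP x (hP₁ hxQ), ?_⟩
  set D := Subgroup.centralizer ({(⟨_, hgP x (hP₁ hxQ)⟩ : (P : Subgroup G))} : Set (P : Subgroup G))
    with hD
  obtain ⟨j, hj⟩ := IsPGroup.iff_card.mp (P.2.to_subgroup D)
  have hQcard := Q₀.card_eq_multiplicity
  refine le_antisymm ?_ ?_
  · -- pulled back into the centralizer
    let ψ : D →* C := MonoidHom.mk' (fun d => ⟨g⁻¹ * ((d : (P : Subgroup G)) : G) * g, by
        have h := congrArg Subtype.val (Subgroup.mem_centralizer_singleton_iff.mp d.2)
        simp only [Subgroup.coe_mul] at h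
        rw [hC, Subgroup.mem_centralizer_singleton_iff]
        calc g⁻¹ * ((d : (P : Subgroup G)) : G) * g * x
            = g⁻¹ * (((d : (P : Subgroup G)) : G) * (g * x * g⁻¹)) * g := by group
          _ = g⁻¹ * ((g * x * g⁻¹) * ((d : (P : Subgroup G)) : G)) * g := by rw [h]
          _ = _ := by group⟩) fun a b => Subtype.ext (by simp [mul_assoc])
    have hψ : Function.Injective ψ := fun a b h => by
      have h' := congrArg Subtype.val h
      simp only [ψ, MonoidHom.mk'_apply, mul_left_inj, mul_right_inj] at h'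
      exact Subtype.ext (Subtype.ext h')
    have hd : p ^ j ∣ Nat.card C := hj ▸ (Subgroup.card_dvd_of_injective ψ hψ)
    rw [hj]
    exact Nat.pow_le_pow_right (Fact.out : p.Prime).pos
      (((Fact.out : p.Prime).pow_dvd_iff_le_factorization Nat.card_pos.ne').mp hd)
  · rw [← hQcard]
    refine Nat.card_le_card_of_injective (fun z => (⟨⟨g * ((z : C) : G) * g⁻¹,
      hgP _ (hP₁ ⟨(z : C), z.2, rfl⟩)⟩, ?_⟩ : D)) fun a b h => ?_
    · rw [hD, Subgroup.mem_centralizer_singleton_iff]
      apply Subtype.ext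
      have h := Subgroup.mem_centralizer_singleton_iff.mp (z : C).2
      simp only [Subgroup.coe_mul]
      calc g * ((z : C) : G) * g⁻¹ * (g * x * g⁻¹) = g * (((z : C) : G) * x) * g⁻¹ := by group
        _ = g * (x * ((z : C) : G)) * g⁻¹ := by rw [h]
        _ = _ := by group
    · have h' := congrArg (fun w : D => ((w : (P : Subgroup G)) : G)) h
      simp only [mul_left_inj, mul_right_inj] at h'
      exact Subtype.ext (Subtype.ext h')

/-- Class bound, and groups of maximal class have derived subgroup of index `p²`. -/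
theorem class_le_and_index_aux : ∀ (n : ℕ) {X : Type u} [Group X] [Finite X], 2 ≤ n →
    Nat.card X = p ^ n → Group.nilpotencyClass X ≤ n - 1 ∧
      (Group.nilpotencyClass X = n - 1 → (commutator X).index = p ^ 2) := by
  intro n
  induction n using Nat.strong_induction_on with
  | _ n ih =>
    intro X _ _ hn hX
    have hp := (Fact.out : p.Prime)
    haveI : Nontrivial X :=
      Finite.one_lt_card_iff_nontrivial.mp (hX ▸ Nat.one_lt_pow (by omega) hp.one_lt)
    haveI hnil : Group.IsNilpotent X := (IsPGroup.of_card hX).isNilpotent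
    set Z := Subgroup.center X with hZdef
    have hc : Group.nilpotencyClass X = Group.nilpotencyClass (X ⧸ Z) + 1 :=
      nilpotencyClass_eq_quotient_center_plus_one (G := X)
    obtain ⟨i, hin, hi⟩ := (Nat.dvd_prime_pow hp).mp (hX ▸ Subgroup.card_subgroup_dvd_card Z)
    have hi0 : i ≠ 0 := fun e => Group.IsNilpotent.center_ne_bot (G := X)
      (Subgroup.card_eq_one.mp (by rw [← hZdef, hi, e, pow_zero]))
    have hab : (∀ a b : X, a * b = b * a) → Group.nilpotencyClass X = 1 ∧ commutator X = ⊥ := by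
      intro hcm
      have hZ : Z = ⊤ := eq_top_iff.mpr fun a _ => Subgroup.mem_center_iff.mpr fun b => hcm b a
      haveI : Subsingleton (X ⧸ Z) := QuotientGroup.subsingleton_iff.mpr hZ
      rw [(Group.nilpotencyClass_zero_iff_subsingleton (G := X ⧸ Z)).mpr inferInstance] at hc
      exact ⟨hc, (commutator_eq_bot_iff_center_eq_top _).mpr hZ⟩
    by_cases hcyc : IsCyclic (X ⧸ Z)
    · obtain ⟨h1, h2⟩ := hab (commutative_of_cyclic_center_quotient (QuotientGroup.mk' Z)
        (by rw [QuotientGroup.ker_mk']))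
      refine ⟨by omega, fun hcl => ?_⟩
      rw [h2, Subgroup.index_bot, hX, show n = 2 by omega]
    have hq : Nat.card (X ⧸ Z) = p ^ (n - i) := by
      have h1 := Subgroup.card_eq_card_quotient_mul_card_subgroup Z
      rw [hX, hi, ← Nat.sub_add_cancel hin, pow_add] at h1
      exact (Nat.eq_of_mul_eq_mul_right (pow_pos hp.pos i) h1).symm
    have hni : 2 ≤ n - i := by
      rcases (show n - i = 0 ∨ n - i = 1 ∨ 2 ≤ n - i by omega) with e | e | e
      · haveI : Subsingleton (X ⧸ Z) :=
          (Nat.card_eq_one_iff_unique.mp (hq.trans (by rw [e, pow_zero]))).1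
        exact (hcyc isCyclic_of_subsingleton).elim
      · exact absurd (isCyclic_of_prime_card (hq.trans (by rw [e, pow_one]))) hcyc
      · exact e
    obtain ⟨hle, hidx⟩ := ih (n - i) (by omega) (X := X ⧸ Z) hni hq
    refine ⟨by omega, fun hcl => ?_⟩
    have hi1 : i = 1 := by omega
    have hXne : commutator X ≠ ⊥ := fun e => by
      have hZ : Z = ⊤ := (commutator_eq_bot_iff_center_eq_top _).mp e
      rw [hZ, Subgroup.card_top, hX] at hi
      exact absurd (Nat.pow_right_injective hp.two_le hi) (by omega)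
    have hmeet := Fitting.inf_center_ne_bot (G := X) (N := commutator X) hXne
    have hZ : Z ≤ commutator X := by
      have hdvd := Subgroup.card_dvd_of_le (inf_le_right : commutator X ⊓ Z ≤ Z)
      rw [hi, hi1, pow_one] at hdvd
      rcases (Nat.dvd_prime hp).mp hdvd with e | e
      · exact absurd (Subgroup.card_eq_one.mp e) hmeet
      · have := Subgroup.eq_of_le_of_card_ge (inf_le_right : commutator X ⊓ Z ≤ Z)
          (by rw [e, hi, hi1, pow_one])
        exact this ▸ inf_le_left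
    have hmap : (commutator X).map (QuotientGroup.mk' Z) = commutator (X ⧸ Z) := by
      rw [commutator_def, commutator_def, Subgroup.map_commutator,
        Subgroup.map_top_of_surjective _ (QuotientGroup.mk'_surjective Z)]
    have h1 := hidx (by omega)
    rwa [← hmap, Subgroup.index_map_eq _ (QuotientGroup.mk'_surjective Z)
      (by rw [QuotientGroup.ker_mk']; exact hZ)] at h1

theorem commutator_index_of_class {X : Type u} [Group X] [Finite X] (n : ℕ) (hn : 2 ≤ n)
    (hX : Nat.card X = p ^ n) (hc : Group.nilpotencyClass X = n - 1) :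
    (commutator X).index = p ^ 2 :=
  (class_le_and_index_aux n hn hX).2 hc

theorem commutator_index_of_centralizer (P : Sylow p G)
    (hx : ∃ x : G, (∃ k : ℕ, orderOf x = p ^ k) ∧
      (Nat.card (Subgroup.centralizer ({x} : Set G))).factorization p = 2) :
    (commutator (P : Subgroup G)).index = p ^ 2 := by
  obtain ⟨x, hxp, hxc⟩ := hx
  obtain ⟨g, h, hcard⟩ := exists_mem_sylow_centralizer P hxp
  rw [hxc] at hcard
  set z : (P : Subgroup G) := ⟨_, h⟩
  set A := Subgroup.centralizer ({z} : Set (P : Subgroup G)) with hA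
  obtain ⟨n, hn⟩ := IsPGroup.iff_card.mp P.2
  have hn2 : 2 ≤ n := (Nat.pow_le_pow_iff_right (Fact.out : p.Prime).one_lt).mp
    (hn ▸ hcard ▸ Subgroup.card_le_card_group A)
  have hself : Subgroup.centralizer (A : Set (P : Subgroup G)) = A := by
    refine le_antisymm (fun w hw => Subgroup.mem_centralizer_singleton_iff.mpr
      (Subgroup.mem_centralizer_iff.mp hw z (Subgroup.mem_centralizer_singleton_iff.mpr rfl)).symm) ?_
    haveI := FG78.isMulCommutative_of_card_sq hcard
    exact Subgroup.le_centralizer A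
  exact commutator_index_of_class n hn2 hn (FG78.suzuki_maximal_class n hn A hcard hself)

/-- A normal subgroup of `G` cutting an abelian subgroup of index `p` out of `P`. -/
theorem exists_of_abelian_inf (P : Sylow p G) (hd : (commutator (P : Subgroup G)).index = p ^ 2)
    (T : Subgroup G) [T.Normal]
    (hab : ∀ a ∈ T.subgroupOf (P : Subgroup G), ∀ b ∈ T.subgroupOf (P : Subgroup G), a * b = b * a)
    (hnle : ¬ T.subgroupOf (P : Subgroup G) ≤ commutator (P : Subgroup G))
    (hbig : Nat.card (P : Subgroup G) ≠ p ^ 2) :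
    ∃ x : G, (∃ k : ℕ, orderOf x = p ^ k) ∧
      (Nat.card (Subgroup.centralizer ({x} : Set G))).factorization p = 2 := by
  rcases eq_top_or_index_eq P.2 hd _ hnle with htop | hidx
  · refine absurd ?_ hbig
    have h0 : commutator (P : Subgroup G) = ⊥ :=
      (commutator_eq_bot_iff_center_eq_top _).mpr (eq_top_iff.mpr fun a _ =>
        Subgroup.mem_center_iff.mpr fun b =>
          hab b (htop ▸ Subgroup.mem_top b) a (htop ▸ Subgroup.mem_top a))
    rwa [h0, Subgroup.index_bot] at hd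
  · obtain ⟨y, -, hy⟩ : ∃ y, y ∈ (⊤ : Subgroup (P : Subgroup G)) ∧
        y ∉ T.subgroupOf (P : Subgroup G) := SetLike.exists_of_lt (lt_top_iff_ne_top.mpr fun e => by
      rw [e, Subgroup.index_top] at hidx
      exact (Fact.out : p.Prime).ne_one hidx.symm)
    have hyp : ∃ k : ℕ, orderOf (y : G) = p ^ k := by
      rw [Subgroup.orderOf_coe]
      exact IsPGroup.iff_orderOf.mp P.2 y
    refine ⟨y, hyp, ?_⟩
    obtain ⟨g, h, hcard⟩ := exists_mem_sylow_centralizer P hyp
    have hnotin : (⟨_, h⟩ : (P : Subgroup G)) ∉ T.subgroupOf (P : Subgroup G) := fun hc => hy <| by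
      rw [Subgroup.mem_subgroupOf] at hc ⊢
      have := Subgroup.Normal.conj_mem ‹T.Normal› _ hc g⁻¹
      simpa [mul_assoc] using this
    rw [card_centralizer_of_abelian hd _ hab hidx hnotin] at hcard
    exact (Nat.pow_right_injective (Fact.out : p.Prime).two_le hcard).symm

end Sylow

section Layer

variable {p : ℕ} [Fact p.Prime] {G : Type*} [Group G] [Finite G]

/-- A commutator-closed factor of a proper product. -/
theorem abelian_of_split {X : Type*} [Group X] [Finite X] (hX : IsPGroup p X)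
    (hd : (commutator X).index = p ^ 2) (R R₁ R₂ : Subgroup X) [R.Normal] [R₁.Normal] [R₂.Normal]
    (h1R : R₁ ≤ R) (h2R : R₂ ≤ R) (hn1 : R₁ ≠ ⊥) (hn2 : R₂ ≠ ⊥)
    (hdec : ∀ a ∈ R, ∃ u ∈ R₁, ∃ v ∈ R₂, u * v = a)
    (hdisj : ∀ u ∈ R₁, ∀ v ∈ R₂, u * v = 1 → u = 1)
    (hcomm : ∀ u ∈ R₁, ∀ v ∈ R₂, u * v = v * u)
    (hnle : ¬ R ≤ commutator X) : ∀ a ∈ R, ∀ b ∈ R, a * b = b * a := by
  classical
  have hp := (Fact.out : p.Prime)
  haveI : Group.IsNilpotent X := hX.isNilpotent
  set D₁ := ⁅R₁, (⊤ : Subgroup X)⁆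
  set D₂ := ⁅R₂, (⊤ : Subgroup X)⁆
  have hD₁ : D₁ ≤ R₁ := Subgroup.commutator_le_left _ _
  have hD₂ : D₂ ≤ R₂ := Subgroup.commutator_le_left _ _
  have hlt : ∀ (A : Subgroup X) [A.Normal], A ≠ ⊥ → p * Nat.card ↥⁅A, (⊤ : Subgroup X)⁆ ≤ Nat.card A := by
    intro A _ hA
    have hle : ⁅A, (⊤ : Subgroup X)⁆ ≤ A := Subgroup.commutator_le_left _ _
    obtain ⟨i, -, hi⟩ := (Nat.dvd_prime_pow hp).mp
      ((IsPGroup.iff_card.mp (hX.to_subgroup A)).choose_spec ▸ Subgroup.card_dvd_of_le hle)
    obtain ⟨j, hj⟩ := IsPGroup.iff_card.mp (hX.to_subgroup A)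
    rw [hi, hj, ← pow_succ']
    refine Nat.pow_le_pow_right hp.pos ?_
    by_contra hji
    refine hA (Transfer.eq_bot_of_le_commutator_top ?_)
    refine (Subgroup.eq_of_le_of_card_ge hle ?_).ge
    rw [hi, hj]
    exact Nat.pow_le_pow_right hp.pos (by omega)
  have hcent : ∀ u ∈ R₁, ∀ x, u * x * u⁻¹ * x⁻¹ ∈ D₁ ⊔ D₂ := fun u hu x =>
    Subgroup.mem_sup_left (Subgroup.commutator_mem_commutator hu (Subgroup.mem_top x))
  have hM : commutator X ≤ D₁ ⊔ D₂ := by
    obtain ⟨y, hy⟩ : ∃ y : X, R ⊔ Subgroup.zpowers y = ⊤ := by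
      rcases eq_top_or_index_eq hX hd R hnle with h | h
      · exact ⟨1, by rw [h, top_sup_eq]⟩
      · obtain ⟨y, -, hy⟩ : ∃ y, y ∈ (⊤ : Subgroup X) ∧ y ∉ R :=
          SetLike.exists_of_lt (lt_top_iff_ne_top.mpr fun e => by
          rw [e, Subgroup.index_top] at h; exact hp.ne_one h.symm)
        refine ⟨y, Subgroup.index_eq_one.mp ?_⟩
        have hd' : (R ⊔ Subgroup.zpowers y).index ∣ p := h ▸ Subgroup.index_dvd_of_le le_sup_left
        refine ((Nat.dvd_prime hp).mp hd').resolve_right fun h' => hy ?_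
        have h3 := Subgroup.relIndex_mul_index (le_sup_left : R ≤ R ⊔ Subgroup.zpowers y)
        rw [h', h, mul_eq_right₀ hp.ne_zero, Subgroup.relIndex_eq_one] at h3
        exact h3 (Subgroup.mem_sup_right (Subgroup.mem_zpowers y))
    have hR : ∀ a ∈ R, ∀ x, a * x * a⁻¹ * x⁻¹ ∈ D₁ ⊔ D₂ := by
      intro a ha x
      obtain ⟨u, hu, v, hv, rfl⟩ := hdec a ha
      have hv' : v * x * v⁻¹ * x⁻¹ ∈ D₁ ⊔ D₂ :=
        Subgroup.mem_sup_right (Subgroup.commutator_mem_commutator hv (Subgroup.mem_top x))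
      have he : u * v * x * (u * v)⁻¹ * x⁻¹ =
          u * (v * x * v⁻¹ * x⁻¹) * u⁻¹ * (u * x * u⁻¹ * x⁻¹) := by group
      rw [he]
      exact Subgroup.mul_mem _ ((inferInstance : (D₁ ⊔ D₂).Normal).conj_mem _ hv' u) (hcent u hu x)
    refine commutator_le_of_generators y hy (Subgroup.commutator_le.mpr fun a ha b _ => hR a ha b)
      fun r hr => hR r hr y
  -- compare orders
  let m : R₁ × R₂ → R := fun w => ⟨w.1 * w.2, R.mul_mem (h1R w.1.2) (h2R w.2.2)⟩
  have hminj : Function.Injective m := by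
    rintro ⟨u, v⟩ ⟨u', v'⟩ h
    have h' : (u : X) * v = u' * v' := congrArg Subtype.val h
    have h1 : ((u'⁻¹ * u : R₁) : X) = 1 := hdisj _ (u'⁻¹ * u).2 ((v : X) * (v' : X)⁻¹)
      (R₂.mul_mem v.2 (R₂.inv_mem v'.2)) (by
        simp only [Subgroup.coe_mul, Subgroup.coe_inv]
        calc (u' : X)⁻¹ * u * (v * (v' : X)⁻¹) = (u' : X)⁻¹ * ((u : X) * v) * (v' : X)⁻¹ := by group
          _ = (u' : X)⁻¹ * (u' * v') * (v' : X)⁻¹ := by rw [h']
          _ = 1 := by group)
    have hu : u' = u := inv_mul_eq_one.mp (Subtype.ext h1)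
    subst hu
    exact Prod.ext rfl (Subtype.ext (mul_left_cancel h'))
  have hmsurj : Function.Surjective m := fun a => by
    obtain ⟨u, hu, v, hv, he⟩ := hdec a a.2
    exact ⟨(⟨u, hu⟩, ⟨v, hv⟩), Subtype.ext he⟩
  have hcardR : Nat.card R = Nat.card R₁ * Nat.card R₂ := by
    rw [← Nat.card_prod, Nat.card_congr (Equiv.ofBijective m ⟨hminj, hmsurj⟩)]
  have hsup : Nat.card ↥(D₁ ⊔ D₂) ≤ Nat.card D₁ * Nat.card D₂ := by
    rw [← Nat.card_prod]
    have hs : ((D₁ ⊔ D₂ : Subgroup X) : Set X) = (D₁ : Set X) * (D₂ : Set X) :=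
      Subgroup.normal_mul D₁ D₂
    refine Nat.card_le_card_of_surjective
      (fun w : D₁ × D₂ => (⟨w.1 * w.2, Subgroup.mul_mem_sup w.1.2 w.2.2⟩ : ↥(D₁ ⊔ D₂))) fun z => ?_
    obtain ⟨u, hu, v, hv, he⟩ := Set.mem_mul.mp (hs ▸ z.2 : (z : X) ∈ (D₁ : Set X) * (D₂ : Set X))
    exact ⟨(⟨u, hu⟩, ⟨v, hv⟩), Subtype.ext he⟩
  have hkey : p ^ 2 * Nat.card (commutator X) ≤ Nat.card R :=
    calc p ^ 2 * Nat.card (commutator X) ≤ p ^ 2 * (Nat.card D₁ * Nat.card D₂) :=
          Nat.mul_le_mul le_rfl ((Subgroup.card_le_of_le hM).trans hsup)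
      _ = (p * Nat.card D₁) * (p * Nat.card D₂) := by ring
      _ ≤ _ := hcardR ▸ Nat.mul_le_mul (hlt R₁ hn1) (hlt R₂ hn2)
  rw [← hd, Subgroup.index_mul_card] at hkey
  have hRtop : R = ⊤ := Subgroup.eq_top_of_card_eq R
    (le_antisymm (Subgroup.card_le_card_group R) hkey)
  have habs : ∀ (A B : Subgroup X) [A.Normal], (∀ x, ∃ u ∈ A, ∃ v ∈ B, u * v = x) →
      (∀ u ∈ A, ∀ v ∈ B, u * v = v * u) → Nat.card A ≤ p * Nat.card ↥⁅A, (⊤ : Subgroup X)⁆ →
      ∀ a ∈ A, ∀ b ∈ A, a * b = b * a := by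
    intro A B _ hAB hAc hA
    have hle : ⁅A, (⊤ : Subgroup X)⁆.subgroupOf A ≤ commutator A := by
      rw [← Subgroup.map_le_map_iff_of_injective A.subtype_injective, commutator_def,
        Subgroup.map_commutator, ← MonoidHom.range_eq_map, Subgroup.range_subtype,
        Subgroup.map_subgroupOf_eq_of_le (Subgroup.commutator_le_left _ _), Subgroup.commutator_le]
      intro a ha x _
      obtain ⟨u, hu, v, hv, rfl⟩ := hAB x
      have he : ⁅a, u * v⁆ = ⁅a, u⁆ := by
        simp only [commutatorElement_def, mul_inv_rev]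
        calc a * (u * v) * a⁻¹ * (v⁻¹ * u⁻¹) = a * u * (v * a⁻¹) * v⁻¹ * u⁻¹ := by group
          _ = a * u * (a⁻¹ * v) * v⁻¹ * u⁻¹ := by rw [hAc a⁻¹ (A.inv_mem ha) v hv]
          _ = _ := by group
      rw [he]
      exact Subgroup.commutator_mem_commutator ha hu
    have hidx : (commutator A).index ≤ p := by
      have h1 := (⁅A, (⊤ : Subgroup X)⁆.subgroupOf A).card_mul_index
      rw [Nat.card_congr (Subgroup.subgroupOfEquivOfLe
        (Subgroup.commutator_le_left A (⊤ : Subgroup X))).toEquiv] at h1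
      have h2 : (⁅A, (⊤ : Subgroup X)⁆.subgroupOf A).index ≤ p :=
        Nat.le_of_mul_le_mul_left (by rw [h1]; linarith) (Nat.card_pos (α := ↥⁅A, (⊤ : Subgroup X)⁆))
      exact (Nat.le_of_dvd (Nat.pos_of_ne_zero Subgroup.index_ne_zero_of_finite)
        (Subgroup.index_dvd_of_le hle)).trans h2
    intro a ha b hb
    have h0 := eq_bot_of_commutator_index_le (hX.to_subgroup A) hidx
    have h1 : (⟨a, ha⟩ : A) * ⟨b, hb⟩ = ⟨b, hb⟩ * ⟨a, ha⟩ := by
      rw [← commutatorElement_eq_one_iff_mul_comm, ← Subgroup.mem_bot, ← h0]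
      exact Subgroup.commutator_mem_commutator (Subgroup.mem_top _) (Subgroup.mem_top _)
    exact congrArg Subtype.val h1
  have htot : Nat.card R₁ * Nat.card R₂ ≤ (p * Nat.card D₁) * (p * Nat.card D₂) := by
    rw [← hcardR, hRtop, Subgroup.card_top, ← (commutator X).index_mul_card, hd]
    calc p ^ 2 * Nat.card (commutator X) ≤ p ^ 2 * (Nat.card D₁ * Nat.card D₂) :=
          Nat.mul_le_mul le_rfl ((Subgroup.card_le_of_le hM).trans hsup)
      _ = _ := by ring
  have hc1 : 0 < Nat.card R₁ := Nat.card_pos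
  have hc2 : 0 < Nat.card R₂ := Nat.card_pos
  have he1 : Nat.card R₁ ≤ p * Nat.card D₁ :=
    Nat.le_of_mul_le_mul_right (htot.trans (Nat.mul_le_mul le_rfl (hlt R₂ hn2))) hc2
  have he2 : Nat.card R₂ ≤ p * Nat.card D₂ :=
    Nat.le_of_mul_le_mul_left (htot.trans (Nat.mul_le_mul (hlt R₁ hn1) le_rfl)) hc1
  have hA1 := habs R₁ R₂ (fun x => hdec x (hRtop ▸ Subgroup.mem_top x)) hcomm he1
  have hA2 := habs R₂ R₁ (fun x => by
    obtain ⟨u, hu, v, hv, he⟩ := hdec x (hRtop ▸ Subgroup.mem_top x)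
    exact ⟨v, hv, u, hu, (hcomm u hu v hv).symm.trans he⟩)
    (fun v hv u hu => (hcomm u hu v hv).symm) he2
  intro a ha b hb
  obtain ⟨u, hu, v, hv, rfl⟩ := hdec a ha
  obtain ⟨u', hu', v', hv', rfl⟩ := hdec b hb
  have c1 : Commute u u' := hA1 u hu u' hu'
  have c2 : Commute v v' := hA2 v hv v' hv'
  have c3 : Commute u v' := hcomm u hu v' hv'
  have c4 : Commute v u' := (hcomm u' hu' v hv).symm
  exact ((c1.mul_right c3).mul_left (c4.mul_right c2)).eq

/-- A factor moved by a generator of the quotient of order `p`. -/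
theorem abelian_of_moved {X : Type*} [Group X] [Finite X] (hX : IsPGroup p X)
    (hd : (commutator X).index = p ^ 2) (R : Subgroup X) [R.Normal] (hidx : R.index = p) {y : X}
    (hy : y ∉ R) (R₁ : Subgroup X) (h1R : R₁ ≤ R)
    (hproj : ∃ π : R → X, (∀ a, π a ∈ R₁) ∧ (∀ a b, π (a * b) = π a * π b) ∧
      (∀ a : R, (a : X) ∈ R₁ → π a = a) ∧
      ∀ i, 0 < i → i < p → ∀ a : R, (a : X) ∈ R₁ →
        π ⟨y ^ i * a * (y ^ i)⁻¹, Subgroup.Normal.conj_mem ‹R.Normal› _ a.2 _⟩ = 1) :
    ∀ u ∈ R₁, ∀ v ∈ R₁, u * v = v * u := by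
  classical
  obtain ⟨π, hπ1, hπm, hπid, hπi⟩ := hproj
  have hp := (Fact.out : p.Prime)
  have hypR : y ^ p ∈ R := by
    have h : Nat.card (X ⧸ R) = p := (Subgroup.index_eq_card R).symm.trans hidx
    have h2 : (y : X ⧸ R) ^ Nat.card (X ⧸ R) = 1 := pow_card_eq_one'
    rw [h] at h2
    rwa [← QuotientGroup.eq_one_iff, QuotientGroup.mk_pow]
  have htop : R ⊔ Subgroup.zpowers y = ⊤ := by
    rw [← Subgroup.index_eq_one]
    have hd' : (R ⊔ Subgroup.zpowers y).index ∣ p := hidx ▸ Subgroup.index_dvd_of_le le_sup_left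
    refine ((Nat.dvd_prime hp).mp hd').resolve_right fun h => hy ?_
    have h3 := Subgroup.relIndex_mul_index (le_sup_left : R ≤ R ⊔ Subgroup.zpowers y)
    rw [h, hidx, mul_eq_right₀ hp.ne_zero, Subgroup.relIndex_eq_one] at h3
    exact h3 (Subgroup.mem_sup_right (Subgroup.mem_zpowers y))
  let q : R₁ →* Abelianization R₁ := Abelianization.of
  let πR : R →* R₁ := MonoidHom.mk' (fun a => ⟨π a, hπ1 a⟩) fun a b => Subtype.ext (hπm a b)
  let cj : X → R → R := fun g a => ⟨g * a * g⁻¹, Subgroup.Normal.conj_mem ‹R.Normal› _ a.2 g⟩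
  let t : ℕ → R → Abelianization R₁ := fun i a => q (πR (cj (y ^ i) a))
  let f₀ : R →* Abelianization R₁ := MonoidHom.mk' (fun a => ∏ i ∈ Finset.range p, t i a) fun a b => by
    rw [← Finset.prod_mul_distrib]
    refine Finset.prod_congr rfl fun i _ => ?_
    simp only [t]
    rw [← map_mul q, ← map_mul πR]
    refine congrArg q (congrArg πR ?_)
    exact Subtype.ext (by simp [cj, mul_assoc])
  obtain ⟨f, hfdef⟩ : ∃ f : R →* Abelianization R₁, ∀ a, f a = ∏ i ∈ Finset.range p, t i a :=
    ⟨f₀, fun a => rfl⟩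
  have hshift : ∀ a : R, f (cj y a) = f a := by
    intro a
    rw [hfdef, hfdef]
    have h1 : ∀ i, t i (cj y a) = t (i + 1) a := fun i => by
      simp only [t]
      congr 2
      exact Subtype.ext (by simp [cj, pow_succ, mul_assoc])
    have h2 : t p a = t 0 a := by
      simp only [t]
      have e : cj (y ^ p) a = ⟨y ^ p, hypR⟩ * a * (⟨y ^ p, hypR⟩ : R)⁻¹ := Subtype.ext rfl
      have e0 : cj (y ^ 0) a = a := Subtype.ext (by simp [cj])
      rw [e, e0, map_mul, map_mul, map_mul, map_mul, map_inv, map_inv, mul_comm (q (πR ⟨y ^ p, hypR⟩)),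
        mul_inv_cancel_right]
    rw [Finset.prod_congr rfl fun i _ => h1 i]
    have h3 := Finset.prod_range_succ' (fun i => t i a) p
    rw [Finset.prod_range_succ, h2] at h3
    exact (mul_right_cancel h3).symm
  let K : Subgroup X := f.ker.map R.subtype
  haveI : K.Normal := by
    refine ⟨fun z hz g => ?_⟩
    have hle : (⊤ : Subgroup X) ≤ Subgroup.normalizer (K : Set X) := by
      rw [← htop, sup_le_iff, Subgroup.zpowers_le]
      refine ⟨fun r hr => mem_normalizer_of_map_le ?_,
        mem_normalizer_of_map_le ?_⟩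
      · rintro _ ⟨_, ⟨a, ha, rfl⟩, rfl⟩
        exact ⟨⟨r, hr⟩ * a * ⟨r, hr⟩⁻¹, MonoidHom.normal_ker f |>.conj_mem a ha _, rfl⟩
      · rintro _ ⟨_, ⟨a, ha, rfl⟩, rfl⟩
        exact ⟨cj y a, MonoidHom.mem_ker.mpr ((hshift a).trans (MonoidHom.mem_ker.mp ha)), rfl⟩
    exact (Subgroup.mem_normalizer_iff.mp (hle (Subgroup.mem_top g)) z).mp hz
  have hK : commutator X ≤ K := by
    refine commutator_le_of_generators y htop ?_ ?_
    · rw [Subgroup.commutator_le]
      intro a ha b hb
      exact ⟨⁅(⟨a, ha⟩ : R), ⟨b, hb⟩⁆, MonoidHom.mem_ker.mpr (by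
        rw [map_commutatorElement, commutatorElement_eq_one_iff_mul_comm]; exact mul_comm _ _), rfl⟩
    · intro r hr
      refine ⟨⟨r, hr⟩ * cj y ⟨r, hr⟩⁻¹, MonoidHom.mem_ker.mpr ?_, ?_⟩
      · rw [map_mul, hshift, map_inv, mul_inv_cancel]
      · simp [cj, mul_assoc]
  have hKR : K ≤ R := Subgroup.map_subtype_le _
  have hf : Function.Surjective f := by
    intro w
    obtain ⟨u, rfl⟩ := QuotientGroup.mk_surjective w
    refine ⟨⟨(u : X), h1R u.2⟩, ?_⟩
    rw [hfdef]
    rw [Finset.prod_eq_single 0]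
    · simp only [t]
      have : cj (y ^ 0) ⟨(u : X), h1R u.2⟩ = ⟨(u : X), h1R u.2⟩ := Subtype.ext (by simp [cj])
      rw [this]
      change q (⟨π _, _⟩ : R₁) = q u
      exact congrArg q (Subtype.ext (hπid _ u.2))
    · intro i hi hi0
      simp only [t]
      have h1 : πR (cj (y ^ i) ⟨(u : X), h1R u.2⟩) = 1 := Subtype.ext
        (hπi i (Nat.pos_of_ne_zero hi0) (Finset.mem_range.mp hi) ⟨(u : X), h1R u.2⟩ u.2)
      rw [h1, map_one]
    · intro h; exact absurd (Finset.mem_range.mpr hp.pos) h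
  have hc : (commutator R₁).index ≤ p := by
    have h1 : f.ker.index = (commutator R₁).index := by
      rw [Subgroup.index_ker, MonoidHom.range_eq_top.mpr hf, Subgroup.card_top, Subgroup.index_eq_card]
      rfl
    have h2 : f.ker.index = K.relIndex R := by
      rw [Subgroup.relIndex]
      congr 1
      exact (Subgroup.comap_map_eq_self_of_injective R.subtype_injective f.ker).symm
    have h3 : K.relIndex R ∣ (commutator X).relIndex R :=
      Subgroup.relIndex_dvd_of_le_left R hK
    have h4 := Subgroup.relIndex_mul_index (hK.trans hKR)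
    rw [hd, hidx, pow_two] at h4
    rw [Nat.eq_of_mul_eq_mul_right hp.pos h4] at h3
    rw [← h1, h2]
    exact Nat.le_of_dvd hp.pos h3
  have h0 := eq_bot_of_commutator_index_le (hX.to_subgroup R₁) hc
  intro u hu v hv
  have h1 : (⟨u, hu⟩ : R₁) * ⟨v, hv⟩ = ⟨v, hv⟩ * ⟨u, hu⟩ := by
    rw [← commutatorElement_eq_one_iff_mul_comm, ← Subgroup.mem_bot, ← h0]
    exact Subgroup.commutator_mem_commutator (Subgroup.mem_top _) (Subgroup.mem_top _)
  exact congrArg Subtype.val h1

/-- `P ∩ N` is a Sylow subgroup of a normal subgroup `N`. -/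
theorem exists_sylow_subgroupOf_normal {K : Type*} [Group K] [Finite K] (Q : Sylow p K)
    (N : Subgroup K) [N.Normal] : ∃ S : Sylow p N, (S : Subgroup N) = (Q : Subgroup K).subgroupOf N := by
  obtain ⟨S⟩ := (inferInstance : Nonempty (Sylow p N))
  obtain ⟨Q₁, hQ₁⟩ := (S.2.map N.subtype).exists_le_sylow
  obtain ⟨g, hg⟩ := MulAction.exists_smul_eq K Q₁ Q
  have hgQ : ∀ z ∈ (Q₁ : Subgroup K), g * z * g⁻¹ ∈ (Q : Subgroup K) := fun z hz => by
    rw [← hg]
    exact Subgroup.smul_mem_pointwise_smul z (MulAut.conj g) _ hz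
  have hle : Nat.card (S : Subgroup N) ≤ Nat.card ((Q : Subgroup K).subgroupOf N) := by
    refine Nat.card_le_card_of_injective (fun z => (⟨⟨g * ((z : N) : K) * g⁻¹,
      (inferInstance : N.Normal).conj_mem _ (z : N).2 g⟩, hgQ _ (hQ₁ ⟨z, z.2, rfl⟩)⟩ :
      (Q : Subgroup K).subgroupOf N)) fun a b h => ?_
    have h' := congrArg (fun w : (Q : Subgroup K).subgroupOf N => ((w : N) : K)) h
    simp only [mul_left_inj, mul_right_inj] at h'
    exact Subtype.ext (Subtype.ext h')
  have hp' : IsPGroup p ((Q : Subgroup K).subgroupOf N) := Q.2.comap_subtype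
  obtain ⟨S', hS'⟩ := hp'.exists_le_sylow
  refine ⟨S', (Subgroup.eq_of_le_of_card_ge hS' ?_).symm⟩
  rw [S'.card_eq_multiplicity, ← S.card_eq_multiplicity]
  exact hle

/-- `P ∩ L` is a Sylow subgroup of a component `L`. -/
theorem exists_sylow_component (P : Sylow p G) {L : Subgroup G} (hL : IsComponent L) :
    ∃ S : Sylow p L, (S : Subgroup L).map L.subtype = L ⊓ (P : Subgroup G) := by
  obtain ⟨ST, hST⟩ := exists_sylow_subgroupOf_normal P (layer G)
  haveI := Components.component_subgroupOf_layer_normal hL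
  obtain ⟨S₁, hS₁⟩ := exists_sylow_subgroupOf_normal ST (L.subgroupOf (layer G))
  have hLT := Components.component_le_layer hL
  have hp' : IsPGroup p ((P : Subgroup G).subgroupOf L) := P.2.comap_subtype
  obtain ⟨S, hS⟩ := hp'.exists_le_sylow
  refine ⟨S, ?_⟩
  have h : (P : Subgroup G).subgroupOf L = (S : Subgroup L) := by
    refine Subgroup.eq_of_le_of_card_ge hS ?_
    have h1 : Nat.card (S : Subgroup L) = Nat.card (S₁ : Subgroup (L.subgroupOf (layer G))) := by
      rw [S.card_eq_multiplicity, S₁.card_eq_multiplicity,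
        Nat.card_congr (Subgroup.subgroupOfEquivOfLe hLT).toEquiv]
    rw [h1, hS₁, hST]
    refine le_of_eq (Nat.card_congr ?_)
    exact
      { toFun := fun z => ⟨⟨((z.1 : layer G) : G), z.1.2⟩, z.2⟩
        invFun := fun z => ⟨⟨⟨(z.1 : G), hLT z.1.2⟩, z.1.2⟩, z.2⟩
        left_inv := fun _ => rfl
        right_inv := fun _ => rfl }
  rw [← h, Subgroup.subgroupOf_map_subtype, inf_comm]

theorem center_eq_bot_of_component (hF : Cfsg.fittingSubgroup G = ⊥) {L : Subgroup G}
    (hL : IsComponent L) : L ⊓ Subgroup.centralizer (L : Set G) = ⊥ := by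
  have hle : (fittingSubgroup L).map L.subtype ≤ ⊥ :=
    hF ▸ Components.map_fitting_isSubnormal_le hL.1
  have hz : Subgroup.center L ≤ fittingSubgroup L :=
    le_sSup ⟨inferInstance, inferInstance⟩
  rw [eq_bot_iff]
  rintro z ⟨hz1, hz2⟩
  exact hle ⟨⟨z, hz1⟩, hz (Subgroup.mem_center_iff.mpr fun g =>
    Subtype.ext (Subgroup.mem_centralizer_iff.mp hz2 g g.2)), rfl⟩

theorem layer_le_sup {L : Subgroup G} (hL : IsComponent L) :
    layer G ≤ L ⊔ (layer G ⊓ Subgroup.centralizer (L : Set G)) := by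
  refine Components.layer_le_iff.mpr fun M hM => ?_
  by_cases hML : M = L
  · exact hML ▸ le_sup_left
  · exact le_sup_of_le_right (le_inf (Components.component_le_layer hM)
      (Components.component_le_centralizer hM hL hML))

/-- Projection of the layer onto a component. -/
theorem exists_proj (hF : Cfsg.fittingSubgroup G = ⊥) {L : Subgroup G} (hL : IsComponent L) :
    ∃ π : layer G →* layer G, (∀ t, ((π t : layer G) : G) ∈ L) ∧
      (∀ t : layer G, (t : G) ∈ L → π t = t) ∧
      (∀ t : layer G, (t : G) ∈ Subgroup.centralizer (L : Set G) → π t = 1) ∧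
      ∀ t, π t = 1 → (t : G) ∈ Subgroup.centralizer (L : Set G) := by
  classical
  set T := layer G
  set C := T ⊓ Subgroup.centralizer (L : Set G)
  have hdec : ∀ t : T, ∃ l c : T, (l : G) ∈ L ∧ (c : G) ∈ Subgroup.centralizer (L : Set G) ∧
      l * c = t := by
    intro t
    have hn : C ≤ Subgroup.normalizer (L : Set G) :=
      inf_le_left.trans (Components.layer_le_normalizer hL)
    have h := layer_le_sup hL t.2
    rw [← SetLike.mem_coe, Subgroup.coe_mul_of_right_le_normalizer_left L C hn] at h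
    obtain ⟨l, hl, c, hc, he⟩ := h
    exact ⟨⟨l, Components.component_le_layer hL hl⟩, ⟨c, hc.1⟩, hl, hc.2, Subtype.ext he⟩
  choose l c hl hc he using hdec
  have huniq : ∀ (t a b : T), (a : G) ∈ L → (b : G) ∈ Subgroup.centralizer (L : Set G) →
      a * b = t → l t = a := by
    intro t a b ha hb hab
    have h1 : ((a⁻¹ * l t : T) : G) ∈ L ⊓ Subgroup.centralizer (L : Set G) := by
      refine ⟨L.mul_mem (L.inv_mem ha) (hl t), ?_⟩
      have : a⁻¹ * l t = b * (c t)⁻¹ := by
        rw [inv_mul_eq_iff_eq_mul, ← mul_assoc, hab, eq_mul_inv_iff_mul_eq, he]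
      rw [this]
      exact Subgroup.mul_mem _ hb (Subgroup.inv_mem _ (hc t))
    rw [center_eq_bot_of_component hF hL, Subgroup.mem_bot] at h1
    exact (inv_mul_eq_one.mp (Subtype.ext h1)).symm
  refine ⟨MonoidHom.mk' l fun s t => huniq _ _ (c s * c t) (L.mul_mem (hl s) (hl t))
      (Subgroup.mul_mem _ (hc s) (hc t)) ?_, hl,
    fun t ht => huniq t t 1 ht (Subgroup.one_mem _) (mul_one t),
    fun t ht => huniq t 1 t L.one_mem ht (one_mul t), fun t ht => ?_⟩
  · have h : l t * c s = c s * l t :=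
      Subtype.ext (Subgroup.mem_centralizer_iff.mp (hc s) _ (hl t))
    calc l s * l t * (c s * c t) = l s * (l t * c s) * c t := by simp only [mul_assoc]
      _ = (l s * c s) * (l t * c t) := by rw [h]; simp only [mul_assoc]
      _ = s * t := by rw [he, he]
  · have ht' : l t = 1 := ht
    have h := he t
    rw [ht', one_mul] at h
    exact h ▸ hc t

/-- In a group with trivial Fitting subgroup and at least two components, the Sylow subgroup of
the layer is abelian, unless the whole Sylow subgroup has order `p²`. -/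
theorem abelian_inf_layer (P : Sylow p G) (hcore : Cfsg.pPrimeCore p G = ⊥)
    (hF : Cfsg.fittingSubgroup G = ⊥) (hd : (commutator (P : Subgroup G)).index = p ^ 2)
    (htwo : ∀ L : Subgroup G, IsComponent L → ∃ M : Subgroup G, IsComponent M ∧ M ≠ L)
    (hnle : ¬ (layer G).subgroupOf (P : Subgroup G) ≤ commutator (P : Subgroup G)) :
    ∀ a ∈ (layer G).subgroupOf (P : Subgroup G),
      ∀ b ∈ (layer G).subgroupOf (P : Subgroup G), a * b = b * a := by
  classical
  set X := ↥(P : Subgroup G)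
  set T := layer G
  set R := T.subgroupOf (P : Subgroup G) with hRdef
  have hp := (Fact.out : p.Prime)
  suffices h : ∀ L : Subgroup G, IsComponent L → ∀ a ∈ R, ∀ b ∈ R,
      ((⁅a, b⁆ : X) : G) ∈ Subgroup.centralizer (L : Set G) by
    intro a ha b hb
    have h1 : ((⁅a, b⁆ : X) : G) ∈ Subgroup.centralizer (T : Set G) := by
      rw [Subgroup.mem_centralizer_iff]
      have hle : T ≤ Subgroup.centralizer ({((⁅a, b⁆ : X) : G)} : Set G) :=
        Components.layer_le_iff.mpr fun L hL z hz => Subgroup.mem_centralizer_singleton_iff.mpr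
          (Subgroup.mem_centralizer_iff.mp (h L hL a ha b hb) z hz)
      exact fun z hz => Subgroup.mem_centralizer_singleton_iff.mp (hle hz)
    have hgf : generalizedFittingSubgroup G = T := by
      rw [generalizedFittingSubgroup, hF, sup_bot_eq]
    have h2 : ((⁅a, b⁆ : X) : G) ∈ T :=
      hgf ▸ Components.centralizer_generalizedFitting_le (hgf.symm ▸ h1)
    have h3 : (Subgroup.center T).map T.subtype ≤ ⊥ :=
      hF ▸ (Subgroup.map_mono (le_sSup ⟨inferInstance, inferInstance⟩ :
        Subgroup.center T ≤ fittingSubgroup T)).trans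
        (Components.map_fitting_isSubnormal_le (inferInstance : T.Normal).isSubnormal)
    have h4 : ((⁅a, b⁆ : X) : G) = 1 := h3 ⟨⟨_, h2⟩, Subgroup.mem_center_iff.mpr fun g =>
      Subtype.ext (Subgroup.mem_centralizer_iff.mp h1 g g.2), rfl⟩
    exact commutatorElement_eq_one_iff_mul_comm.mp (Subtype.ext h4)
  intro L hL
  obtain ⟨π, hπL, hπid, hπC, hπker⟩ := exists_proj hF hL
  have hLT : L ≤ T := Components.component_le_layer hL
  -- the Sylow subgroup of a component
  set R₁ := L.subgroupOf (P : Subgroup G) with hR₁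
  set R₂ := (T ⊓ Subgroup.centralizer (L : Set G)).subgroupOf (P : Subgroup G) with hR₂
  have hR₁R : R₁ ≤ R := fun a ha => hLT ha
  have hR₂R : R₂ ≤ R := fun a ha => ha.1
  -- projections of R stay in P
  have hproj : ∀ a ∈ R, ∀ h : (a : G) ∈ T,
      ((π ⟨a, h⟩ : T) : G) ∈ (P : Subgroup G) := by
    intro a ha h
    let V : Subgroup G := (((P : Subgroup G).subgroupOf T).map π).map T.subtype
    have hVp : IsPGroup p V := ((P.2.comap_subtype).map π).map T.subtype
    have hPV : L ⊓ (P : Subgroup G) ≤ V := fun z hz =>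
      ⟨⟨z, hLT hz.1⟩, ⟨⟨z, hLT hz.1⟩, hz.2, hπid _ hz.1⟩, rfl⟩
    have hVL : V ≤ L := by
      rintro _ ⟨_, ⟨w, -, rfl⟩, rfl⟩
      exact hπL w
    have hmem : ((π ⟨a, h⟩ : T) : G) ∈ V := ⟨_, ⟨⟨a, h⟩, a.2, rfl⟩, rfl⟩
    obtain ⟨S, hS⟩ := exists_sylow_component P hL
    have hle : (S : Subgroup L) ≤ V.subgroupOf L := fun z hz => hPV (by rw [← hS]; exact ⟨z, hz, rfl⟩)
    have hVS : V.subgroupOf L = (S : Subgroup L) := S.is_maximal' hVp.comap_subtype hle
    have hzS : (⟨_, hVL hmem⟩ : L) ∈ (S : Subgroup L) := hVS ▸ hmem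
    exact (hS.le ⟨_, hzS, rfl⟩ : _ ∈ L ⊓ (P : Subgroup G)).2
  have hdecomp : ∀ a ∈ R, ∃ u ∈ R₁, ∃ v ∈ R₂, u * v = a := by
    intro a ha
    refine ⟨⟨_, hproj a ha ha⟩, hπL _, ⟨_, hproj a ha ha⟩⁻¹ * a, ⟨?_, ?_⟩, mul_inv_cancel_left _ _⟩
    · exact T.mul_mem (T.inv_mem (π ⟨a, ha⟩).2) ha
    · have := hπker ((π ⟨a, ha⟩)⁻¹ * ⟨a, ha⟩)
        (by rw [map_mul, map_inv, hπid _ (hπL _), inv_mul_cancel])
      exact this
  have hdisj : ∀ u ∈ R₁, ∀ v ∈ R₂, u * v = 1 → u = 1 := by
    intro u hu v hv he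
    have h1 : (u : G) ∈ L ⊓ Subgroup.centralizer (L : Set G) := by
      refine ⟨hu, ?_⟩
      rw [eq_inv_of_mul_eq_one_left he]
      exact Subgroup.inv_mem _ hv.2
    rw [center_eq_bot_of_component hF hL, Subgroup.mem_bot] at h1
    exact Subtype.ext h1
  have hcomm12 : ∀ u ∈ R₁, ∀ v ∈ R₂, u * v = v * u := fun u hu v hv =>
    Subtype.ext (Subgroup.mem_centralizer_iff.mp hv.2 _ hu)
  have hnt : R₁ ≠ ⊥ ∧ R₂ ≠ ⊥ := by
    have key : ∀ M : Subgroup G, IsComponent M → M.subgroupOf (P : Subgroup G) ≠ ⊥ := by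
      intro M hM hbot
      obtain ⟨S, hS⟩ := exists_sylow_component P hM
      refine S.ne_bot_of_dvd_card (Components.dvd_card_component hcore hM) ?_
      rw [eq_bot_iff]
      intro z hz
      have h1 : (z : G) ∈ M ⊓ (P : Subgroup G) := hS ▸ ⟨z, hz, rfl⟩
      have h2 : (⟨(z : G), h1.2⟩ : X) ∈ M.subgroupOf (P : Subgroup G) := h1.1
      rw [hbot, Subgroup.mem_bot] at h2
      exact Subtype.ext (congrArg Subtype.val h2 : ((z : G)) = 1)
    refine ⟨key L hL, ?_⟩
    obtain ⟨M, hM, hne⟩ := htwo L hL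
    intro h
    refine key M hM (le_bot_iff.mp (h ▸ fun z hz => ?_))
    exact ⟨Components.component_le_layer hM hz, Components.component_le_centralizer hM hL hne hz⟩
  haveI hRn : R.Normal := Subgroup.normal_subgroupOf
  haveI : Group.IsNilpotent X := P.2.isNilpotent
  -- the case of a component normalised by P
  have hfix : (∀ y : X, (y : G) ∈ Subgroup.normalizer (L : Set G)) →
      ∀ a ∈ R, ∀ b ∈ R, ((⁅a, b⁆ : X) : G) ∈ Subgroup.centralizer (L : Set G) := by
    intro hN
    haveI hn₁ : R₁.Normal := ⟨fun z hz g => (Subgroup.mem_normalizer_iff.mp (hN g) _).mp hz⟩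
    haveI hn₂ : R₂.Normal := ⟨fun z hz g => ⟨(inferInstance : T.Normal).conj_mem _ hz.1 _, by
      refine Subgroup.mem_centralizer_iff.mpr fun w hw => ?_
      have h1 := Subgroup.mem_centralizer_iff.mp hz.2 _
        ((Subgroup.mem_normalizer_iff''.mp (hN g) w).mp hw)
      show w * ((g : G) * (z : G) * (g : G)⁻¹) = (g : G) * (z : G) * (g : G)⁻¹ * w
      replace h1 : (g : G)⁻¹ * w * g * (z : G) = (z : G) * ((g : G)⁻¹ * w * g) := h1
      calc w * ((g : G) * (z : G) * (g : G)⁻¹) = (g : G) * (((g : G)⁻¹ * w * g) * z) * (g : G)⁻¹ := by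
            group
        _ = (g : G) * ((z : G) * ((g : G)⁻¹ * w * g)) * (g : G)⁻¹ := by rw [h1]
        _ = _ := by group⟩⟩
    intro a ha b hb
    rw [commutatorElement_eq_one_iff_mul_comm.mpr
      (abelian_of_split P.2 hd R R₁ R₂ hR₁R hR₂R hnt.1 hnt.2 hdecomp hdisj hcomm12 hnle a ha b hb)]
    exact Subgroup.one_mem _
  by_cases hN : ∀ y : X, (y : G) ∈ Subgroup.normalizer (L : Set G)
  · exact hfix hN
  push Not at hN
  obtain ⟨y, hy⟩ := hN
  have hyR : y ∉ R := fun h => hy (Components.layer_le_normalizer hL h)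
  have hidx : R.index = p := (eq_top_or_index_eq P.2 hd R hnle).resolve_left
    fun h => hyR (h ▸ Subgroup.mem_top y)
  have hypR : y ^ p ∈ R := by
    have h : Nat.card (X ⧸ R) = p := (Subgroup.index_eq_card R).symm.trans hidx
    have h2 : (y : X ⧸ R) ^ Nat.card (X ⧸ R) = 1 := pow_card_eq_one'
    rw [h] at h2
    rwa [← QuotientGroup.eq_one_iff, QuotientGroup.mk_pow]
  have hmoved : ∀ i, 0 < i → i < p → (y : G) ^ i ∉ Subgroup.normalizer (L : Set G) := by
    intro i hi hip hmem
    refine hy ?_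
    have hpn : (y : G) ^ p ∈ Subgroup.normalizer (L : Set G) := by
      have := Components.layer_le_normalizer hL (show ((y ^ p : X) : G) ∈ T from hypR)
      rwa [SubgroupClass.coe_pow] at this
    have hco : Nat.Coprime i p :=
      ((hp.coprime_iff_not_dvd).mpr (Nat.not_dvd_of_pos_of_lt hi hip)).symm
    obtain ⟨m, hm⟩ := Nat.exists_mul_mod_eq_one_of_coprime hco hp.one_lt
    have h2 : (y : G) ^ (i * m) = (y : G) * ((y : G) ^ p) ^ (i * m / p) := by
      conv_lhs => rw [← Nat.mod_add_div (i * m) p, hm.2, pow_add, pow_one, pow_mul]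
    have h3 : (y : G) = (y : G) ^ (i * m) * (((y : G) ^ p) ^ (i * m / p))⁻¹ := by
      rw [h2, mul_inv_cancel_right]
    rw [h3]
    exact Subgroup.mul_mem _ (by rw [pow_mul]; exact Subgroup.pow_mem _ hmem m)
      (Subgroup.inv_mem _ (Subgroup.pow_mem _ hpn _))
  have hab₁ : ∀ u ∈ R₁, ∀ v ∈ R₁, u * v = v * u := by
    refine abelian_of_moved P.2 hd R hidx hyR R₁ hR₁R ?_
    refine ⟨fun a => ⟨_, hproj a a.2 a.2⟩, fun a => hπL _, fun a b => ?_, fun a ha => ?_, ?_⟩
    · exact Subtype.ext (congrArg Subtype.val (map_mul π ⟨(a : X), a.2⟩ ⟨(b : X), b.2⟩) :)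
    · exact Subtype.ext (congrArg Subtype.val (hπid ⟨((a : X) : G), a.2⟩ ha) :)
    · intro i hi hip a ha
      refine Subtype.ext ?_
      have hM : IsComponent (L.map (MulAut.conj ((y : G) ^ i)).toMonoidHom) :=
        Components.component_map_conj _ hL
      have hne : L.map (MulAut.conj ((y : G) ^ i)).toMonoidHom ≠ L :=
        fun h => hmoved i hi hip (Components.map_conj_eq_iff_mem_normalizer.mp h)
      have hc := Components.component_le_centralizer hM hL hne
        (Subgroup.mem_map_of_mem _ (show (a : G) ∈ L from ha))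
      simp only [MulEquiv.toMonoidHom_eq_coe, MonoidHom.coe_coe, MulAut.conj_apply] at hc
      exact (congrArg Subtype.val (hπC ⟨((y : G) ^ i * ((a : X) : G) * ((y : G) ^ i)⁻¹),
        (inferInstance : T.Normal).conj_mem _ a.2 _⟩ hc) :)
  intro a ha b hb
  obtain ⟨u, hu, v, hv, rfl⟩ := hdecomp a ha
  obtain ⟨u', hu', v', hv', rfl⟩ := hdecomp b hb
  have hkey : π ⟨_, (T.mul_mem (hLT hu) hv.1 : ((u * v : X) : G) ∈ T)⟩ = ⟨u, hLT hu⟩ := by
    rw [show (⟨_, (T.mul_mem (hLT hu) hv.1 : ((u * v : X) : G) ∈ T)⟩ : T) =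
      ⟨u, hLT hu⟩ * ⟨v, hv.1⟩ from rfl, map_mul, hπid ⟨u, hLT hu⟩ hu, hπC ⟨v, hv.1⟩ hv.2, mul_one]
  have hkey' : π ⟨_, (T.mul_mem (hLT hu') hv'.1 : ((u' * v' : X) : G) ∈ T)⟩ = ⟨u', hLT hu'⟩ := by
    rw [show (⟨_, (T.mul_mem (hLT hu') hv'.1 : ((u' * v' : X) : G) ∈ T)⟩ : T) =
      ⟨u', hLT hu'⟩ * ⟨v', hv'.1⟩ from rfl, map_mul, hπid ⟨u', hLT hu'⟩ hu', hπC ⟨v', hv'.1⟩ hv'.2, mul_one]
  apply hπker ⁅(⟨_, T.mul_mem (hLT hu) hv.1⟩ : T), ⟨_, T.mul_mem (hLT hu') hv'.1⟩⁆
  rw [map_commutatorElement]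
  erw [hkey, hkey']
  rw [commutatorElement_eq_one_iff_mul_comm]
  exact Subtype.ext (congrArg Subtype.val (hab₁ u hu u' hu') :)

end Layer

/-- The group-theoretic content of S4587. -/
theorem main {p : ℕ} [Fact p.Prime] {G : Type*} [Group G] [Finite G] (P : Sylow p G)
    (hbig : p ^ 2 ∣ Nat.card G) (hcore : Cfsg.pPrimeCore p G = ⊥)
    (hcore' : (⁅(P : Subgroup G), (P : Subgroup G)⁆).normalCore = ⊥)
    (hnas : ¬ ∃ S : Subgroup G, S.Normal ∧ IsSimpleGroup S ∧ ¬ IsMulCommutative S ∧
      Subgroup.centralizer (S : Set G) = ⊥)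
    (hd : (commutator (P : Subgroup G)).index = p ^ 2) :
    ∃ x : G, (∃ k : ℕ, orderOf x = p ^ k) ∧
      (Nat.card (Subgroup.centralizer ({x} : Set G))).factorization p = 2 := by
  classical
  have hp := (Fact.out : p.Prime)
  by_cases hP : Nat.card (P : Subgroup G) = p ^ 2
  · refine ⟨1, ⟨0, by simp⟩, ?_⟩
    have h1 : Subgroup.centralizer ({(1 : G)} : Set G) = ⊤ :=
      eq_top_iff.mpr fun g _ => Subgroup.mem_centralizer_singleton_iff.mpr (by simp)
    rw [h1, Subgroup.card_top]
    exact Nat.pow_right_injective hp.two_le (P.card_eq_multiplicity.symm.trans hP)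
  have hmap : (commutator (P : Subgroup G)).map (P : Subgroup G).subtype =
      ⁅(P : Subgroup G), (P : Subgroup G)⁆ := by
    rw [commutator_def, Subgroup.map_commutator, ← MonoidHom.range_eq_map, Subgroup.range_subtype]
  by_cases hF : Cfsg.fittingSubgroup G = ⊥
  · haveI hnt : Nontrivial G := Finite.one_lt_card_iff_nontrivial.mp
      (lt_of_lt_of_le (Nat.one_lt_pow two_ne_zero hp.one_lt) (Nat.le_of_dvd Nat.card_pos hbig))
    have hgf : generalizedFittingSubgroup G = layer G := by
      rw [generalizedFittingSubgroup, hF, sup_bot_eq]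
    have hT : layer G ≠ ⊥ := fun h =>
      not_subsingleton G (Components.generalizedFitting_eq_bot_iff.mp (hgf.trans h))
    have hnle : ¬ (layer G).subgroupOf (P : Subgroup G) ≤ commutator (P : Subgroup G) := by
      intro hle
      obtain ⟨S, K, hK, hKS⟩ := Transfer.hasNormalPComplement_of_inf_le_frattini P (layer G) (by
        rintro z ⟨hz1, hz2⟩
        exact ⟨⟨z, hz2⟩, PGroup.commutator_le_frattini P.2 (hle hz1), rfl⟩)
      have hKbot : K.map (layer G).subtype = ⊥ := by
        rw [eq_bot_iff, ← hcore]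
        refine Thompson.le_pPrimeCore_of_isSubnormal
          (hK.isSubnormal.trans' (inferInstance : (layer G).Normal).isSubnormal) ?_
        rw [Subgroup.card_map_of_injective (layer G).subtype_injective]
        have h1 : K.index = Nat.card (S : Subgroup (layer G)) := hKS.symm.index_eq_card
        rw [← hKS.index_eq_card]
        exact ((hp.coprime_iff_not_dvd).mpr S.not_dvd_index).symm
      rw [Subgroup.map_eq_bot_iff, (layer G).ker_subtype, le_bot_iff] at hKbot
      have hcard := hKS.card_mul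
      rw [hKbot, Subgroup.card_bot, one_mul] at hcard
      have hpg : IsPGroup p (layer G) := by
        intro x
        have hx : x ∈ (S : Subgroup (layer G)) := by
          rw [Subgroup.eq_top_of_card_eq _ hcard]; exact Subgroup.mem_top x
        obtain ⟨k, hk⟩ := S.2 ⟨x, hx⟩
        exact ⟨k, congrArg Subtype.val hk⟩
      exact hT (eq_bot_iff.mpr (hF ▸ le_sSup ⟨inferInstance, hpg.isNilpotent⟩))
    have htwo : ∀ L : Subgroup G, IsComponent L → ∃ M : Subgroup G, IsComponent M ∧ M ≠ L := by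
      intro L hL
      by_contra hc
      push Not at hc
      have heq : layer G = L := le_antisymm
        (Components.layer_le_iff.mpr fun M hM => (hc M hM).le) (Components.component_le_layer hL)
      have hLn : L.Normal := heq ▸ (inferInstance : (layer G).Normal)
      have hzc : Subgroup.center L = ⊥ := by
        rw [eq_bot_iff]
        intro z hz
        have := (center_eq_bot_of_component hF hL).le
          ⟨z.2, Subgroup.mem_centralizer_iff.mpr fun g hg =>
            congrArg Subtype.val (Subgroup.mem_center_iff.mp hz ⟨g, hg⟩)⟩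
        exact Subtype.ext this
      haveI hLs : IsSimpleGroup L := by
        haveI := hL.2.2
        let e : L ⧸ Subgroup.center L ≃* L :=
          (QuotientGroup.quotientMulEquivOfEq hzc).trans QuotientGroup.quotientBot
        exact e.symm.isSimpleGroup
      refine hnas ⟨L, hLn, hLs, Components.not_isMulCommutative_of_isQuasisimple hL.2, ?_⟩
      rw [eq_bot_iff]
      intro z hz
      have h1 : z ∈ generalizedFittingSubgroup G := Components.centralizer_generalizedFitting_le
        (by rw [hgf, heq]; exact hz)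
      rw [hgf, heq] at h1
      exact (center_eq_bot_of_component hF hL).le ⟨h1, hz⟩
    exact exists_of_abelian_inf P hd (layer G)
      (abelian_inf_layer P hcore hF hd htwo hnle) hnle hP
  · obtain ⟨N, hNn, hNne, hNF, hNmin⟩ :=
      Solvable.exists_minimal_normal_le (Cfsg.fittingSubgroup G) hF
    haveI := hNn
    haveI : Group.IsNilpotent (Cfsg.fittingSubgroup G) := Fitting.fitting_isNilpotent
    haveI : Group.IsSolvable N :=
      Group.isSolvable_of_isSolvable_injective (f := Subgroup.inclusion hNF) (Subgroup.inclusion_injective hNF)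
    obtain ⟨q, hq, hqp', hNab, -, d, hd0, hqd⟩ := Solvable.exists_prime_of_minimal_normal N hNne hNmin
    haveI := hNab
    have hqp : q = p := by
      by_contra hne
      refine hNne (le_bot_iff.mp (hcore ▸ Thompson.le_pPrimeCore hNn ?_))
      rw [hqd]
      exact Nat.Coprime.pow_left d ((Nat.coprime_primes hq hp).mpr hne)
    subst hqp
    have hNP : N ≤ (P : Subgroup G) :=
      hqp'.le_sylow_of_normal P
    refine exists_of_abelian_inf P hd N (fun a ha b hb => ?_) (fun hle => hNne ?_) hP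
    · exact Subtype.ext (congrArg Subtype.val (mul_comm' (⟨_, ha⟩ : N) ⟨_, hb⟩) :)
    · refine le_bot_iff.mp (hcore' ▸ Subgroup.normal_le_normalCore.mpr fun z hz => ?_)
      rw [← hmap]
      exact ⟨⟨z, hNP hz⟩, hle hz, rfl⟩

end Cfsg.Agent.BC84.PSquare
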