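import Cfsg.Agent.Lib.CharCore.Complete
import Cfsg.Agent.Lib.CharInd.Basic

/-!
# Constituents of restrictions along `N ≤ H ≤ G`
-/

set_option autoImplicit false
set_option linter.unusedSectionVars false

namespace Cfsg.Agent.BC84

variable {G : Type*} [Group G] [Fintype G]

theorem classInner_restrict_ne_zero (χ : IrrCharacter G) {N H : Subgroup G} [Fintype N] [Fintype H] (hNH : N ≤ H)
    (η : IrrCharacter H) (θ : IrrCharacter N) (hη : ∀ n : N, (η : H → ℂ) ⟨n, hNH n.2⟩ = (θ : N → ℂ) n)
    (h : classInner (η : H → ℂ) (fun x : H => (χ : G → ℂ) x) ≠ 0) :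
    classInner (fun n : N => (χ : G → ℂ) n) (θ : N → ℂ) ≠ 0 := by
  classical
  obtain ⟨c, hc⟩ := CharCore.IsCharacter.exists_sum
    (CharCore.isCharacter_restrict (CharCore.irr_isCharacter χ) H)
  have hcη : classInner (fun x : H => (χ : G → ℂ) x) (η : H → ℂ) = (c η : ℂ) := by
    rw [hc, CharCore.classInner_sum_all]
  have hcη0 : c η ≠ 0 := fun h0 => h (by
    rw [← CharCore.conj_classInner, hcη, h0, Nat.cast_zero, map_zero])
  let r : IrrCharacter H → N → ℂ := fun φ n => (φ : H → ℂ) ⟨n, hNH n.2⟩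
  have hr : ∀ φ, ∃ k : ℕ, classInner (r φ) (θ : N → ℂ) = k := fun φ =>
    CharCore.IsCharacter.exists_classInner_irr_eq_natCast
      (CharCore.isCharacter_comp (CharCore.irr_isCharacter φ) (Subgroup.inclusion hNH)) θ
  choose k hk using hr
  have hkη : k η = 1 := by
    have h1 := hk η
    rw [show r η = (θ : N → ℂ) from funext hη, CharCore.classInner_irr_self] at h1
    exact_mod_cast h1.symm
  have e : (fun n : N => (χ : G → ℂ) n) = ∑ φ, (c φ : ℂ) • r φ := funext fun n => by
    have := congrFun hc ⟨n, hNH n.2⟩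
    simpa [Finset.sum_apply, r] using this
  rw [e, CharCore.classInner_sum_left]
  simp only [CharCore.classInner_smul_left, hk, ← Nat.cast_mul, ← Nat.cast_sum, Nat.cast_ne_zero]
  intro h0
  have h1 := Finset.sum_eq_zero_iff.mp h0 η (Finset.mem_univ η)
  rw [hkη, mul_one] at h1
  exact hcη0 h1

end Cfsg.Agent.BC84
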