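import Cfsg.Agent.BC84.PrincipalTwo
import Cfsg.Agent.Lib.CharCore.Complete
import Cfsg.Agent.Lib.CharCore.Linear
import Cfsg.Agent.Lib.CharInd.Basic

/-!
# Central characters and a normal subgroup; the principal block covers the principal block
-/

set_option autoImplicit false
set_option linter.unusedSectionVars false

namespace Cfsg.Agent.BC84

open BlocksCore
open scoped ComplexConjugate

variable {G : Type*} [Group G] [Fintype G] {M : Ideal AlgInt} {N : Subgroup G} [N.Normal] [Fintype N]

theorem sum_mul_apply {H : Type*} [Group H] [Fintype H] (χ : IrrCharacter H) {a : H → ℂ}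
    (ha : IsClassFunction H a) (y : H) :
    ∑ g, a g * (χ : H → ℂ) (g * y) = omega (χ : H → ℂ) a * (χ : H → ℂ) y := by
  obtain ⟨m, ρ, hρ, hχ⟩ := χ.2
  rw [← hχ]
  have h := congrArg (fun T => LinearMap.trace ℂ _ (T * ρ y)) (sum_smul_eq_omega_smul ρ ha (hρ := hρ))
  simp only [Finset.sum_mul, smul_mul_assoc, one_mul, map_sum, map_smul, smul_eq_mul, ← map_mul] at h
  exact h

theorem isClassFunction_restrict {A : G → ℂ} (hA : IsClassFunction G A) :
    IsClassFunction N (fun n : N => A n) := fun g h => by
  simpa using hA (g : G) (h : G)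

/-- The central character of `χ` on a class function supported in a normal subgroup is that of
any constituent of the restriction. -/
theorem omega_eq_omega_constituent (χ : IrrCharacter G) (θ : IrrCharacter N)
    (hover : classInner (fun n : N => (χ : G → ℂ) n) (θ : N → ℂ) ≠ 0) {A : G → ℂ}
    (hA : IsClassFunction G A) (hsupp : ∀ g ∉ N, A g = 0) :
    omega (χ : G → ℂ) A = omega (θ : N → ℂ) (fun n : N => A n) := by
  classical
  have hres := CharCore.isCharacter_restrict (CharCore.irr_isCharacter χ) N
  obtain ⟨c, hc⟩ := CharCore.IsCharacter.exists_sum hres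
  have hkey : ∀ y : N, ∑ φ : IrrCharacter N, ((c φ : ℂ) *
      (omega (φ : N → ℂ) (fun n : N => A n) - omega (χ : G → ℂ) A)) * (φ : N → ℂ) y = 0 := by
    intro y
    have hy : ∀ z : N, (χ : G → ℂ) z = ∑ φ : IrrCharacter N, (c φ : ℂ) * (φ : N → ℂ) z := fun z => by
      have := congrFun hc z
      simpa [Finset.sum_apply] using this
    have h1 : ∑ g, A g * (χ : G → ℂ) (g * y) = ∑ n : N, A n * (χ : G → ℂ) ((n : G) * y) := by
      rw [← Finset.sum_filter_add_sum_filter_not Finset.univ (fun g => g ∈ N),
        Finset.sum_eq_zero (s := Finset.univ.filter (fun g => ¬ g ∈ N))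
          (fun g hg => by rw [hsupp g (Finset.mem_filter.mp hg).2, zero_mul]), add_zero]
      exact Finset.sum_subtype _ (by simp) (fun g => A g * (χ : G → ℂ) (g * y))
    have h2 : ∑ n : N, A n * (χ : G → ℂ) ((n : G) * y) =
        ∑ φ : IrrCharacter N, (c φ : ℂ) * (omega (φ : N → ℂ) (fun n : N => A n) * (φ : N → ℂ) y) := by
      simp only [← Subgroup.coe_mul, hy, Finset.mul_sum]
      rw [Finset.sum_comm]
      refine Finset.sum_congr rfl fun φ _ => ?_
      rw [← sum_mul_apply φ (isClassFunction_restrict hA) y, Finset.mul_sum]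
      exact Finset.sum_congr rfl fun n _ => by ring
    rw [sum_mul_apply χ hA, h2, hy, Finset.mul_sum] at h1
    rw [← sub_eq_zero.mpr h1.symm, ← Finset.sum_sub_distrib]
    exact Finset.sum_congr rfl fun φ _ => by ring
  have hlin := Fintype.linearIndependent_iff.mp (CharCore.linearIndependent_irr (G := N))
    (fun φ => (c φ : ℂ) * (omega (φ : N → ℂ) (fun n : N => A n) - omega (χ : G → ℂ) A))
    (funext fun y => by simpa [Finset.sum_apply] using hkey y) θ
  rw [mul_eq_zero, sub_eq_zero] at hlin
  refine (hlin.resolve_left ?_).symm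
  have hcθ : classInner (fun n : N => (χ : G → ℂ) n) (θ : N → ℂ) = (c θ : ℂ) := by
    rw [hc, CharCore.classInner_sum_all]
  rwa [← hcθ]

/-- The conjugate of an irreducible character of a normal subgroup. -/
noncomputable def conjIrr (t : G) (φ : IrrCharacter N) : IrrCharacter N :=
  ⟨fun n => (φ : N → ℂ) ((MulAut.conjNormal t : MulAut N) n),
    CharCore.isIrrCharacter_comp_surjective φ.2 (MulAut.conjNormal t : MulAut N).toMonoidHom
      (MulAut.conjNormal t : MulAut N).surjective⟩

theorem conjIrr_apply (t : G) (φ : IrrCharacter N) (n : N) :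
    ((conjIrr t φ : IrrCharacter N) : N → ℂ) n = (φ : N → ℂ) ((MulAut.conjNormal t : MulAut N) n) := rfl

theorem index_centralizer_mulEquiv {H : Type*} [Group H] [Fintype H] (α : H ≃* H) (h : H) :
    (Subgroup.centralizer ({α h} : Set H)).index = (Subgroup.centralizer ({h} : Set H)).index := by
  rw [← BlocksDefect.natCard_isConj, ← BlocksDefect.natCard_isConj]
  refine Nat.card_congr (α.toEquiv.subtypeEquiv fun x => ?_).symm
  simp only [isConj_iff]
  constructor
  · rintro ⟨c, rfl⟩; exact ⟨α c, by simp⟩
  · rintro ⟨c, hc⟩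
    exact ⟨α.symm c, α.injective (by simpa using hc)⟩

theorem conjIrr_mem_principalBlock (t : G) {φ : IrrCharacter N} (hφ : φ ∈ principalBlock M N) :
    conjIrr t φ ∈ principalBlock M N := by
  intro n
  have h := hφ ((MulAut.conjNormal t : MulAut N) n)
  simp only [centralChar, index_centralizer_mulEquiv] at h
  simpa [centralChar, conjIrr_apply] using h

theorem blockCoeff_principalBlock_conj (t : G) (n : N) :
    blockCoeff (principalBlock M N) ((MulAut.conjNormal t : MulAut N) n) = blockCoeff (principalBlock M N) n := by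
  unfold blockCoeff
  congr 1
  have hbij : Set.BijOn (conjIrr t) (principalBlock M N) (principalBlock M N) := by
    refine Set.InvOn.bijOn (f' := conjIrr t⁻¹) ⟨fun φ _ => ?_, fun φ _ => ?_⟩
      (fun φ hφ => conjIrr_mem_principalBlock t hφ) (fun φ hφ => conjIrr_mem_principalBlock t⁻¹ hφ)
    all_goals
      apply Subtype.ext
      funext m
      simp only [conjIrr_apply, ← MulAut.mul_apply, ← map_mul]
      simp
  refine finsum_mem_eq_of_bijOn (conjIrr t) hbij fun φ _ => ?_
  simp [conjIrr_apply]

/-- The principal block covers only the principal block of a normal subgroup. -/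
theorem mem_principalBlock_of_constituent {p : ℕ} (hM : IsPModular p M) (χ : IrrCharacter G)
    (θ : IrrCharacter N) (hover : classInner (fun n : N => (χ : G → ℂ) n) (θ : N → ℂ) ≠ 0)
    (hχ : χ ∈ principalBlock M G) : θ ∈ principalBlock M N := by
  classical
  have := isPrime hM
  set B := principalBlock M N with hBdef
  have hB : IsPBlock M B := isPBlock_blockOf (oneChar N)
  set A : G → ℂ := extendByZero N (blockCoeff B) with hAdef
  have hA : IsClassFunction G A := by
    intro g h
    by_cases hg : g ∈ N
    · rw [hAdef, CharInd.extendByZero_mem _ hg,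
        CharInd.extendByZero_mem _ ((inferInstance : N.Normal).conj_mem g hg h)]
      have := blockCoeff_principalBlock_conj (M := M) h ⟨g, hg⟩
      convert this using 2
      exact Subtype.ext (MulAut.conjNormal_apply h ⟨g, hg⟩).symm
    · have hg' : h * g * h⁻¹ ∉ N := fun hh => hg (by
        simpa [mul_assoc] using (inferInstance : N.Normal).conj_mem _ hh h⁻¹)
      rw [hAdef, CharInd.extendByZero_notMem _ hg, CharInd.extendByZero_notMem _ hg']
  have hsupp : ∀ g ∉ N, A g = 0 := fun g hg => CharInd.extendByZero_notMem _ hg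
  have hAint : IsIntClassFun M A := ⟨hA, fun g => by
    by_cases hg : g ∈ N
    · rw [hAdef, CharInd.extendByZero_mem _ hg]; exact (isIntClassFun_blockCoeff hM hB).2 _
    · rw [hsupp g hg]; exact (localRing M).zero_mem⟩
  have hres : (fun n : N => A n) = blockCoeff B := funext fun n => CharInd.extendByZero_coe N _ n
  have hone : classInner (fun n : N => ((oneChar G : IrrCharacter G) : G → ℂ) n)
      ((oneChar N : IrrCharacter N) : N → ℂ) ≠ 0 := by
    have := CharCore.classInner_irr_self (oneChar N)
    show classInner ((oneChar N : IrrCharacter N) : N → ℂ) ((oneChar N : IrrCharacter N) : N → ℂ) ≠ 0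
    rw [this]; exact one_ne_zero
  have h := omega_sub_memLocalIdeal ((mem_principalBlock_iff χ).mp hχ) hAint
  rw [omega_eq_omega_constituent χ θ hover hA hsupp,
    omega_eq_omega_constituent (oneChar G) (oneChar N) hone hA hsupp, hres, omega_blockCoeff,
    omega_blockCoeff, Set.indicator_of_mem (show oneChar N ∈ B from (mem_principalBlock_iff _).mpr (sameBlock_refl _))] at h
  by_contra hθ
  rw [Set.indicator_of_notMem hθ, Pi.one_apply, zero_sub] at h
  exact not_memLocalIdeal_one (by simpa using memLocalIdeal_neg h)

end Cfsg.Agent.BC84
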