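import Cfsg.Agent.BC85.Contribution
import Cfsg.Agent.Lib.BlocksDefect.Induced
import Cfsg.Agent.Lib.BlocksDefect.Kernel
import Cfsg.Agent.Lib.BlocksDefect.Central
import Cfsg.Agent.Lib.BlocksDefect.Pairing
import Cfsg.Agent.Lib.BlocksCore.DefectZero
import Cfsg.Agent.Lib.BlocksCore.PPart

/-!
# 2-blocks of defect one
-/

set_option autoImplicit false
set_option linter.unusedSectionVars false

namespace Cfsg.Agent.BC84

open BlocksCore BlocksDefect
open scoped ComplexConjugate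

variable {G : Type*} [Group G] [Finite G] {M : Ideal AlgInt}

theorem blockHeight_eq_zero_of_defect_one {p : ℕ} [Fact p.Prime] (hM : IsPModular p M) {B : Set (IrrCharacter G)}
    (hB : IsPBlock M B) (hd : blockDefect p B = 1) {χ : IrrCharacter G} (hχ : χ ∈ B) :
    blockHeight p B (χ : G → ℂ) = 0 := by
  have := isPrime hM
  have := Fintype.ofFinite G
  by_contra h
  have hle := BC85.degree_factorization_le (p := p) χ
  have hinf := BC85.sInf_le_degree (p := p) (B := B) hχ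
  unfold blockHeight at h
  unfold blockDefect at hd
  have hnd : ¬ p ∣ Nat.card G / charDegree (χ : G → ℂ) := by
    intro hdvd
    have hne : Nat.card G / charDegree (χ : G → ℂ) ≠ 0 :=
      (Nat.div_pos (Nat.le_of_dvd Nat.card_pos (charDegree_dvd_card χ)) (charDegree_pos χ)).ne'
    have h1 := (Fact.out : p.Prime).dvd_iff_one_le_factorization hne |>.mp hdvd
    rw [Nat.factorization_div (charDegree_dvd_card χ)] at h1
    simp only [Finsupp.tsub_apply] at h1
    omega
  have hBs : B = {χ} := by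
    rw [isPBlock_eq_blockOf hB hχ]
    exact blockOf_eq_singleton_of_not_dvd hM χ hnd
  rw [hBs, Set.image_singleton, csInf_singleton] at h
  omega

/-- The two members of a 2-block of defect one. -/
theorem card_eq_two_of_defect_one [Fact (Nat.Prime 2)] (hM : IsPModular 2 M) {B : Set (IrrCharacter G)}
    (hB : IsPBlock M B) (hd : blockDefect 2 B = 1) :
    Nat.card B = 2 ∧ ∀ χ ∈ B, ∀ ψ ∈ B, BC85.prj 2 χ ψ = 1 / 2 ∧
      (∀ g, ¬ 2 ∣ orderOf g → (χ : G → ℂ) g = (ψ : G → ℂ) g) ∧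
      (χ ≠ ψ → ∀ g, 2 ∣ orderOf g → (χ : G → ℂ) g = - (ψ : G → ℂ) g) := by
  classical
  have := isPrime hM
  have := Fintype.ofFinite G
  have := finite_irr (G := G)
  have := Fintype.ofFinite (IrrCharacter G)
  obtain ⟨m, hm, hsym, hidem, -, hodd, -⟩ := BC85.exists_matrix hM hB
  have h0 : ∀ χ : B, blockHeight 2 B ((χ : IrrCharacter G) : G → ℂ) = 0 := fun χ =>
    blockHeight_eq_zero_of_defect_one hM hB hd χ.2
  have hodd' : ∀ χ ψ : B, ¬ (2 : ℤ) ∣ m χ ψ := fun χ ψ => by simpa [h0 χ] using hodd χ ψ (h0 ψ)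
  have hsq : ∀ χ : B, ∑ ψ : B, m χ ψ * m χ ψ = 2 * m χ χ := fun χ => by
    have := hidem χ χ
    rw [hd, pow_one] at this
    refine (Finset.sum_congr rfl fun ψ _ => ?_).trans this
    rw [hsym χ ψ]
  have hone : ∀ χ ψ : B, m χ ψ * m χ ψ ≥ 1 := fun χ ψ => by
    have : m χ ψ ≠ 0 := fun h => hodd' χ ψ (h ▸ dvd_zero 2)
    nlinarith [mul_self_pos.mpr this]
  have hdiag : ∀ χ : B, m χ χ = 1 := fun χ => by
    have h1 : m χ χ * m χ χ ≤ 2 * m χ χ := hsq χ ▸
      Finset.single_le_sum (fun ψ _ => mul_self_nonneg (m χ ψ)) (Finset.mem_univ χ)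
    have h2 := hone χ χ
    have h3 : m χ χ ≤ 2 := by nlinarith
    have h4 : 0 < m χ χ := by nlinarith
    have h5 : m χ χ ≠ 2 := fun h => hodd' χ χ (by rw [h])
    omega
  have hcard : Fintype.card B = 2 := by
    obtain ⟨χ₀, hχ₀⟩ := isPBlock_nonempty hB
    have h1 := hsq ⟨χ₀, hχ₀⟩
    rw [hdiag] at h1
    have h2 : (Fintype.card B : ℤ) ≤ 2 := by
      calc (Fintype.card B : ℤ) = ∑ _ψ : B, (1 : ℤ) := by simp
        _ ≤ ∑ ψ : B, m ⟨χ₀, hχ₀⟩ ψ * m ⟨χ₀, hχ₀⟩ ψ := Finset.sum_le_sum fun ψ _ => hone _ ψ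
        _ = 2 := by rw [h1, mul_one]
    have h3 : Fintype.card B ≠ 1 := by
      intro h
      obtain ⟨c, hc⟩ := Fintype.card_eq_one_iff.mp h
      rw [Fintype.sum_eq_single ⟨χ₀, hχ₀⟩ (fun ψ hψ => absurd ((hc ψ).trans (hc _).symm) hψ), hdiag] at h1
      omega
    have h4 : 0 < Fintype.card B := Fintype.card_pos_iff.mpr ⟨⟨χ₀, hχ₀⟩⟩
    omega
  refine ⟨by rw [Nat.card_eq_fintype_card, hcard], ?_⟩
  have hprj : ∀ χ ψ : B, BC85.prj 2 (χ : IrrCharacter G) ψ = (m χ ψ : ℂ) / 2 := fun χ ψ => by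
    have := hm χ ψ
    rw [hd, pow_one] at this
    push_cast at this
    rw [this]; ring
  -- the regular part of a member
  have hreg : ∀ (χ ψ : B), χ ≠ ψ → ∀ g, pRegularPart 2 ((χ : IrrCharacter G) : G → ℂ) g =
      (1 / 2 : ℂ) * ((χ : IrrCharacter G) : G → ℂ) g + (m χ ψ : ℂ) / 2 * ((ψ : IrrCharacter G) : G → ℂ) g := by
    intro χ ψ hne g
    rw [BC85.pRegularPart_eq_finsum hM hB χ.2 g, ← finsum_set_coe_eq_finsum_mem, finsum_eq_sum_of_fintype]
    have huniv : (Finset.univ : Finset B) = {χ, ψ} :=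
      (Finset.eq_univ_of_card _ (by rw [Finset.card_pair hne, hcard])).symm
    rw [huniv, Finset.sum_pair hne, hprj, hprj, hdiag]
    push_cast
    ring
  have hval : ∀ χ ψ : B, χ ≠ ψ → m χ ψ = 1 := by
    intro χ ψ hne
    have h1 := hreg χ ψ hne 1
    rw [show pRegularPart 2 ((χ : IrrCharacter G) : G → ℂ) 1 = ((χ : IrrCharacter G) : G → ℂ) 1 by
      simp [pRegularPart, IsPRegular], BlocksCore.irr_one_eq, BlocksCore.irr_one_eq] at h1
    have h2 : ((charDegree ((χ : IrrCharacter G) : G → ℂ) : ℤ) : ℂ) =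
        ((m χ ψ * charDegree ((ψ : IrrCharacter G) : G → ℂ) : ℤ) : ℂ) := by
      push_cast
      linear_combination 2 * h1
    have h3 := Int.cast_injective h2
    have hx := hsq χ
    have huniv : (Finset.univ : Finset B) = {χ, ψ} :=
      (Finset.eq_univ_of_card _ (by rw [Finset.card_pair hne, hcard])).symm
    rw [huniv, Finset.sum_pair hne, hdiag] at hx
    have h4 := charDegree_pos (χ : IrrCharacter G)
    rcases Int.eq_one_or_neg_one_of_mul_eq_one (show m χ ψ * m χ ψ = 1 by linarith) with h | h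
    · exact h
    · rw [h] at h3; omega
  intro χ hχ ψ hψ
  refine ⟨?_, ?_, ?_⟩
  · rw [hprj ⟨χ, hχ⟩ ⟨ψ, hψ⟩]
    by_cases h : (⟨χ, hχ⟩ : B) = ⟨ψ, hψ⟩
    · rw [h, hdiag]; norm_num
    · rw [hval _ _ h]; norm_num
  · intro g hg
    by_cases h : χ = ψ
    · rw [h]
    · have h1 := hreg ⟨χ, hχ⟩ ⟨ψ, hψ⟩ (fun e => h (congrArg Subtype.val e)) g
      rw [hval _ _ (fun e => h (congrArg Subtype.val e))] at h1
      simp only [pRegularPart, IsPRegular, hg, not_false_eq_true, if_true] at h1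
      push_cast at h1
      linear_combination 2 * h1
  · intro h g hg
    have h1 := hreg ⟨χ, hχ⟩ ⟨ψ, hψ⟩ (fun e => h (congrArg Subtype.val e)) g
    rw [hval _ _ (fun e => h (congrArg Subtype.val e))] at h1
    simp only [pRegularPart, IsPRegular, hg, not_true_eq_false, if_false] at h1
    push_cast at h1
    linear_combination -2 * h1

theorem blockDefect_eq_one {p : ℕ} [Fact p.Prime] (hM : IsPModular p M) {B : Set (IrrCharacter G)}
    (hB : IsPBlock M B) {D : Subgroup G} (hD : IsDefectGroup p M B D) (hc : Nat.card D = p) :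
    blockDefect p B = 1 :=
  Nat.pow_right_injective (Fact.out : p.Prime).two_le
    (show p ^ blockDefect p B = p ^ 1 by rw [pow_one, ← defectGroup_natCard hM hB hD, hc])

end Cfsg.Agent.BC84
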