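import Cfsg.Agent.BC84.Extensions
import Cfsg.Agent.Lib.CharCore.ModP
import Cfsg.Agent.Lib.BlocksCore.Omega
import Cfsg.Agent.Lib.CharInd.Char
import Cfsg.Agent.Lib.CharClifford.Central
import Cfsg.Agent.Lib.PGroup.Basic

/-!
# The kernel of the characters of degree prime to `p`
-/

set_option autoImplicit false
set_option linter.unusedSectionVars false

namespace Cfsg.Agent.BC84

open scoped ComplexConjugate

variable {G : Type*} [Group G] [Fintype G] {p : ℕ}

/-- A nontrivial `p'`-element centralizing a Sylow subgroup is outside the kernel of some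
character of degree prime to `p`. -/
theorem eq_one_of_mem_kernel_centralizer [Fact p.Prime] (P : Sylow p G) {c : G}
    (hc : c ∈ Subgroup.centralizer ((P : Subgroup G) : Set G)) (hreg : ¬ p ∣ orderOf c)
    (hker : ∀ χ : IrrCharacter G, ¬ p ∣ charDegree (χ : G → ℂ) → (χ : G → ℂ) c = (χ : G → ℂ) 1) :
    c = 1 := by
  classical
  by_contra hne
  have hpp := (Fact.out : p.Prime)
  have := Fintype.ofFinite (P : Subgroup G)
  set Φ := indFun (P : Subgroup G) (1 : ↥(P : Subgroup G) → ℂ) with hΦ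
  obtain ⟨k, hk⟩ := CharCore.IsCharacter.exists_sum (CharInd.isCharacter_indFun (P : Subgroup G) (θ := (1 : ↥(P : Subgroup G) → ℂ)) CharCore.isCharacter_one)
  have hΦc : Φ c = 0 := by
    refine CharInd.indFun_eq_zero_of_forall_notMem _ _ fun x hx => hne ?_
    obtain ⟨j, hj⟩ := P.2 ⟨_, hx⟩
    have h1 : orderOf (x⁻¹ * c * x) = orderOf c := by
      have := (MulAut.conj x⁻¹).orderOf_eq c
      simpa using this
    have h2 : orderOf c ∣ p ^ j := h1 ▸ orderOf_dvd_of_pow_eq_one (congrArg Subtype.val hj)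
    exact orderOf_eq_one_iff.mp (Nat.eq_one_of_dvd_coprimes
      (Nat.Coprime.pow_left j (hpp.coprime_iff_not_dvd.mpr hreg)) h2 dvd_rfl)
  have hΦ1 : Φ 1 = ((P : Subgroup G).index : ℂ) := by
    rw [hΦ, CharInd.indFun_apply_one]
    simp
  have hidx : ¬ p ∣ (Subgroup.centralizer ({c} : Set G)).index := fun h =>
    P.not_dvd_index (h.trans (Subgroup.index_dvd_of_le fun x hx =>
      Subgroup.mem_centralizer_iff.mpr fun y hy => by
        rw [Set.mem_singleton_iff.mp hy]
        exact (Subgroup.mem_centralizer_iff.mp hc x hx).symm))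
  have hterm : ∀ χ : IrrCharacter G, CharCore.ModP p ((χ : G → ℂ) c - (χ : G → ℂ) 1) := by
    intro χ
    by_cases hd : p ∣ charDegree (χ : G → ℂ)
    · refine CharCore.ModP.sub ?_ (by rw [BlocksCore.irr_one_eq]; exact CharCore.ModP.of_dvd hd)
      set i := (Subgroup.centralizer ({c} : Set G)).index
      have h1 : CharCore.ModP p ((i : ℂ) * (χ : G → ℂ) c) := by
        have e : (i : ℂ) * (χ : G → ℂ) c = centralChar (χ : G → ℂ) c * (charDegree (χ : G → ℂ) : ℂ) := by
          rw [centralChar, ← BlocksCore.irr_one_eq, div_mul_cancel₀ _ (BlocksCore.irr_one_ne_zero χ)]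
        rw [e]
        exact (CharCore.ModP.of_dvd hd).mul_left (BlocksCore.isIntegral_centralChar χ c)
      obtain ⟨t, -, ht⟩ := Nat.exists_mul_mod_eq_of_coprime 1 ((hpp.coprime_iff_not_dvd.mpr hidx).symm) hpp.ne_zero
      have h2 : CharCore.ModP p ((((i * t : ℕ) : ℤ) - 1 : ℤ) : ℂ) := CharCore.modP_intCast_iff.mpr
        (Nat.modEq_iff_dvd.mp (show 1 ≡ i * t [MOD p] from ht.symm))
      have h3 := (h1.mul_left (CharCore.isIntegral_natCast t)).sub (h2.mul_right (BlocksCore.isIntegral_irr χ c))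
      convert h3 using 1
      push_cast
      ring
    · rw [hker χ hd, sub_self]; exact CharCore.ModP.zero
  have hmod : CharCore.ModP p (Φ c - Φ 1) := by
    rw [hΦ, hk]
    simp only [Finset.sum_apply, Pi.smul_apply, smul_eq_mul, ← Finset.sum_sub_distrib, ← mul_sub]
    exact CharCore.ModP.sum _ _ fun χ _ => (hterm χ).mul_left (CharCore.isIntegral_natCast _)
  rw [hΦc, hΦ1, zero_sub] at hmod
  have h := hmod.neg
  rw [neg_neg] at h
  exact P.not_dvd_index (CharCore.modP_natCast_iff.mp h)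

/-- A normal subgroup in which `P` has trivial centralizer has order prime to `p`. -/
theorem not_dvd_card_of_inf_centralizer_eq_bot [Fact p.Prime] (P : Sylow p G) (N : Subgroup G) [N.Normal]
    (hN : N ⊓ Subgroup.centralizer ((P : Subgroup G) : Set G) = ⊥) : ¬ p ∣ Nat.card N := by
  classical
  intro hdvd
  obtain ⟨a, ha⟩ := exists_prime_orderOf_dvd_card' (G := N) p hdvd
  have ha1 : orderOf (a : G) = p := by rw [Subgroup.orderOf_coe, ha]
  obtain ⟨Q, hQ⟩ := IsPGroup.exists_le_sylow (P := Subgroup.zpowers (a : G))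
    (IsPGroup.of_card (n := 1) (by rw [pow_one, Nat.card_zpowers, ha1]))
  obtain ⟨g, hg⟩ := MulAction.exists_smul_eq G Q P
  set b := g * (a : G) * g⁻¹
  have hbN : b ∈ N := (inferInstance : N.Normal).conj_mem _ a.2 g
  have hbP : b ∈ (P : Subgroup G) := by
    rw [← hg]
    show b ∈ ((g • Q : Sylow p G) : Subgroup G)
    rw [Sylow.smul_def, Sylow.pointwise_smul_def]
    exact Subgroup.mem_pointwise_smul_iff_inv_smul_mem.mpr (by
      simpa [b, MulAut.smul_def, mul_assoc] using hQ (Subgroup.mem_zpowers (a : G)))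
  have hPp : IsPGroup p (P : Subgroup G) := P.2
  have hb1 : (⟨b, hbP⟩ : (P : Subgroup G)) ≠ 1 := by
    intro h
    have h' : b = 1 := congrArg Subtype.val h
    have : orderOf b = p := by rw [← ha1]; exact (MulAut.conj g).orderOf_eq (a : G)
    rw [h', orderOf_one] at this
    exact (Fact.out : p.Prime).ne_one this.symm
  set NP := N.subgroupOf (P : Subgroup G) with hNP
  have hne : NP ≠ ⊥ := fun h => hb1 (Subgroup.mem_bot.mp (h ▸ (Subgroup.mem_subgroupOf.mpr hbN : (⟨b, hbP⟩ : (P : Subgroup G)) ∈ NP)))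
  obtain ⟨⟨z, hz⟩, hz1⟩ := Subgroup.ne_bot_iff_exists_ne_one.mp (PGroup.inf_center_ne_bot hPp hne)
  refine hz1 (Subtype.ext (Subtype.ext ?_))
  have : (z : G) ∈ N ⊓ Subgroup.centralizer ((P : Subgroup G) : Set G) := ⟨Subgroup.mem_subgroupOf.mp hz.1,
    Subgroup.mem_centralizer_iff.mpr fun u hu => congrArg Subtype.val (Subgroup.mem_center_iff.mp hz.2 ⟨u, hu⟩)⟩
  rw [hN] at this
  exact Subgroup.mem_bot.mp this

/-- A character of degree prime to `p` has a linear constituent on a Sylow subgroup. -/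
theorem exists_linear_constituent [Fact p.Prime] (P : Sylow p G) [Fintype (P : Subgroup G)] (χ : IrrCharacter G)
    (hd : ¬ p ∣ charDegree (χ : G → ℂ)) :
    ∃ f : (P : Subgroup G) →* ℂˣ,
      classInner (fun x : (P : Subgroup G) => (χ : G → ℂ) x) (fun x => (f x : ℂ)) ≠ 0 := by
  classical
  have hφ := CharCore.isCharacter_restrict (CharCore.irr_isCharacter χ) (P : Subgroup G)
  obtain ⟨k, hk⟩ := CharCore.IsCharacter.exists_sum hφ
  by_contra hnone
  push Not at hnone
  refine hd ?_
  have h1 : (charDegree (χ : G → ℂ) : ℂ) = ∑ ψ : IrrCharacter (P : Subgroup G), (k ψ : ℂ) * (ψ : ↥(P : Subgroup G) → ℂ) 1 := by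
    rw [← BlocksCore.irr_one_eq]
    have := congrFun hk 1
    simpa using this
  simp only [BlocksCore.irr_one_eq, ← Nat.cast_mul, ← Nat.cast_sum, Nat.cast_inj] at h1
  rw [h1]
  refine Finset.dvd_sum fun ψ _ => ?_
  obtain ⟨d, -, hdvd, hd1⟩ := CharClifford.exists_degree_dvd_card ψ.2
  have hdeg : charDegree (ψ : ↥(P : Subgroup G) → ℂ) = d := by
    exact_mod_cast (BlocksCore.irr_one_eq ψ).symm.trans hd1
  obtain ⟨n, hn⟩ := IsPGroup.iff_card.mp P.2
  rw [hn] at hdvd
  obtain ⟨i, -, hi⟩ := (Nat.dvd_prime_pow (Fact.out : p.Prime)).mp hdvd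
  rcases Nat.eq_zero_or_pos i with rfl | hipos
  · obtain ⟨f, hf⟩ := CharCore.IsCharacter.exists_hom_of_degree_one (CharCore.irr_isCharacter ψ)
      (by rw [hd1, hi, pow_zero, Nat.cast_one])
    have h0 := hnone f
    rw [hk, ← hf, CharCore.classInner_sum_all, Nat.cast_eq_zero] at h0
    rw [h0, zero_mul]
    exact dvd_zero p
  · rw [hdeg, hi]
    exact dvd_mul_of_dvd_right (dvd_pow_self p hipos.ne') _

end Cfsg.Agent.BC84
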