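import Cfsg.Agent.BC84.TwoContr
import Cfsg.Agent.BC85.Counting
import Cfsg.Agent.BC85.Basic
import Cfsg.Agent.Lib.BlocksCore.DefectZero

/-!
# Major subsections of 2-blocks
-/

set_option autoImplicit false
set_option linter.unusedSectionVars false

namespace Cfsg.Agent.BC84

open BlocksCore BlocksDefect
open scoped ComplexConjugate

/-- The numerical bound. -/
theorem three_bound {ι : Type*} [Fintype ι] (d : ℕ) (h : ι → ℕ) (W : ι → ℤ)
    (hsum : ∑ i, W i ≤ 3 * 2 ^ d)
    (hodd : ∀ i, h i = 0 → ¬ (2 : ℤ) ∣ W i)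
    (hrow : ∀ i, h i = 0 → ∑ j, (2 : ℤ) ^ (2 * h j) ≤ 2 ^ d * W i)
    (hhigh : ∀ i, 1 ≤ h i → (2 : ℤ) ^ (h i + 1) ≤ W i) :
    ∑ i, (if h i = 0 then 3 else 2 * (2 : ℤ) ^ h i) ≤ 3 * 2 ^ d := by
  classical
  by_cases hex : ∃ i, h i = 0 ∧ W i = 1
  · obtain ⟨i, hi, hW⟩ := hex
    have h1 := hrow i hi
    rw [hW, mul_one] at h1
    refine le_trans ?_ (mul_le_mul_of_nonneg_left h1 (by norm_num : (0 : ℤ) ≤ 3))
    rw [Finset.mul_sum]
    refine Finset.sum_le_sum fun j _ => ?_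
    split_ifs with hj
    · simp [hj]
    · have h2 : (2 : ℤ) ^ h j ≤ 2 ^ (2 * h j) := pow_le_pow_right₀ (by norm_num) (by omega)
      have h3 : (0 : ℤ) ≤ 2 ^ h j := by positivity
      linarith
  · push Not at hex
    refine le_trans (Finset.sum_le_sum fun i _ => ?_) hsum
    split_ifs with hi
    · have h1 : 0 < W i := by
        have h2 := hrow i hi
        have h3 : (2 : ℤ) ^ (2 * h i) ≤ ∑ j, (2 : ℤ) ^ (2 * h j) :=
          Finset.single_le_sum (f := fun j => (2 : ℤ) ^ (2 * h j)) (fun j _ => by positivity) (Finset.mem_univ i)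
        rw [hi, mul_zero, pow_zero] at h3
        have h4 : (1 : ℤ) ≤ 2 ^ d * W i := h3.trans h2
        exact pos_of_mul_pos_right (lt_of_lt_of_le one_pos h4) (by positivity)
      have h2 := hodd i hi
      have h3 := hex i hi
      omega
    · have h1 := hhigh i (by omega)
      rw [pow_succ] at h1
      linarith

variable {G : Type*} [Group G] [Finite G] [Fact (Nat.Prime 2)] {M : Ideal AlgInt} {u : G} {k : ℕ}
  (hM : IsPModular 2 M) (hu : orderOf u = 2 ^ k)
  {B : Set (IrrCharacter G)} {b : Set (IrrCharacter (Subgroup.centralizer ({u} : Set G)))}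
  (hb : IsInducedBlock M (Subgroup.centralizer ({u} : Set G)) b B)
  (hd : blockDefect 2 b = blockDefect 2 B)

include hM hu hb hd

theorem exists_omega_form (χ ψ : IrrCharacter G) (hχ : χ ∈ B) :
    ∃ (A : G → ℂ) (r : ℂ), IsIntClassFun M A ∧ MemLocalRing M r ∧ ¬ MemLocalIdeal M r ∧
      ∀ χ' : IrrCharacter G, χ' ∈ B → ∃ r' : ℂ, MemLocalRing M r' ∧ ¬ MemLocalIdeal M r' ∧
        Mc b χ' ψ = (2 : ℂ) ^ blockHeight 2 B (χ' : G → ℂ) * r' * omega (χ' : G → ℂ) A := by
  classical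
  have := isPrime hM
  have := Fintype.ofFinite G
  have := Fintype.ofFinite (Subgroup.centralizer ({u} : Set G))
  set w := sectMap 2 u b (ψ : G → ℂ) with hw
  have hwm : w ∈ regSpan 2 b := sectMap_mem u b _
  have hwint : ∀ c, IsIntegral ℤ (w c) := by
    intro c
    rw [hw, sectMap_eq_regPart]
    by_cases hc : 2 ∣ orderOf c
    · rw [BC85.pRegularPart_neg hc]; exact isIntegral_zero
    · rw [BC85.pRegularPart_pos hc, blockPart]
      obtain ⟨n, -, hn⟩ := exists_mult hM ψ (u := u)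
      have := finite_irr (G := Subgroup.centralizer ({u} : Set G))
      rw [finsum_mem_eq_finite_toFinset_sum _ b.toFinite]
      refine IsIntegral.sum _ fun η _ => IsIntegral.mul ?_ (isIntegral_irr η c)
      have h1 : IsIntegral ℤ ((n η : ℂ) * cval η (cu u)) := IsIntegral.mul (isIntegral_natCast (n η))
        (IsIntegral.of_pow (n := 2 ^ k) (by positivity) (by rw [cval_pow_eq_one hM hb η hu]; exact isIntegral_one))
      rw [← hn η] at h1
      convert h1
      rfl
  set A : G → ℂ := fun g => conj (spread u w g) with hA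
  have hAint : IsIntClassFun M A := by
    refine ⟨fun g x => by simp only [hA]; rw [isClassFunction_spread u w g x], fun g => ?_⟩
    simp only [hA]
    refine memLocalRing_of_isIntegral ?_
    suffices IsIntegral ℤ (spread u w g) from this.map (starRingEnd ℂ).toIntAlgHom
    obtain ⟨hc, hy⟩ := regular_inv_pp_mul (p := 2) g
    obtain ⟨-, -, -, ⟨k', hk'⟩, -⟩ := pp_spec (p := 2) g
    obtain ⟨hwc, hw0⟩ := isClassFunction_of_mem_regSpan hwm
    by_cases hconj : IsConj (pp 2 g) u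
    · obtain ⟨t, ht⟩ := isConj_iff.mp hconj
      have hcx : Commute u (t * ((pp 2 g)⁻¹ * g) * t⁻¹) := by
        rw [← ht]
        exact Commute.map hc (MulAut.conj t).toMonoidHom
      rw [← isClassFunction_spread u w g t, show t * g * t⁻¹ = u * (t * ((pp 2 g)⁻¹ * g) * t⁻¹) by rw [← ht]; group,
        (spread_apply hu hu hwc hw0 (by rwa [orderOf_conjugate]) hcx).2 rfl
          (Subgroup.mem_centralizer_singleton_iff.mpr hcx.symm.eq)]
      exact hwint _
    · have h1 := (spread_apply hu hk' hwc hw0 hy hc).1 hconj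
      rw [mul_inv_cancel_left] at h1
      rw [h1]; exact isIntegral_zero
  refine ⟨A, 1, hAint, (localRing M).one_mem, not_memLocalIdeal_one, fun χ' hχ' => ?_⟩
  set a := (Nat.card G).factorization 2 with ha
  set s := sInf ((fun χ : IrrCharacter G => (charDegree (χ : G → ℂ)).factorization 2) '' B) with hs
  set e := (charDegree (χ' : G → ℂ)).factorization 2 with he
  have hse : s ≤ e := BC85.sInf_le_degree hχ'
  have hea : e ≤ a := BC85.degree_factorization_le χ'
  set c := charDegree (χ' : G → ℂ) / 2 ^ e with hc'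
  set n' := Nat.card G / 2 ^ a with hn'
  have hcd : ((χ' : G → ℂ) 1) = (2 : ℂ) ^ e * (c : ℂ) := by
    have h1 : ((2 ^ e * c : ℕ) : ℂ) = (χ' : G → ℂ) 1 := by
      rw [irr_one_eq, hc', he, Nat.ordProj_mul_ordCompl_eq_self]
    rw [← h1]; push_cast; rfl
  have hnd : (Nat.card G : ℂ) = (2 : ℂ) ^ a * (n' : ℂ) := by
    have h1 : ((2 ^ a * n' : ℕ) : ℂ) = (Nat.card G : ℂ) := by rw [hn', ha, Nat.ordProj_mul_ordCompl_eq_self]
    rw [← h1]; push_cast; rfl
  have hn2 : ¬ 2 ∣ n' := Nat.not_dvd_ordCompl hM.1 Nat.card_pos.ne'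
  have hc2 : ¬ 2 ∣ c := Nat.not_dvd_ordCompl hM.1 (charDegree_pos χ').ne'
  refine ⟨(c : ℂ) * (n' : ℂ)⁻¹, (localRing M).mul_mem (memLocalRing_natCast c) (memLocalRing_natCast_inv hM hn2),
    fun h => ?_, ?_⟩
  · rcases memLocalIdeal_mem_or_mem (memLocalRing_natCast c) (memLocalRing_natCast_inv hM hn2) h with h' | h'
    · exact hc2 ((memLocalIdeal_natCast_iff hM c).mp h')
    · have := memLocalIdeal_mul_left (memLocalRing_natCast n') h'
      rw [mul_inv_cancel₀ (Nat.cast_ne_zero.mpr fun h0 : n' = 0 => hn2 (h0 ▸ dvd_zero 2))] at this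
      exact not_memLocalIdeal_one this
  have hcontr : contr 2 b (χ' : G → ℂ) (ψ : G → ℂ) = classInner (χ' : G → ℂ) (spread u w) := by
    rw [← classInner_sectMap hM hb.1 (CharCore.irr_isClassFunction χ') hwm]
    unfold contr
    congr!
  have hdd : blockDefect 2 b = a - s := hd
  have hh : blockHeight 2 B (χ' : G → ℂ) = e - s := rfl
  have homega : classInner (χ' : G → ℂ) (spread u w) = (χ' : G → ℂ) 1 * omega (χ' : G → ℂ) A / Nat.card G := by
    rw [omega_eq_sum, mul_div_cancel₀ _ (irr_one_ne_zero χ'), classInner, div_eq_inv_mul]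
    congr 1
    exact Finset.sum_congr rfl fun g _ => mul_comm _ _
  rw [Mc, hcontr, homega, hdd, hh, hcd, hnd]
  have h1 : (2 : ℂ) ^ (a - s) * 2 ^ e = 2 ^ (e - s) * 2 ^ a := by
    rw [← pow_add, ← pow_add]; congr 1; omega
  have hn0 : (n' : ℂ) ≠ 0 := Nat.cast_ne_zero.mpr fun h0 : n' = 0 => hn2 (h0 ▸ dvd_zero 2)
  field_simp
  linear_combination ((c : ℂ) * omega (χ' : G → ℂ) A) * h1

/-- Valuations against a member of height zero. -/
theorem Mc_val_zero {χ ψ : IrrCharacter G} (hχ : χ ∈ B) (hψ : ψ ∈ B) (hψ0 : blockHeight 2 B (ψ : G → ℂ) = 0) :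
    MemLocalRing M (Mc b χ ψ / 2 ^ blockHeight 2 B (χ : G → ℂ)) ∧
      ¬ MemLocalIdeal M (Mc b χ ψ / 2 ^ blockHeight 2 B (χ : G → ℂ)) := by
  have := isPrime hM
  have := Fintype.ofFinite G
  obtain ⟨A, -, hA, -, -, hform⟩ := exists_omega_form hM hu hb hd χ ψ hχ
  obtain ⟨r, hr1, hr2, hr⟩ := hform χ hχ
  obtain ⟨r', hr'1, hr'2, hr'⟩ := hform ψ hψ
  have hunit := Mc_unit hM hu hb hψ hψ hψ0 hψ0
  rw [hr', hψ0, pow_zero, one_mul] at hunit
  have hωloc : ∀ ξ : IrrCharacter G, MemLocalRing M (omega (ξ : G → ℂ) A) := fun ξ => omega_memLocalRing ξ hA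
  rw [hr, mul_assoc, mul_div_cancel_left₀ _ (pow_ne_zero _ two_ne_zero)]
  refine ⟨(localRing M).mul_mem hr1 (hωloc χ), fun h => ?_⟩
  have h1 := (memLocalIdeal_mem_or_mem hr1 (hωloc χ) h).resolve_left hr2
  have h2 := memLocalIdeal_sub h1 (omega_sub_memLocalIdeal (sameBlock_of_mem hb.2.1 hχ hψ) hA)
  rw [sub_sub_cancel] at h2
  exact hunit (memLocalIdeal_mul_left hr'1 h2)

/-- Valuations against a member of positive height. -/
theorem Mc_val_pos {χ ψ : IrrCharacter G} (hχ : χ ∈ B) (hψ : ψ ∈ B) (hψ0 : blockHeight 2 B (ψ : G → ℂ) ≠ 0) :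
    MemLocalIdeal M (Mc b χ ψ / 2 ^ blockHeight 2 B (χ : G → ℂ)) := by
  have := isPrime hM
  have := Fintype.ofFinite G
  obtain ⟨A, -, hA, -, -, hform⟩ := exists_omega_form hM hu hb hd χ ψ hχ
  obtain ⟨r, hr1, -, hr⟩ := hform χ hχ
  obtain ⟨χ₀, hχ₀, h00⟩ := exists_height_zero hM hb.2.1
  obtain ⟨r', hr'1, hr'2, hr'⟩ := hform χ₀ hχ₀
  have hωloc : ∀ ξ : IrrCharacter G, MemLocalRing M (omega (ξ : G → ℂ) A) := fun ξ => omega_memLocalRing ξ hA
  have hI : MemLocalIdeal M (Mc b ψ χ₀) := by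
    obtain ⟨hl, -⟩ := Mc_val_zero hM hu hb hd hψ hχ₀ h00
    have h2 : MemLocalIdeal M ((2 : ℂ) ^ blockHeight 2 B (ψ : G → ℂ)) := by
      have h3 := (memLocalIdeal_natCast_iff hM (2 ^ blockHeight 2 B (ψ : G → ℂ))).mpr (dvd_pow_self 2 hψ0)
      push_cast at h3
      exact h3
    have := memLocalIdeal_mul_right h2 hl
    rwa [mul_div_cancel₀ _ (pow_ne_zero _ two_ne_zero)] at this
  have hI' : MemLocalIdeal M (Mc b χ₀ ψ) := by
    rw [← conj_Mc hM ψ χ₀]
    exact Dyadic.conj_ideal hM (Mc_mem hM hu hb ψ χ₀) hI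
  rw [hr', h00, pow_zero, one_mul] at hI'
  have h1 := (memLocalIdeal_mem_or_mem hr'1 (hωloc χ₀) hI').resolve_left hr'2
  rw [hr, mul_assoc, mul_div_cancel_left₀ _ (pow_ne_zero _ two_ne_zero)]
  refine memLocalIdeal_mul_left hr1 ?_
  have h2 := memLocalIdeal_add (omega_sub_memLocalIdeal (sameBlock_of_mem hb.2.1 hχ hχ₀) hA) h1
  rwa [sub_add_cancel] at h2

theorem tau_entry [Fintype B] {χ : B} (hχ : blockHeight 2 B ((χ : IrrCharacter G) : G → ℂ) = 0) (ψ : B) :
    (2 : ℤ) ^ (2 * blockHeight 2 B ((ψ : IrrCharacter G) : G → ℂ)) ≤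
      Dyadic.tau k (Mc b (χ : IrrCharacter G) ψ * conj (Mc b (χ : IrrCharacter G) ψ)) := by
  have := isPrime hM
  obtain ⟨hl, hnu⟩ := Mc_val_zero hM hu hb hd ψ.2 χ.2 hχ
  rw [show Mc b (χ : IrrCharacter G) ψ * conj (Mc b (χ : IrrCharacter G) ψ) =
      Mc b (ψ : IrrCharacter G) χ * conj (Mc b (ψ : IrrCharacter G) χ) by
    rw [conj_Mc hM, conj_Mc hM]; ring]
  exact Dyadic.tau_self_pow hM (Mc_mem hM hu hb _ _) _ hl
    fun h0 => hnu (by rw [h0, zero_div]; exact memLocalIdeal_zero)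

theorem tau_dvd [Fintype B] {χ : B} (hχ : blockHeight 2 B ((χ : IrrCharacter G) : G → ℂ) ≠ 0) :
    (2 : ℤ) ^ (blockHeight 2 B ((χ : IrrCharacter G) : G → ℂ) + 1) ∣ Dyadic.tau k (Mc b (χ : IrrCharacter G) χ) :=
  Dyadic.tau_dvd_of_real hM (Mc_mem hM hu hb _ _) (conj_Mc hM _ _) _ (Mc_val_pos hM hu hb hd χ.2 χ.2 hχ)

theorem row_eq [Fintype B] (χ : B) :
    ∑ ψ : B, Dyadic.tau k (Mc b (χ : IrrCharacter G) ψ * conj (Mc b (χ : IrrCharacter G) ψ)) =
      2 ^ blockDefect 2 B * Dyadic.tau k (Mc b (χ : IrrCharacter G) χ) := by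
  rw [← Dyadic.tau_sum _ fun ψ _ => Dyadic.mul_mem (Mc_mem hM hu hb _ _) (Dyadic.conj_mem (Mc_mem hM hu hb _ _)),
    sum_normSq_Mc hM hu hb χ, Dyadic.tau_intCast_mul (Mc_mem hM hu hb _ _), hd]

/-- The bound when the rank or the corank is at most three. -/
theorem major_bound [Fintype B] (h3 : blockRank 2 b ≤ 3 ∨ Nat.card B ≤ blockRank 2 b + 3) :
    ∑ χ : B, (if blockHeight 2 B ((χ : IrrCharacter G) : G → ℂ) = 0 then 3
      else 2 * (2 : ℤ) ^ blockHeight 2 B ((χ : IrrCharacter G) : G → ℂ)) ≤ 3 * 2 ^ blockDefect 2 B := by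
  classical
  have := isPrime hM
  have := Fintype.ofFinite G
  set d := blockDefect 2 B with hdd
  set h : B → ℕ := fun χ => blockHeight 2 B ((χ : IrrCharacter G) : G → ℂ) with hh
  set t : B → ℤ := fun χ => Dyadic.tau k (Mc b (χ : IrrCharacter G) χ) with ht
  have hsum : ∑ χ, t χ = 2 ^ d * (blockRank 2 b : ℤ) := by
    simp only [ht]
    rw [← Dyadic.tau_sum _ fun χ _ => Mc_mem hM hu hb _ _, sum_Mc_self hM hu hb, Dyadic.tau_intCast, hd]
  have hpar : ∀ χ, h χ = 0 → ¬ (2 : ℤ) ∣ t χ := fun χ hχ =>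
    Dyadic.tau_parity hM (Mc_mem hM hu hb _ _) (conj_Mc hM _ _) (Mc_unit hM hu hb χ.2 χ.2 hχ hχ)
  obtain ⟨χ₀, hχ₀B, hχ₀⟩ := exists_height_zero hM hb.2.1
  set o : B := ⟨χ₀, hχ₀B⟩ with ho
  rcases h3 with hl | hk
  · refine three_bound d h t ?_ hpar (fun χ hχ => ?_) fun χ hχ => ?_
    · rw [hsum]
      have : (blockRank 2 b : ℤ) ≤ 3 := by exact_mod_cast hl
      nlinarith [pow_pos (two_pos : (0 : ℤ) < 2) d]
    · rw [← row_eq hM hu hb hd χ]
      exact Finset.sum_le_sum fun ψ _ => tau_entry hM hu hb hd hχ ψ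
    · refine Int.le_of_dvd ?_ (tau_dvd hM hu hb hd (by simp only [hh] at hχ; omega))
      have h1 := row_eq hM hu hb hd χ
      have h2 : 1 ≤ ∑ ψ : B, Dyadic.tau k (Mc b (χ : IrrCharacter G) ψ * conj (Mc b (χ : IrrCharacter G) ψ)) := by
        refine le_trans (Dyadic.one_le_tau_self (Mc_mem hM hu hb (χ : IrrCharacter G) (o : IrrCharacter G)) fun h0 =>
          (Mc_val_zero hM hu hb hd χ.2 o.2 hχ₀).2 (by rw [h0, zero_div]; exact memLocalIdeal_zero))
          (Finset.single_le_sum (fun ψ _ => Dyadic.tau_self_nonneg (Mc_mem hM hu hb _ _)) (Finset.mem_univ o))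
      rw [h1] at h2
      exact pos_of_mul_pos_right (lt_of_lt_of_le one_pos h2) (by positivity)
  · by_cases hd0 : d = 0
    · have hone : ∀ χ : B, χ = o := by
        intro χ
        have hnd : ¬ 2 ∣ Nat.card G / charDegree (χ₀ : G → ℂ) := by
          intro hdvd
          have hne : Nat.card G / charDegree (χ₀ : G → ℂ) ≠ 0 :=
            (Nat.div_pos (Nat.le_of_dvd Nat.card_pos (charDegree_dvd_card χ₀)) (charDegree_pos χ₀)).ne'
          have h1 := Nat.prime_two.dvd_iff_one_le_factorization hne |>.mp hdvd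
          rw [Nat.factorization_div (charDegree_dvd_card χ₀)] at h1
          simp only [Finsupp.tsub_apply] at h1
          have h2 := BC85.degree_factorization_le (p := 2) χ₀
          have h3 := BC85.sInf_le_degree (p := 2) (B := B) hχ₀B
          rw [hdd] at hd0
          unfold blockHeight at hχ₀
          unfold blockDefect at hd0
          omega
        have hBs : B = {χ₀} := by
          rw [isPBlock_eq_blockOf hb.2.1 hχ₀B]; exact blockOf_eq_singleton_of_not_dvd hM χ₀ hnd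
        apply Subtype.ext
        have h4 : (χ : IrrCharacter G) ∈ ({χ₀} : Set (IrrCharacter G)) := hBs ▸ χ.2
        exact h4
      rw [Fintype.sum_eq_single o (fun χ hne => absurd (hone χ) hne), if_pos hχ₀, hd0]
      norm_num
    · have hrow : ∀ χ : B, ∑ ψ : B, (if ψ = χ then (2 ^ d - t χ) * (2 ^ d - t χ) -
          t χ * t χ else 0) + 2 ^ d * t χ = 2 ^ d * (2 ^ d - t χ) := fun χ => by
        rw [Finset.sum_ite_eq' Finset.univ χ, if_pos (Finset.mem_univ _)]; ring
      have hdiag : ∀ χ : B, Dyadic.tau k (((((2 : ℤ) ^ d : ℤ) : ℂ) - Mc b (χ : IrrCharacter G) χ) *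
          conj ((((2 : ℤ) ^ d : ℤ) : ℂ) - Mc b (χ : IrrCharacter G) χ)) =
          Dyadic.tau k (Mc b (χ : IrrCharacter G) χ * conj (Mc b (χ : IrrCharacter G) χ)) +
            2 ^ d * (2 ^ d - 2 * t χ) := by
        intro χ
        set x := Mc b (χ : IrrCharacter G) χ with hx
        have hxm : x ∈ Dyadic.lat k := Mc_mem hM hu hb _ _
        rw [map_sub, map_intCast, conj_Mc hM]
        rw [show ((((2 : ℤ) ^ d : ℤ) : ℂ) - x) * ((((2 : ℤ) ^ d : ℤ) : ℂ) - x) =
          x * x + ((((2 : ℤ) ^ d * 2 ^ d : ℤ) : ℂ) + ((-(2 * 2 ^ d) : ℤ) : ℂ) * x) by push_cast; ring,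
          Dyadic.tau_add (Dyadic.mul_mem hxm hxm) (Submodule.add_mem _ (Dyadic.intCast_mem _)
            (Dyadic.mul_mem (Dyadic.intCast_mem _) hxm)),
          Dyadic.tau_add (Dyadic.intCast_mem _) (Dyadic.mul_mem (Dyadic.intCast_mem _) hxm),
          Dyadic.tau_intCast, Dyadic.tau_intCast_mul hxm]
        simp only [ht, ← hx]
        ring
      let E : B → B → ℤ := fun χ ψ => if ψ = χ then
          Dyadic.tau k (((((2 : ℤ) ^ d : ℤ) : ℂ) - Mc b (χ : IrrCharacter G) χ) *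
            conj ((((2 : ℤ) ^ d : ℤ) : ℂ) - Mc b (χ : IrrCharacter G) χ))
        else Dyadic.tau k (Mc b (χ : IrrCharacter G) ψ * conj (Mc b (χ : IrrCharacter G) ψ))
      have hE : ∀ χ : B, ∑ ψ : B, E χ ψ = 2 ^ d * (2 ^ d - t χ) := by
        intro χ
        have h1 := row_eq hM hu hb hd χ
        rw [← Finset.add_sum_erase _ _ (Finset.mem_univ χ)] at h1
        rw [← Finset.add_sum_erase _ _ (Finset.mem_univ χ), Finset.sum_congr rfl (fun ψ hψ => if_neg
          (Finset.mem_erase.mp hψ).1)]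
        simp only [E, if_true, hdiag, ht, ← hdd] at h1 ⊢
        linarith
      have hheight : ∀ χ : B, h χ ≠ 0 → h χ + 1 ≤ d := fun χ hχ => by
        have := (BC85.height_bound hM hb.2.1).2 (χ : IrrCharacter G) χ.2 (Nat.pos_of_ne_zero hχ)
        simp only [hh, hdd]; omega
      refine three_bound d h (fun χ => 2 ^ d - t χ) ?_ ?_ ?_ ?_
      · rw [Finset.sum_sub_distrib, hsum, Finset.sum_const, Finset.card_univ, nsmul_eq_mul, ← Nat.card_eq_fintype_card]
        have : (Nat.card B : ℤ) ≤ blockRank 2 b + 3 := by exact_mod_cast hk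
        nlinarith [pow_pos (two_pos : (0 : ℤ) < 2) d]
      · intro χ hχ hdvd
        exact hpar χ hχ (by simpa using dvd_sub (dvd_pow_self (2 : ℤ) hd0) hdvd)
      · intro χ hχ
        rw [← hE χ]
        refine Finset.sum_le_sum fun ψ _ => ?_
        simp only [E]
        split_ifs with he
        · subst he
          simp only [hh] at hχ ⊢
          rw [hχ, mul_zero, pow_zero]
          refine Dyadic.one_le_tau_self (Submodule.sub_mem _ (Dyadic.intCast_mem _) (Mc_mem hM hu hb _ _)) fun h0 => ?_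
          have h1 := Mc_unit hM hu hb ψ.2 ψ.2 hχ hχ
          rw [← sub_eq_zero.mp h0] at h1
          exact h1 ((memLocalIdeal_intCast_iff hM _).mpr (dvd_pow_self _ hd0))
        · exact tau_entry hM hu hb hd hχ ψ
      · intro χ hχ
        refine Int.le_of_dvd ?_ (dvd_sub (pow_dvd_pow 2 (hheight χ (by omega))) (tau_dvd hM hu hb hd (by simp only [hh] at hχ; omega)))
        have h1 := hE χ
        have hne : o ≠ χ := fun he => by rw [← he] at hχ; simp only [hh, ho] at hχ; omega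
        have hnn : ∀ ψ : B, 0 ≤ E χ ψ := fun ψ => by
          simp only [E]
          split_ifs
          · exact Dyadic.tau_self_nonneg (Submodule.sub_mem _ (Dyadic.intCast_mem _) (Mc_mem hM hu hb _ _))
          · exact Dyadic.tau_self_nonneg (Mc_mem hM hu hb _ _)
        have h2 : 1 ≤ E χ o := by
          simp only [E, if_neg hne]
          exact Dyadic.one_le_tau_self (Mc_mem hM hu hb _ _) fun h0 =>
            (Mc_val_zero hM hu hb hd χ.2 o.2 hχ₀).2 (by rw [h0, zero_div]; exact memLocalIdeal_zero)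
        have h3 := h2.trans (Finset.single_le_sum (fun ψ _ => hnn ψ) (Finset.mem_univ o))
        rw [h1] at h3
        exact pos_of_mul_pos_right (lt_of_lt_of_le one_pos h3) (by positivity)

omit hu hb hd in
theorem defect_eq {D : Subgroup G} (hB : IsPBlock M B) (hD : IsDefectGroup 2 M B D) (hbB : IsPBlock M b)
    (hDC : D ≤ Subgroup.centralizer ({u} : Set G))
    (hbD : IsDefectGroup 2 M b (D.subgroupOf (Subgroup.centralizer ({u} : Set G)))) :
    blockDefect 2 b = blockDefect 2 B := by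
  apply Nat.pow_right_injective (le_refl 2)
  show 2 ^ blockDefect 2 b = 2 ^ blockDefect 2 B
  rw [← defectGroup_natCard hM hbB hbD, ← defectGroup_natCard hM hB hD, BC85.card_subgroupOf hDC]

omit hu hb hd in
theorem sum_ite_eq_counts [Fintype B] :
    ∑ χ : B, (if blockHeight 2 B ((χ : IrrCharacter G) : G → ℂ) = 0 then 3
      else 2 * (2 : ℤ) ^ blockHeight 2 B ((χ : IrrCharacter G) : G → ℂ)) =
    ((3 * Nat.card {χ : IrrCharacter G // χ ∈ B ∧ blockHeight 2 B (χ : G → ℂ) = 0} +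
      2 * (∑ᶠ χ ∈ {χ : IrrCharacter G | χ ∈ B ∧ 1 ≤ blockHeight 2 B (χ : G → ℂ)},
        2 ^ blockHeight 2 B (χ : G → ℂ)) : ℕ) : ℤ) := by
  classical
  have := Fintype.ofFinite G
  have := finite_irr (G := G)
  have := Fintype.ofFinite (IrrCharacter G)
  rw [finsum_mem_eq_toFinset_sum, Nat.card_eq_fintype_card, Fintype.card_subtype, Finset.card_eq_sum_ones,
    Finset.mul_sum, Finset.mul_sum, Finset.sum_filter]
  rw [show ({χ : IrrCharacter G | χ ∈ B ∧ 1 ≤ blockHeight 2 B (χ : G → ℂ)}).toFinset =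
    Finset.univ.filter (fun χ : IrrCharacter G => χ ∈ B ∧ 1 ≤ blockHeight 2 B (χ : G → ℂ)) by ext; simp,
    Finset.sum_filter, ← Finset.sum_add_distrib, Nat.cast_sum,
    ← Finset.sum_subset (Finset.subset_univ B.toFinset) (fun χ _ hχ => by
      have hn : χ ∉ B := by simpa using hχ
      simp [hn]), ← Finset.sum_set_coe B]
  refine Finset.sum_congr rfl fun χ _ => ?_
  by_cases h0 : blockHeight 2 B ((χ : IrrCharacter G) : G → ℂ) = 0
  · simp [h0, χ.2]
  · have h1 : 1 ≤ blockHeight 2 B ((χ : IrrCharacter G) : G → ℂ) := Nat.pos_of_ne_zero h0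
    simp [h0, χ.2, h1]

end Cfsg.Agent.BC84
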