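import Cfsg.Agent.Lib.BlocksCore.Local
import Mathlib.RingTheory.Polynomial.Cyclotomic.Roots
import Mathlib.RingTheory.PowerBasis
import Mathlib.RingTheory.Polynomial.Cyclotomic.Eval
import Mathlib.Data.ZMod.Basic

/-!
# Coordinates in the ring of a 2-power root of unity
-/

set_option autoImplicit false

namespace Cfsg.Agent.BC84.Dyadic

open scoped ComplexConjugate

/-- Half the order. -/
abbrev half (K : ℕ) : ℕ := 2 ^ K

/-- The chosen root of unity of order `2 ^ (K + 1)`. -/
noncomputable def root (K : ℕ) : ℂ := Complex.exp (2 * Real.pi * Complex.I / (2 ^ (K + 1) : ℕ))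

theorem root_prim (K : ℕ) : IsPrimitiveRoot (root K) (2 ^ (K + 1)) :=
  Complex.isPrimitiveRoot_exp _ (by positivity)

theorem root_pow_half (K : ℕ) : root K ^ half K = -1 := by
  have h : IsPrimitiveRoot (root K ^ half K) 2 :=
    (root_prim K).pow (by positivity) (by rw [half, pow_succ])
  exact h.eq_neg_one_of_two_right

theorem indep (K : ℕ) : LinearIndependent ℤ fun i : Fin (half K) => root K ^ (i : ℕ) := by
  have h1 : (minpoly ℚ (root K)).natDegree = half K := by
    rw [← Polynomial.cyclotomic_eq_minpoly_rat (root_prim K) (by positivity), Polynomial.natDegree_cyclotomic,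
      Nat.totient_prime_pow_succ Nat.prime_two]
    simp
  have h2 : LinearIndependent ℚ fun i : Fin (half K) => root K ^ (i : ℕ) :=
    (linearIndependent_pow (K := ℚ) (root K)).comp (fun i : Fin (half K) => Fin.cast h1.symm i)
      (fun _ _ h => by simpa using h)
  exact h2.restrict_scalars (fun a b h => by simpa using h)

/-- The ring, as a lattice. -/
noncomputable def lat (K : ℕ) : Submodule ℤ ℂ :=
  Submodule.span ℤ (Set.range fun i : Fin (half K) => root K ^ (i : ℕ))

theorem root_pow_mem (K m : ℕ) : root K ^ m ∈ lat K := by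
  induction m using Nat.strong_induction_on with
  | _ m ih =>
    by_cases h : m < half K
    · exact Submodule.subset_span ⟨⟨m, h⟩, rfl⟩
    · have e : root K ^ m = -(root K ^ (m - half K)) := by
        conv_lhs => rw [← Nat.add_sub_cancel' (not_lt.mp h), pow_add, root_pow_half]
        ring
      rw [e]
      exact Submodule.neg_mem _ (ih _ (Nat.sub_lt (lt_of_lt_of_le (by positivity) (not_lt.mp h)) (by positivity)))

variable {K : ℕ}

theorem one_mem : (1 : ℂ) ∈ lat K := by simpa using root_pow_mem K 0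

theorem intCast_mem (n : ℤ) : (n : ℂ) ∈ lat K := by
  have := Submodule.smul_mem (lat K) n one_mem
  simpa using this

theorem natCast_mem (n : ℕ) : (n : ℂ) ∈ lat K := by simpa using intCast_mem (K := K) (n : ℤ)

theorem mul_mem {x y : ℂ} (hx : x ∈ lat K) (hy : y ∈ lat K) : x * y ∈ lat K := by
  induction hx using Submodule.span_induction with
  | mem a ha =>
    obtain ⟨i, rfl⟩ := ha
    induction hy using Submodule.span_induction with
    | mem c hc => obtain ⟨j, rfl⟩ := hc; simp only [← pow_add]; exact root_pow_mem K _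
    | zero => simp
    | add c d _ _ hc hd => rw [mul_add]; exact Submodule.add_mem _ hc hd
    | smul r c _ hc => rw [mul_smul_comm]; exact Submodule.smul_mem _ _ hc
  | zero => simp
  | add a c _ _ ha hc => rw [add_mul]; exact Submodule.add_mem _ ha hc
  | smul r a _ ha => rw [smul_mul_assoc]; exact Submodule.smul_mem _ _ ha

theorem mem_of_pow_eq_one {s : ℂ} (h : s ^ 2 ^ (K + 1) = 1) : s ∈ lat K := by
  obtain ⟨i, -, rfl⟩ := (root_prim K).eq_pow_of_pow_eq_one h
  exact root_pow_mem K i

theorem conj_root_pow (i : ℕ) (hi : i ≤ half K) :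
    conj (root K ^ i) = - root K ^ (half K - i) := by
  have h1 : root K ^ i * conj (root K ^ i) = 1 := by
    rw [Complex.mul_conj, Complex.normSq_eq_norm_sq, norm_pow,
      Complex.norm_eq_one_of_pow_eq_one (root_prim K).pow_eq_one (by positivity), one_pow, one_pow, Complex.ofReal_one]
  refine mul_left_cancel₀ (pow_ne_zero i ((root_prim K).ne_zero (by positivity))) (h1.trans ?_)
  rw [mul_neg, ← pow_add, Nat.add_sub_cancel' hi, root_pow_half, neg_neg]

theorem conj_mem {x : ℂ} (hx : x ∈ lat K) : conj x ∈ lat K := by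
  induction hx using Submodule.span_induction with
  | mem a ha =>
    obtain ⟨i, rfl⟩ := ha
    rw [conj_root_pow (i : ℕ) i.2.le]
    exact Submodule.neg_mem _ (root_pow_mem K _)
  | zero => simp
  | add a c _ _ ha hc => rw [map_add]; exact Submodule.add_mem _ ha hc
  | smul r a _ ha => rw [map_zsmul]; exact Submodule.smul_mem _ _ ha

/-- The coordinates. -/
noncomputable def co (K : ℕ) (x : ℂ) : Fin (half K) → ℤ :=
  open Classical in if h : x ∈ lat K then ((Submodule.mem_span_range_iff_exists_fun ℤ).mp h).choose else 0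

theorem sum_co {x : ℂ} (hx : x ∈ lat K) : ∑ i, co K x i • root K ^ (i : ℕ) = x := by
  rw [co, dif_pos hx]
  exact ((Submodule.mem_span_range_iff_exists_fun ℤ).mp hx).choose_spec

theorem co_eq {x : ℂ} {a : Fin (half K) → ℤ} (h : ∑ i, a i • root K ^ (i : ℕ) = x) : co K x = a := by
  have hx : x ∈ lat K := (Submodule.mem_span_range_iff_exists_fun ℤ).mpr ⟨a, h⟩
  funext i
  exact (Fintype.linearIndependent_iffₛ.mp (indep K)) _ _ ((sum_co hx).trans h.symm) i

theorem co_zero : co K 0 = 0 := co_eq (by simp)

theorem co_add {x y : ℂ} (hx : x ∈ lat K) (hy : y ∈ lat K) : co K (x + y) = co K x + co K y :=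
  co_eq (by simp only [Pi.add_apply, add_smul, Finset.sum_add_distrib, sum_co hx, sum_co hy])

theorem co_smul {x : ℂ} (hx : x ∈ lat K) (n : ℤ) : co K (n • x) = n • co K x :=
  co_eq (by simp only [Pi.smul_apply, smul_assoc, ← Finset.smul_sum, sum_co hx])

theorem co_neg {x : ℂ} (hx : x ∈ lat K) : co K (-x) = -co K x := by
  have := co_smul hx (-1)
  simpa using this

/-- The coordinate at one. -/
noncomputable def tau (K : ℕ) (x : ℂ) : ℤ := co K x ⟨0, by positivity⟩

theorem tau_add {x y : ℂ} (hx : x ∈ lat K) (hy : y ∈ lat K) : tau K (x + y) = tau K x + tau K y := by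
  simp [tau, co_add hx hy]

theorem tau_zero : tau K 0 = 0 := by simp [tau, co_zero]

theorem tau_smul {x : ℂ} (hx : x ∈ lat K) (n : ℤ) : tau K (n • x) = n * tau K x := by
  show co K (n • x) _ = _
  rw [co_smul hx]; simp [tau]

theorem tau_intCast_mul {x : ℂ} (hx : x ∈ lat K) (n : ℤ) : tau K ((n : ℂ) * x) = n * tau K x := by
  rw [← zsmul_eq_mul, tau_smul hx]

theorem tau_sum {ι : Type*} (s : Finset ι) {f : ι → ℂ} (hf : ∀ i ∈ s, f i ∈ lat K) :
    tau K (∑ i ∈ s, f i) = ∑ i ∈ s, tau K (f i) := by
  classical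
  induction s using Finset.induction with
  | empty => simp [tau_zero]
  | insert a t ha ih =>
    rw [Finset.sum_insert ha, Finset.sum_insert ha, tau_add (hf a (Finset.mem_insert_self _ _))
      (Submodule.sum_mem _ fun i hi => hf i (Finset.mem_insert_of_mem hi)),
      ih fun i hi => hf i (Finset.mem_insert_of_mem hi)]

theorem tau_root_pow {i : ℕ} (hi : i < half K) : tau K (root K ^ i) = if i = 0 then 1 else 0 := by
  rw [tau, co_eq (a := fun j => if (j : ℕ) = i then 1 else 0)]
  · simp only [eq_comm]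
  · rw [Finset.sum_eq_single ⟨i, hi⟩]
    · simp
    · intro j _ hj; rw [if_neg fun h => hj (Fin.ext h), zero_smul]
    · simp

theorem tau_one : tau K 1 = 1 := by simpa using tau_root_pow (K := K) (i := 0) (by positivity)

theorem tau_intCast (n : ℤ) : tau K (n : ℂ) = n := by
  have := tau_intCast_mul (K := K) one_mem n
  simpa [tau_one] using this

theorem tau_mul_conj_root {i j : Fin (half K)} :
    tau K (root K ^ (i : ℕ) * conj (root K ^ (j : ℕ))) = if i = j then 1 else 0 := by
  have e : root K ^ (i : ℕ) * conj (root K ^ (j : ℕ)) = -root K ^ ((i : ℕ) + (half K - j)) := by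
    rw [conj_root_pow _ j.2.le, mul_neg, pow_add]
  rw [e]
  rcases lt_trichotomy (i : ℕ) j with h | h | h
  · rw [if_neg (fun q => h.ne (congrArg Fin.val q)), ← neg_one_zsmul, tau_smul (root_pow_mem K _),
      tau_root_pow (by have := j.2; omega), if_neg (by have := j.2; omega), mul_zero]
  · rw [if_pos (Fin.ext h), show (i : ℕ) + (half K - j) = half K by have := j.2; omega, root_pow_half, neg_neg, tau_one]
  · rw [if_neg (fun q => h.ne' (congrArg Fin.val q)),
      show (i : ℕ) + (half K - j) = half K + (i - j) by have := j.2; omega, pow_add, root_pow_half, neg_mul, one_mul,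
      neg_neg, tau_root_pow (by have := i.2; omega), if_neg (by omega)]

/-- The trace form is the standard form in the coordinates. -/
theorem tau_mul_conj {x y : ℂ} (hx : x ∈ lat K) (hy : y ∈ lat K) :
    tau K (x * conj y) = ∑ i, co K x i * co K y i := by
  conv_lhs => rw [← sum_co hx, ← sum_co hy, map_sum, Finset.sum_mul_sum]
  rw [tau_sum _ fun i _ => Submodule.sum_mem _ fun j _ => mul_mem (Submodule.smul_mem _ _ (root_pow_mem K _))
    (conj_mem (Submodule.smul_mem _ _ (root_pow_mem K _)))]
  refine Finset.sum_congr rfl fun i _ => ?_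
  rw [tau_sum _ fun j _ => mul_mem (Submodule.smul_mem _ _ (root_pow_mem K _))
    (conj_mem (Submodule.smul_mem _ _ (root_pow_mem K _))), Finset.sum_eq_single i]
  · rw [map_zsmul, smul_mul_assoc, mul_smul_comm, smul_smul,
      tau_smul (mul_mem (root_pow_mem K _) (conj_mem (root_pow_mem K _))), tau_mul_conj_root, if_pos rfl, mul_one]
  · intro j _ hj
    rw [map_zsmul, smul_mul_assoc, mul_smul_comm, smul_smul,
      tau_smul (mul_mem (root_pow_mem K _) (conj_mem (root_pow_mem K _))), tau_mul_conj_root, if_neg hj.symm, mul_zero]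
  · simp

theorem tau_self_nonneg {x : ℂ} (hx : x ∈ lat K) : 0 ≤ tau K (x * conj x) := by
  rw [tau_mul_conj hx hx]
  exact Finset.sum_nonneg fun i _ => mul_self_nonneg _

theorem one_le_tau_self {x : ℂ} (hx : x ∈ lat K) (h0 : x ≠ 0) : 1 ≤ tau K (x * conj x) := by
  rw [tau_mul_conj hx hx]
  obtain ⟨i, hi⟩ : ∃ i, co K x i ≠ 0 := by
    by_contra h
    push_neg at h
    exact h0 (by rw [← sum_co hx]; simp [h])
  exact le_trans (show 1 ≤ co K x i * co K x i by nlinarith [mul_self_pos.mpr hi])
    (Finset.single_le_sum (fun j _ => mul_self_nonneg (co K x j)) (Finset.mem_univ i))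

/-- A real element is congruent to its coordinate at one. -/
theorem tau_parity {M : Ideal AlgInt} (hM : IsPModular 2 M) {x : ℂ} (hx : x ∈ lat K) (hreal : conj x = x)
    (hu : ¬ MemLocalIdeal M x) : ¬ (2 : ℤ) ∣ tau K x := by
  classical
  have := BlocksCore.isPrime hM
  intro hdvd
  refine hu ?_
  have hs : MemLocalIdeal M (x - ((∑ i, co K x i : ℤ) : ℂ)) := by
    conv in (x - _) => arg 1; rw [← sum_co hx]
    rw [Int.cast_sum, ← Finset.sum_sub_distrib]
    refine BlocksCore.memLocalIdeal_sum fun i _ => ?_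
    rw [zsmul_eq_mul, show (co K x i : ℂ) * root K ^ (i : ℕ) - (co K x i : ℂ) =
      (co K x i : ℂ) * (root K ^ (i : ℕ) - 1) by ring]
    refine BlocksCore.memLocalIdeal_mul_left (BlocksCore.memLocalRing_intCast _)
      (BlocksCore.memLocalIdeal_sub_one_of_pow hM (k := K + 1) ?_)
    rw [← pow_mul, mul_comm, pow_mul, (root_prim K).pow_eq_one, one_pow]
  have hsym : ∀ i j : Fin (half K), (i : ℕ) ≠ 0 → (i : ℕ) + j = half K → co K x j = -co K x i := by
    let b : Fin (half K) → ℤ := fun j =>
      if h : (j : ℕ) = 0 then co K x j else -co K x ⟨half K - j, by omega⟩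
    have hb : co K x = b := by
      refine co_eq ?_
      conv_rhs => rw [← hreal, ← sum_co hx, map_sum]
      refine Finset.sum_bij' (fun j _ => if h : (j : ℕ) = 0 then j else ⟨half K - j, by omega⟩)
        (fun j _ => if h : (j : ℕ) = 0 then j else ⟨half K - j, by omega⟩) (by simp) (by simp) ?_ ?_ ?_
      · intro j _
        have := j.2
        by_cases h : (j : ℕ) = 0
        · simp [h]
        · simp only [h, dite_false]
          rw [dif_neg (by (try dsimp only); omega)]
          exact Fin.ext (by (try dsimp only); omega)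
      · intro j _
        have := j.2
        by_cases h : (j : ℕ) = 0
        · simp [h]
        · simp only [h, dite_false]
          rw [dif_neg (by (try dsimp only); omega)]
          exact Fin.ext (by (try dsimp only); omega)
      · intro j _
        have := j.2
        simp only [b, map_zsmul]
        by_cases h : (j : ℕ) = 0
        · simp [h]
        · simp only [h, dite_false]
          rw [conj_root_pow _ (by (try dsimp only); omega)]
          simp only [smul_neg, neg_smul]
          congr 3
          omega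
    intro i j hi hij
    conv_lhs => rw [hb]
    simp only [b]
    rw [dif_neg (by have := i.2; omega)]
    congr 2
    exact Fin.ext (by (try dsimp only); omega)
  have hz : ((∑ i, co K x i : ℤ) : ZMod 2) = (tau K x : ZMod 2) := by
    rw [Int.cast_sum, ← Finset.add_sum_erase _ _ (Finset.mem_univ (⟨0, by positivity⟩ : Fin (half K))), tau,
      add_eq_left]
    have hrev : ∀ i : Fin (half K), half K - (i : ℕ) - 0 ≤ half K := fun i => by omega
    refine Finset.sum_involution (fun i hi => (⟨half K - i, by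
        have : (i : ℕ) ≠ 0 := fun h => (Finset.mem_erase.mp hi).1 (Fin.ext h)
        omega⟩ : Fin (half K))) ?_ ?_ ?_ ?_
    · intro i hi
      have h0 : (i : ℕ) ≠ 0 := fun h => (Finset.mem_erase.mp hi).1 (Fin.ext h)
      rw [hsym i ⟨half K - i, by omega⟩ h0 (by (try dsimp only); omega), Int.cast_neg, add_neg_cancel]
    · intro i hi hne hfix
      have h0 : (i : ℕ) ≠ 0 := fun h => (Finset.mem_erase.mp hi).1 (Fin.ext h)
      have h1 := congrArg Fin.val hfix
      simp only at h1
      have h2 := hsym i i h0 (by omega)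
      exact hne (by rw [show co K x i = 0 by omega, Int.cast_zero])
    · intro i hi
      have h0 : (i : ℕ) ≠ 0 := fun h => (Finset.mem_erase.mp hi).1 (Fin.ext h)
      refine Finset.mem_erase.mpr ⟨fun h => ?_, Finset.mem_univ _⟩
      have h1 := congrArg Fin.val h
      simp only at h1
      have := i.2
      omega
    · intro i hi
      exact Fin.ext (by simp only; have := i.2; omega)
  have h2 : (2 : ℤ) ∣ ∑ i, co K x i := by
    have e := (ZMod.intCast_zmod_eq_zero_iff_dvd (tau K x) 2).mpr hdvd
    rw [← hz] at e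
    exact (ZMod.intCast_zmod_eq_zero_iff_dvd _ 2).mp e
  have := BlocksCore.memLocalIdeal_add hs ((BlocksCore.memLocalIdeal_intCast_iff hM _).mpr h2)
  rwa [sub_add_cancel] at this

end Cfsg.Agent.BC84.Dyadic

namespace Cfsg.Agent.BC84.Dyadic

open scoped ComplexConjugate

variable {K : ℕ} {M : Ideal AlgInt}

theorem root_isIntegral (K : ℕ) : IsIntegral ℤ (root K) :=
  (root_prim K).isIntegral (by positivity)

theorem root_local (hM : IsPModular 2 M) : MemLocalRing M (root K) :=
  have := BlocksCore.isPrime hM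
  BlocksCore.memLocalRing_of_isIntegral (root_isIntegral K)

theorem aeval_local (hM : IsPModular 2 M) (P : Polynomial ℤ) :
    MemLocalRing M (Polynomial.aeval (root K) P) := by
  have := BlocksCore.isPrime hM
  rw [Polynomial.aeval_eq_sum_range]
  exact BlocksCore.memLocalRing_sum fun i _ => by
    rw [zsmul_eq_mul]
    exact (BlocksCore.localRing M).mul_mem (BlocksCore.memLocalRing_intCast _)
      (pow_mem (S := BlocksCore.localRing M) (root_local hM) i)

theorem root_sub_one_ideal (hM : IsPModular 2 M) : MemLocalIdeal M (root K - 1) :=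
  BlocksCore.memLocalIdeal_sub_one_of_pow hM (k := K + 1) (root_prim K).pow_eq_one

/-- Two is a unit times the power of the uniformizer. -/
theorem two_eq (hM : IsPModular 2 M) :
    ∃ e : ℂ, MemLocalRing M e ∧ ¬ MemLocalIdeal M e ∧ (2 : ℂ) = (root K - 1) ^ half K * e := by
  classical
  have := BlocksCore.isPrime hM
  have h1 : (2 : ℂ) = ∏ μ ∈ primitiveRoots (2 ^ (K + 1)) ℂ, (1 - μ) := by
    have h : (Polynomial.cyclotomic (2 ^ (K + 1)) ℂ).eval 1 = ((2 : ℕ) : ℂ) :=
      have := Fact.mk Nat.prime_two
      Polynomial.eval_one_cyclotomic_prime_pow K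
    rw [Polynomial.cyclotomic_eq_prod_X_sub_primitiveRoots (root_prim K), Polynomial.eval_prod] at h
    simpa using h.symm
  have h2 : ∀ μ ∈ primitiveRoots (2 ^ (K + 1)) ℂ, ∃ e : ℂ, MemLocalRing M e ∧ ¬ MemLocalIdeal M e ∧
      1 - μ = (root K - 1) * e := by
    intro μ hμ
    rw [mem_primitiveRoots (by positivity)] at hμ
    obtain ⟨i, -, hcop, rfl⟩ := ((root_prim K).isPrimitiveRoot_iff (k := 2 ^ (K + 1))).mp hμ
    have hodd : ¬ 2 ∣ i := fun h =>
      Nat.prime_two.coprime_iff_not_dvd.mp ((Nat.coprime_pow_left_iff (by omega) 2 i).mp hcop.symm) h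
    have hl : MemLocalRing M (∑ l ∈ Finset.range i, root K ^ l) :=
      BlocksCore.memLocalRing_sum fun l _ => pow_mem (S := BlocksCore.localRing M) (root_local hM) l
    refine ⟨-∑ l ∈ Finset.range i, root K ^ l, (BlocksCore.localRing M).neg_mem hl, fun h => ?_, ?_⟩
    · have h3 : MemLocalIdeal M ((∑ l ∈ Finset.range i, root K ^ l) - (i : ℂ)) := by
        rw [show (i : ℂ) = ∑ _l ∈ Finset.range i, (1 : ℂ) by simp, ← Finset.sum_sub_distrib]
        exact BlocksCore.memLocalIdeal_sum fun l _ => BlocksCore.memLocalIdeal_sub_one_of_pow hM (k := K + 1)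
          (by rw [← pow_mul, mul_comm, pow_mul, (root_prim K).pow_eq_one, one_pow])
      have h4 := BlocksCore.memLocalIdeal_sub (BlocksCore.memLocalIdeal_neg h) h3
      rw [neg_neg, sub_sub_cancel] at h4
      exact hodd ((BlocksCore.memLocalIdeal_natCast_iff hM i).mp h4)
    · rw [mul_neg, mul_comm, geom_sum_mul]
      ring
  choose e he1 he2 he3 using h2
  refine ⟨∏ μ ∈ (primitiveRoots (2 ^ (K + 1)) ℂ).attach, e μ.1 μ.2, BlocksCore.memLocalRing_prod fun μ _ => he1 μ.1 μ.2,
    ?_, ?_⟩
  · refine Finset.prod_induction _ (fun z => MemLocalRing M z ∧ ¬ MemLocalIdeal M z)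
      (fun a c ha hc => ⟨(BlocksCore.localRing M).mul_mem ha.1 hc.1,
        fun h => (BlocksCore.memLocalIdeal_mem_or_mem ha.1 hc.1 h).elim ha.2 hc.2⟩)
      ⟨(BlocksCore.localRing M).one_mem, BlocksCore.not_memLocalIdeal_one⟩ (fun μ _ => ⟨he1 μ.1 μ.2, he2 μ.1 μ.2⟩) |>.2
  · rw [h1, ← Finset.prod_attach, Finset.prod_congr rfl fun (μ : {x // x ∈ primitiveRoots (2 ^ (K + 1)) ℂ}) _ => he3 μ.1 μ.2, Finset.prod_mul_distrib,
      Finset.prod_const, Finset.card_attach, Complex.card_primitiveRoots,
      Nat.totient_prime_pow_succ Nat.prime_two]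
    simp

/-- Local divisibility by two is divisibility of the coordinates. -/
theorem co_even (hM : IsPModular 2 M) {x : ℂ} (hx : x ∈ lat K) (h : MemLocalRing M (x / 2))
    (i : Fin (half K)) : (2 : ℤ) ∣ co K x i := by
  classical
  have := BlocksCore.isPrime hM
  have := Fact.mk Nat.prime_two
  by_contra hi
  set P : Polynomial ℤ := ∑ j : Fin (half K), Polynomial.C (co K x j) * Polynomial.X ^ (j : ℕ) with hP
  have hPx : Polynomial.aeval (root K) P = x := by
    rw [hP, map_sum]
    conv_rhs => rw [← sum_co hx]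
    exact Finset.sum_congr rfl fun j _ => by simp [zsmul_eq_mul]
  have hPco : P.coeff i = co K x i := by
    rw [hP, Polynomial.finset_sum_coeff, Finset.sum_eq_single i]
    · simp
    · intro j _ hj
      rw [Polynomial.coeff_C_mul_X_pow, if_neg fun h => hj (Fin.ext h.symm)]
    · simp
  set Pb : Polynomial (ZMod 2) := P.map (Int.castRingHom (ZMod 2)) with hPb
  have hne : Pb ≠ 0 := fun h0 => hi <| by
    have := congrArg (fun f => Polynomial.coeff f i) h0
    simp only [hPb, Polynomial.coeff_map, hPco, Polynomial.coeff_zero] at this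
    exact (ZMod.intCast_zmod_eq_zero_iff_dvd _ 2).mp (by simpa using this)
  obtain ⟨U, hU, hU1⟩ : ∃ U : Polynomial (ZMod 2), Pb = (Polynomial.X - Polynomial.C 1) ^ Pb.rootMultiplicity 1 * U ∧
      U.eval 1 ≠ 0 := by
    obtain ⟨U, hU, hnd⟩ := Pb.exists_eq_pow_rootMultiplicity_mul_and_not_dvd hne 1
    exact ⟨U, hU, fun h => hnd (Polynomial.dvd_iff_isRoot.mpr h)⟩
  set j := Pb.rootMultiplicity 1 with hj
  have hjlt : j < half K := by
    refine lt_of_le_of_lt (Polynomial.le_natDegree_of_ne_zero (n := j) (p := (Polynomial.X - Polynomial.C (1 : ZMod 2)) ^ j) ?_ |>.trans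
      ((Polynomial.natDegree_le_of_dvd ⟨U, hU⟩ hne).trans Polynomial.natDegree_map_le)) ?_
    · have hm : ((Polynomial.X - Polynomial.C (1 : ZMod 2)) ^ j).Monic := (Polynomial.monic_X_sub_C _).pow j
      have hd : ((Polynomial.X - Polynomial.C (1 : ZMod 2)) ^ j).natDegree = j := by
        rw [Polynomial.natDegree_pow, Polynomial.natDegree_X_sub_C, mul_one]
      have := hm.coeff_natDegree
      rw [hd] at this
      rw [this]; exact one_ne_zero
    · refine lt_of_le_of_lt (Polynomial.natDegree_sum_le_of_forall_le _ _ (n := half K - 1) fun l _ => ?_) (by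
        have : 0 < half K := by positivity
        omega)
      refine (Polynomial.natDegree_C_mul_X_pow_le _ _).trans ?_
      have := l.2
      omega
  obtain ⟨V, hV⟩ := Polynomial.map_surjective (Int.castRingHom (ZMod 2)) ZMod.intCast_surjective U
  obtain ⟨R, hR⟩ : Polynomial.C (2 : ℤ) ∣ P - (Polynomial.X - 1) ^ j * V := by
    rw [Polynomial.C_dvd_iff_dvd_coeff]
    intro l
    refine (ZMod.intCast_zmod_eq_zero_iff_dvd _ 2).mp ?_
    have : (P - (Polynomial.X - 1) ^ j * V).map (Int.castRingHom (ZMod 2)) = 0 := by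
      rw [Polynomial.map_sub, Polynomial.map_mul, Polynomial.map_pow, Polynomial.map_sub, Polynomial.map_X,
        Polynomial.map_one, hV, sub_eq_zero, ← hPb, hU, Polynomial.C_1]
    have h2 := congrArg (fun f => Polynomial.coeff f l) this
    simp only [Polynomial.coeff_map, Polynomial.coeff_zero] at h2
    exact h2
  have heq : x = (root K - 1) ^ j * Polynomial.aeval (root K) V + 2 * Polynomial.aeval (root K) R := by
    rw [← hPx, eq_add_of_sub_eq hR]
    simp [map_ofNat]
    ring
  have hVu : ¬ MemLocalIdeal M (Polynomial.aeval (root K) V) := by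
    intro hc
    obtain ⟨W, hW⟩ := Polynomial.X_sub_C_dvd_sub_C_eval (a := (1 : ℤ)) (p := V)
    have h1 : Polynomial.aeval (root K) V - ((V.eval 1 : ℤ) : ℂ) = (root K - 1) * Polynomial.aeval (root K) W := by
      have := congrArg (Polynomial.aeval (root K)) hW
      simpa using this
    have h2 : MemLocalIdeal M ((V.eval 1 : ℤ) : ℂ) := by
      have h3 := BlocksCore.memLocalIdeal_sub hc
        (h1 ▸ BlocksCore.memLocalIdeal_mul_right (root_sub_one_ideal hM) (aeval_local hM W) :
          MemLocalIdeal M (Polynomial.aeval (root K) V - ((V.eval 1 : ℤ) : ℂ)))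
      rwa [sub_sub_cancel] at h3
    refine hU1 ?_
    rw [← hV, Polynomial.eval_map, show (1 : ZMod 2) = Int.castRingHom (ZMod 2) 1 by simp, Polynomial.eval₂_at_apply]
    exact (ZMod.intCast_zmod_eq_zero_iff_dvd _ 2).mpr ((BlocksCore.memLocalIdeal_intCast_iff hM _).mp h2)
  obtain ⟨e, he1, he2, he3⟩ := two_eq (K := K) hM
  have hz : MemLocalRing M ((root K - 1) ^ j * Polynomial.aeval (root K) V / 2) := by
    rw [show (root K - 1) ^ j * Polynomial.aeval (root K) V / 2 = x / 2 - Polynomial.aeval (root K) R by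
      rw [heq]; ring]
    exact (BlocksCore.localRing M).sub_mem h (aeval_local hM R)
  -- multiply by the missing powers
  have hI : MemLocalIdeal M ((root K - 1) ^ (half K - j) *
      ((root K - 1) ^ j * Polynomial.aeval (root K) V / 2) * e) := by
    refine BlocksCore.memLocalIdeal_mul_right (BlocksCore.memLocalIdeal_mul_right ?_ hz) he1
    obtain ⟨m, hm⟩ : ∃ m, half K - j = m + 1 := ⟨half K - j - 1, by omega⟩
    rw [hm, pow_succ]
    exact BlocksCore.memLocalIdeal_mul_left (pow_mem (S := BlocksCore.localRing M)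
      (BlocksCore.memLocalRing_of_memLocalIdeal (root_sub_one_ideal hM)) m) (root_sub_one_ideal hM)
  refine hVu ?_
  have e' : (root K - 1) ^ (half K - j) * ((root K - 1) ^ j * Polynomial.aeval (root K) V / 2) * e =
      Polynomial.aeval (root K) V := by
    rw [← mul_div_assoc, ← mul_assoc, ← pow_add, Nat.sub_add_cancel hjlt.le, div_mul_eq_mul_div,
      mul_right_comm, ← he3]
    field_simp
  rwa [e'] at hI

theorem co_pow_dvd (hM : IsPModular 2 M) : ∀ (h : ℕ) {x : ℂ}, x ∈ lat K →
    MemLocalRing M (x / 2 ^ h) → ∀ i, (2 : ℤ) ^ h ∣ co K x i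
  | 0, _, _, _, i => by simp
  | h + 1, x, hx, hl, i => by
    have := BlocksCore.isPrime hM
    have h2 : MemLocalRing M (x / 2) := by
      have h3 := (BlocksCore.localRing M).mul_mem (pow_mem (S := BlocksCore.localRing M)
        (BlocksCore.memLocalRing_natCast 2) h) hl
      rwa [show ((2 : ℕ) : ℂ) ^ h * (x / 2 ^ (h + 1)) = x / 2 by push_cast; rw [pow_succ]; field_simp] at h3
    have hev := co_even hM hx h2
    choose c hc using hev
    set x' : ℂ := ∑ j, c j • root K ^ (j : ℕ) with hx'
    have hx'm : x' ∈ lat K := (Submodule.mem_span_range_iff_exists_fun ℤ).mpr ⟨c, rfl⟩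
    have hxx : x = 2 * x' := by
      conv_lhs => rw [← sum_co hx]
      rw [hx', Finset.mul_sum]
      exact Finset.sum_congr rfl fun j _ => by rw [hc, zsmul_eq_mul, zsmul_eq_mul]; push_cast; ring
    have hl' : MemLocalRing M (x' / 2 ^ h) := by
      rwa [hxx, pow_succ', mul_div_mul_left _ _ two_ne_zero] at hl
    have := co_pow_dvd hM h hx'm hl' i
    rw [show co K x' = c from co_eq rfl] at this
    rw [hc i, pow_succ']
    exact mul_dvd_mul_left 2 this

/-- A real element in the ideal times a power of two. -/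
theorem tau_dvd_of_real (hM : IsPModular 2 M) {x : ℂ} (hx : x ∈ lat K) (hreal : conj x = x) (h : ℕ)
    (hI : MemLocalIdeal M (x / 2 ^ h)) : (2 : ℤ) ^ (h + 1) ∣ tau K x := by
  have := BlocksCore.isPrime hM
  choose c hc using co_pow_dvd hM h hx (BlocksCore.memLocalRing_of_memLocalIdeal hI)
  set x' : ℂ := ∑ j, c j • root K ^ (j : ℕ) with hx'
  have hx'm : x' ∈ lat K := (Submodule.mem_span_range_iff_exists_fun ℤ).mpr ⟨c, rfl⟩
  have hxx : x = (((2 : ℤ) ^ h : ℤ) : ℂ) * x' := by
    conv_lhs => rw [← sum_co hx]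
    rw [hx', Finset.mul_sum]
    exact Finset.sum_congr rfl fun j _ => by rw [hc, zsmul_eq_mul, zsmul_eq_mul]; push_cast; ring
  have hreal' : conj x' = x' := by
    rw [hxx, map_mul, map_intCast] at hreal
    exact mul_left_cancel₀ (Int.cast_ne_zero.mpr (by positivity)) hreal
  have hI' : MemLocalIdeal M x' := by
    rw [hxx] at hI
    push_cast at hI
    rwa [mul_div_cancel_left₀ _ (pow_ne_zero h two_ne_zero)] at hI
  rw [hxx, tau_intCast_mul hx'm, pow_succ]
  refine mul_dvd_mul_left _ ?_
  by_contra hodd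
  have h1 : MemLocalIdeal M (x' + 1) → False := fun h1 => BlocksCore.not_memLocalIdeal_one
    (by simpa using BlocksCore.memLocalIdeal_sub h1 hI')
  have h2 := tau_parity hM (Submodule.add_mem _ hx'm one_mem) (by rw [map_add, hreal', map_one]) h1
  rw [tau_add hx'm one_mem, tau_one] at h2
  omega

theorem tau_self_pow (hM : IsPModular 2 M) {x : ℂ} (hx : x ∈ lat K) (h : ℕ)
    (hl : MemLocalRing M (x / 2 ^ h)) (h0 : x ≠ 0) : (2 : ℤ) ^ (2 * h) ≤ tau K (x * conj x) := by
  rw [tau_mul_conj hx hx]
  obtain ⟨i, hi⟩ : ∃ i, co K x i ≠ 0 := by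
    by_contra hc
    push Not at hc
    exact h0 (by rw [← sum_co hx]; simp [hc])
  refine le_trans ?_ (Finset.single_le_sum (fun j _ => mul_self_nonneg (co K x j)) (Finset.mem_univ i))
  have h1 := co_pow_dvd hM h hx hl i
  rw [← dvd_abs] at h1
  have h2 := Int.le_of_dvd (abs_pos.mpr hi) h1
  have h3 := mul_le_mul h2 h2 (by positivity) (abs_nonneg _)
  rw [← pow_add, ← two_mul, abs_mul_abs_self] at h3
  exact h3

/-- Conjugation preserves membership of the local ideal on the lattice. -/
theorem conj_ideal (hM : IsPModular 2 M) {x : ℂ} (hx : x ∈ lat K) (hI : MemLocalIdeal M x) :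
    MemLocalIdeal M (conj x) := by
  have := BlocksCore.isPrime hM
  have hd : MemLocalIdeal M (conj x - x) := by
    rw [← sum_co hx, map_sum, ← Finset.sum_sub_distrib]
    refine BlocksCore.memLocalIdeal_sum fun i _ => ?_
    rw [map_zsmul, conj_root_pow _ i.2.le, zsmul_eq_mul, zsmul_eq_mul, ← mul_sub]
    refine BlocksCore.memLocalIdeal_mul_left (BlocksCore.memLocalRing_intCast _) ?_
    have h1 : ∀ m : ℕ, MemLocalIdeal M (root K ^ m - 1) := fun m =>
      BlocksCore.memLocalIdeal_sub_one_of_pow hM (k := K + 1)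
        (by rw [← pow_mul, mul_comm, pow_mul, (root_prim K).pow_eq_one, one_pow])
    have := BlocksCore.memLocalIdeal_sub (BlocksCore.memLocalIdeal_sub (BlocksCore.memLocalIdeal_neg (h1 (half K - i))) (h1 i))
      ((BlocksCore.memLocalIdeal_natCast_iff hM 2).mpr dvd_rfl)
    convert this using 1
    push_cast; ring
  simpa using BlocksCore.memLocalIdeal_add hd hI

end Cfsg.Agent.BC84.Dyadic
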