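import Cfsg.Agent.Lib.CharCore.Linear
import Cfsg.Agent.Lib.CharCore.Complete
import Cfsg.Agent.Lib.CharClifford.Central

/-!
# Two extensions of one irreducible character differ by a linear character
-/

set_option autoImplicit false
set_option linter.unusedSectionVars false

namespace Cfsg.Agent.BC84

open scoped ComplexConjugate

variable {G : Type*} [Group G] [Fintype G]

/-- An irreducible character with a trivial constituent on a normal subgroup is trivial on it. -/
theorem apply_eq_degree_of_sum_ne_zero (φ : IrrCharacter G) (N : Subgroup G) [N.Normal] [Fintype N]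
    (h : ∑ n : N, (φ : G → ℂ) n ≠ 0) : ∀ n : N, (φ : G → ℂ) n = (φ : G → ℂ) 1 := by
  obtain ⟨m, ρ, hρ, hχ⟩ := φ.2
  set T : (Fin m → ℂ) →ₗ[ℂ] (Fin m → ℂ) := ∑ n : N, ρ (n : G) with hT
  have hcomm : ∀ g, Commute T (ρ g) := fun g => by
    rw [Commute, SemiconjBy, hT, Finset.sum_mul, Finset.mul_sum]
    simp only [← map_mul]
    let c : N ≃ N :=
      { toFun := fun n => ⟨g⁻¹ * n * g, by simpa using (inferInstance : N.Normal).conj_mem n n.2 g⁻¹⟩
        invFun := fun n => ⟨g * n * g⁻¹, (inferInstance : N.Normal).conj_mem n n.2 g⟩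
        left_inv := fun n => Subtype.ext (by simp [mul_assoc])
        right_inv := fun n => Subtype.ext (by simp [mul_assoc]) }
    refine Fintype.sum_equiv c _ _ fun n => ?_
    show ρ ((n : G) * g) = ρ (g * (g⁻¹ * (n : G) * g))
    congr 1; group
  obtain ⟨c, hc⟩ := CharClifford.exists_scalar_of_commute ρ T hcomm
  have hc0 : c ≠ 0 := fun h0 => by
    apply h
    have := congrArg (LinearMap.trace ℂ _) hc
    rw [h0, zero_smul, map_zero, hT, map_sum] at this
    rw [← this, ← hχ]
    rfl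
  intro n
  have hfix : ρ (n : G) * T = T := by
    rw [hT, Finset.mul_sum]
    simp only [← map_mul]
    exact Fintype.sum_equiv (Equiv.mulLeft n) _ _ fun _ => rfl
  rw [hc, mul_smul_comm, mul_one] at hfix
  have h1 : ρ (n : G) = ρ 1 := by
    rw [map_one]
    exact smul_right_injective _ hc0 hfix
  rw [← hχ]
  show LinearMap.trace ℂ _ (ρ (n : G)) = LinearMap.trace ℂ _ (ρ 1)
  rw [h1]

/-- Two irreducible characters with the same irreducible restriction to a normal subgroup `N`
differ by a linear character that is trivial on `N`. -/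
theorem exists_linear_of_restrict_eq (N : Subgroup G) [N.Normal] [Fintype N] (χ χ' : IrrCharacter G)
    (θ : IrrCharacter N) (h : ∀ n : N, (χ : G → ℂ) n = (θ : N → ℂ) n)
    (h' : ∀ n : N, (χ' : G → ℂ) n = (θ : N → ℂ) n) :
    ∃ f : G →* ℂˣ, (∀ n : N, f n = 1) ∧ ∀ g, (χ' : G → ℂ) g = (f g : ℂ) * (χ : G → ℂ) g := by
  classical
  set F : G → ℂ := (χ' : G → ℂ) * (fun g => conj ((χ : G → ℂ) g)) with hF
  have hFc : IsCharacter G F :=
    CharCore.isCharacter_mul (CharCore.irr_isCharacter χ') (CharCore.IsCharacter.star (CharCore.irr_isCharacter χ))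
  obtain ⟨m, hm⟩ := CharCore.IsCharacter.exists_sum hFc
  have hsum : ∑ n : N, F n = (Nat.card N : ℂ) := by
    have h1 := CharCore.classInner_irr_self θ
    rw [classInner, inv_mul_eq_one₀ (Nat.cast_ne_zero.mpr Nat.card_pos.ne')] at h1
    rw [h1]
    exact Finset.sum_congr rfl fun n _ => by simp [hF, h, h']
  -- each constituent contributes either zero or `|N|` times its degree
  have hterm : ∀ ψ : IrrCharacter G, ∑ n : N, (ψ : G → ℂ) n = 0 ∨
      ((∀ n : N, (ψ : G → ℂ) n = (ψ : G → ℂ) 1) ∧ ∑ n : N, (ψ : G → ℂ) n = (Nat.card N : ℂ) * (ψ : G → ℂ) 1) := by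
    intro ψ
    by_cases h0 : ∑ n : N, (ψ : G → ℂ) n = 0
    · exact Or.inl h0
    · have hk := apply_eq_degree_of_sum_ne_zero ψ N h0
      exact Or.inr ⟨hk, by simp [Finset.sum_congr rfl (fun n _ => hk n), Nat.card_eq_fintype_card]⟩
  rw [hm] at hsum
  simp only [Finset.sum_apply, Pi.smul_apply, smul_eq_mul] at hsum
  rw [Finset.sum_comm] at hsum
  simp only [← Finset.mul_sum] at hsum
  obtain ⟨ψ, -, hψ⟩ := Finset.exists_ne_zero_of_sum_ne_zero (hsum.trans_ne (Nat.cast_ne_zero.mpr Nat.card_pos.ne'))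
  obtain ⟨hψm, hψs⟩ := mul_ne_zero_iff.mp hψ
  obtain ⟨hψN, hψsum⟩ := (hterm ψ).resolve_left hψs
  choose d hd0 hd using fun ψ : IrrCharacter G => CharCore.IsIrrCharacter.exists_degree ψ.2
  let t : IrrCharacter G → ℕ := fun φ => if ∑ n : N, (φ : G → ℂ) n = 0 then 0 else m φ * d φ
  have ht : ∀ φ : IrrCharacter G, (m φ : ℂ) * ∑ n : N, (φ : G → ℂ) n = (Nat.card N : ℂ) * (t φ : ℂ) := by
    intro φ
    rcases hterm φ with h0 | ⟨-, h1⟩
    · simp [t, h0]
    · by_cases h0 : ∑ n : N, (φ : G → ℂ) n = 0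
      · simp [t, h0]
      · simp only [t, if_neg h0]
        rw [h1, hd]; push_cast; ring
  simp only [ht, ← Finset.mul_sum] at hsum
  have hone : ∑ φ, t φ = 1 := by
    have := mul_eq_left₀ (Nat.cast_ne_zero.mpr Nat.card_pos.ne' : (Nat.card N : ℂ) ≠ 0) |>.mp hsum
    exact_mod_cast this
  have hle : t ψ ≤ 1 := hone ▸ Finset.single_le_sum (fun _ _ => Nat.zero_le _) (Finset.mem_univ ψ)
  have hmψ : m ψ ≠ 0 := fun h0 => hψm (by rw [h0, Nat.cast_zero])
  simp only [t, if_neg hψs] at hle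
  have hdψ : d ψ = 1 := by
    have := hd0 ψ
    have : 1 ≤ m ψ := Nat.one_le_iff_ne_zero.mpr hmψ
    nlinarith
  obtain ⟨f, hf⟩ := CharCore.IsCharacter.exists_hom_of_degree_one (CharCore.irr_isCharacter ψ)
    (by rw [hd, hdψ, Nat.cast_one])
  refine ⟨f, fun n => Units.ext ?_, ?_⟩
  · have := hψN n
    rw [hd ψ, hdψ, Nat.cast_one, hf] at this
    simpa using this
  -- `χ'` and `f χ` have non-zero inner product
  let φ₀ : IrrCharacter G := ⟨_, CharCore.isIrrCharacter_hom_mul f χ.2⟩
  have hne : classInner (χ' : G → ℂ) (φ₀ : G → ℂ) = (m ψ : ℂ) := by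
    have h1 : classInner F (ψ : G → ℂ) = (m ψ : ℂ) := by rw [hm, CharCore.classInner_sum_all]
    rw [← h1, classInner, classInner]
    congr 1
    refine Finset.sum_congr rfl fun g _ => ?_
    simp only [φ₀, hF, hf, Pi.mul_apply, map_mul]
    ring
  have heq : χ' = φ₀ := by
    by_contra hne'
    rw [CharCore.classInner_irr_of_ne hne'] at hne
    exact hψm hne.symm
  intro g
  rw [heq]

end Cfsg.Agent.BC84
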