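import Cfsg.Agent.BC84.PrincipalDegree
import Cfsg.Agent.BC84.Covering
import Cfsg.Agent.Lib.CharClifford.Clifford
import Cfsg.Agent.CharDeep.Ext.Clifford
import Cfsg.Agent.CharB.CliffordDegree
import Cfsg.Agent.S4937
import Mathlib.GroupTheory.FiniteAbelian.Duality
import Mathlib.GroupTheory.Nilpotent
import Mathlib.RingTheory.RootsOfUnity.AlgebraicallyClosed
import Mathlib.Analysis.Complex.Polynomial.Basic

/-!
# Isomorphic principal blocks (Alperin, Dade)

`N` normal of index prime to `p` and `G = N C_G(P)`: restriction is a bijection of principal blocks.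
-/

set_option autoImplicit false
set_option linter.unusedSectionVars false

namespace Cfsg.Agent.BC84

open BlocksCore BlocksDefect
open scoped ComplexConjugate

universe u

variable {G : Type u} [Group G] [Fintype G] {p : ℕ} {M : Ideal AlgInt}

/-- The principal block is preserved by isomorphisms. -/
theorem exists_irr_comp {H H' : Type u} [Group H] [Finite H] [Group H'] [Finite H']
    (e : H ≃* H') {θ : IrrCharacter H'} (hθ : θ ∈ principalBlock M H') :
    ∃ φ : IrrCharacter H, φ ∈ principalBlock M H ∧ ∀ h, (φ : H → ℂ) h = (θ : H' → ℂ) (e h) := by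
  refine ⟨⟨fun h => (θ : H' → ℂ) (e h),
    CharCore.isIrrCharacter_comp_surjective θ.2 e.toMonoidHom e.surjective⟩, fun h => ?_, fun _ => rfl⟩
  have hidx : (Subgroup.centralizer ({e h} : Set H')).index = (Subgroup.centralizer ({h} : Set H)).index := by
    rw [← BlocksDefect.natCard_isConj, ← BlocksDefect.natCard_isConj]
    refine (Nat.card_congr (e.toEquiv.subtypeEquiv fun x => ?_)).symm
    simp only [isConj_iff]
    constructor
    · rintro ⟨c, rfl⟩; exact ⟨e c, by simp⟩
    · rintro ⟨c, hc⟩
      exact ⟨e.symm c, e.injective (by simpa using hc)⟩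
  have hh := hθ (e h)
  simp only [centralChar, hidx] at hh ⊢
  simpa using hh

theorem le_of_sylow_of_not_dvd_index [Fact p.Prime] (N : Subgroup G) [N.Normal] (hidx : ¬ p ∣ N.index)
    (P : Sylow p G) : (P : Subgroup G) ≤ N := by
  intro x hx
  obtain ⟨j, hj⟩ := P.2 ⟨x, hx⟩
  have h1 : (QuotientGroup.mk' N x : G ⧸ N) = 1 := orderOf_eq_one_iff.mp
    (Nat.eq_one_of_dvd_coprimes (Nat.Coprime.pow_left j ((Fact.out : p.Prime).coprime_iff_not_dvd.mpr hidx))
      (orderOf_dvd_of_pow_eq_one (by rw [← map_pow, show x ^ p ^ j = 1 from congrArg Subtype.val hj, map_one]))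
      (N.index_eq_card ▸ orderOf_dvd_natCard _))
  exact (QuotientGroup.eq_one_iff x).mp h1

/-- Members of the principal block do not vanish on the centralizer of a Sylow subgroup. -/
theorem centralChar_not_mem_of_mem_centralizer [Fact p.Prime] (hM : IsPModular p M) (P : Sylow p G)
    {χ : IrrCharacter G} (hχ : χ ∈ principalBlock M G) {c : G}
    (hc : c ∈ Subgroup.centralizer ((P : Subgroup G) : Set G)) :
    ¬ MemLocalIdeal M (centralChar (χ : G → ℂ) c) := fun h => by
  have := isPrime hM
  have h1 := hχ c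
  rw [show centralChar (fun _ : G => (1 : ℂ)) c = ((Subgroup.centralizer ({c} : Set G)).index : ℂ) from
    centralChar_one c] at h1
  have h2 := memLocalIdeal_add h1 h
  rw [sub_add_cancel, memLocalIdeal_natCast_iff hM] at h2
  exact not_dvd_index_of_mem_centralizer P hc h2

theorem apply_ne_zero_of_mem_centralizer [Fact p.Prime] (hM : IsPModular p M) (P : Sylow p G)
    {χ : IrrCharacter G} (hχ : χ ∈ principalBlock M G) {c : G}
    (hc : c ∈ Subgroup.centralizer ((P : Subgroup G) : Set G)) : (χ : G → ℂ) c ≠ 0 := fun h0 => by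
  have := isPrime hM
  refine centralChar_not_mem_of_mem_centralizer hM P hχ hc ?_
  simp [centralChar, h0, memLocalIdeal_zero]

/-- Every character of the principal block of a normal subgroup of index prime to `p` is covered
by the principal block. -/
theorem exists_over [Fact p.Prime] (hM : IsPModular p M) (N : Subgroup G) [N.Normal] [Fintype N]
    (hidx : ¬ p ∣ N.index) (θ : IrrCharacter N) (hθ : θ ∈ principalBlock M N) :
    ∃ χ : IrrCharacter G, χ ∈ principalBlock M G ∧
      classInner (fun n : N => (χ : G → ℂ) n) (θ : N → ℂ) ≠ 0 := by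
  classical
  have := isPrime hM
  set a := blockCoeff (principalBlock M G) with hadef
  have ha : IsIntClassFun M a := isIntClassFun_blockCoeff hM (isPBlock_blockOf (oneChar G))
  set Φ := indFun N (θ : N → ℂ) with hΦ
  by_contra hnone
  push Not at hnone
  have e0 : ∑ g, a g * Φ g = 0 := by
    have hexp : Φ = _ := CharCore.eq_sum_classInner (CharInd.isClassFunction_indFun N (θ : N → ℂ))
    conv_lhs => rw [hexp]
    simp only [Finset.sum_apply, Pi.smul_apply, smul_eq_mul, Finset.mul_sum]
    rw [Finset.sum_comm]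
    refine Finset.sum_eq_zero fun χ _ => ?_
    have hω := omega_blockCoeff (principalBlock M G) χ
    rw [omega_eq_sum, div_eq_iff (BlocksCore.irr_one_ne_zero χ)] at hω
    calc _ = classInner Φ (χ : G → ℂ) * ∑ g, a g * (χ : G → ℂ) g := by
          rw [Finset.mul_sum]; exact Finset.sum_congr rfl fun g _ => by ring
      _ = 0 := by
          rw [hω]
          by_cases hχ : χ ∈ principalBlock M G
          · rw [hΦ, CharInd.classInner_indFun_left N _ (CharCore.irr_isClassFunction χ),
              ← CharInd.classInner_swap, hnone χ hχ, map_zero, zero_mul]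
          · rw [Set.indicator_of_notMem hχ, zero_mul, mul_zero]
  have e2 : ∑ g, a g * Φ g = ∑ n : N, a n * Φ n := by
    rw [← Finset.sum_filter_add_sum_filter_not Finset.univ (fun g => g ∈ N),
      Finset.sum_eq_zero (s := Finset.univ.filter (fun g => ¬ g ∈ N)) (fun g hg => ?_), add_zero]
    · exact Finset.sum_subtype _ (by simp) (fun g => a g * Φ g)
    · rw [hΦ, CharClifford.indFun_eq_zero_of_notMem N _ (Finset.mem_filter.mp hg).2, mul_zero]
  set T := ∑ n : N, a n * (θ : N → ℂ) n with hT
  have e3 : ∑ n : N, a n * Φ n = (Nat.card N : ℂ)⁻¹ * ∑ _x : G, T := by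
    simp only [hΦ, hT, CharClifford.indFun_apply_normal, Finset.mul_sum]
    rw [Finset.sum_comm]
    refine Finset.sum_congr rfl fun x _ => ?_
    refine Fintype.sum_equiv (MulAut.conjNormal x : MulAut N).toEquiv _ _ fun n => ?_
    show a (n : G) * ((Nat.card N : ℂ)⁻¹ * CharClifford.conjFun N x (θ : N → ℂ) n) =
      (Nat.card N : ℂ)⁻¹ * (a (((MulAut.conjNormal x : MulAut N) n : N) : G) * (θ : N → ℂ) ((MulAut.conjNormal x : MulAut N) n))
    rw [MulAut.conjNormal_apply, ha.1 (n : G) x, CharClifford.conjFun_apply,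
      show (θ : N → ℂ) ((MulAut.conjNormal x : MulAut N) n) = (θ : N → ℂ) ⟨x * n * x⁻¹, (inferInstance : N.Normal).conj_mem n n.2 x⟩ from
        congrArg (θ : N → ℂ) (Subtype.ext (MulAut.conjNormal_apply x n))]
    ring
  rw [e2, e3, Finset.sum_const, Finset.card_univ, nsmul_eq_mul] at e0
  have hT0 : T = 0 := by
    simpa [Nat.card_pos.ne', Fintype.card_ne_zero] using e0
  have hA : IsIntClassFun M (fun n : N => a n) := ⟨isClassFunction_restrict ha.1, fun n => ha.2 n⟩
  have h : MemLocalIdeal M (omega (θ : N → ℂ) (fun n : N => a n)) := by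
    rw [omega_eq_sum, show ∑ n : N, a n * (θ : N → ℂ) n = 0 from hT0, zero_div]
    exact memLocalIdeal_zero
  have h2 := memLocalIdeal_sub h (omega_sub_memLocalIdeal ((mem_principalBlock_iff θ).mp hθ) hA)
  rw [sub_sub_cancel, omega_eq_sum] at h2
  refine sum_blockCoeff_normal_not_mem hM N ?_
  simpa [oneChar] using h2

/-- Abelian quotient: a member of the principal block restricts irreducibly. -/
theorem restrict_eq_of_abelian [Fact p.Prime] (hM : IsPModular p M) (N : Subgroup G) [N.Normal] [Fintype N]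
    (P : Sylow p G) (hsup : N ⊔ Subgroup.centralizer ((P : Subgroup G) : Set G) = ⊤)
    (hab : commutator G ≤ N) (θ : IrrCharacter N) {χ : IrrCharacter G} (hχ : χ ∈ principalBlock M G)
    (hover : classInner (fun n : N => (χ : G → ℂ) n) (θ : N → ℂ) ≠ 0) :
    ∀ n : N, (χ : G → ℂ) n = (θ : N → ℂ) n := by
  classical
  letI : CommGroup (G ⧸ N) := { (inferInstance : Group (G ⧸ N)) with
    mul_comm := fun a b => by
      induction a using QuotientGroup.induction_on with
      | H a => induction b using QuotientGroup.induction_on with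
        | H b =>
          rw [← QuotientGroup.mk_mul, ← QuotientGroup.mk_mul, QuotientGroup.eq]
          have h1 := hab (Subgroup.commutator_mem_commutator (Subgroup.mem_top b⁻¹) (Subgroup.mem_top a⁻¹))
          simpa [commutatorElement_def, mul_assoc] using h1 }
  have : Fintype (G ⧸ N →* ℂˣ) := Fintype.ofFinite _
  let tw : (G ⧸ N →* ℂˣ) → IrrCharacter G := fun l =>
    ⟨_, CharCore.isIrrCharacter_hom_mul (l.comp (QuotientGroup.mk' N)) χ.2⟩
  have htw : ∀ l g, (tw l : G → ℂ) g = (l (QuotientGroup.mk' N g) : ℂ) * (χ : G → ℂ) g := fun _ _ => rfl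
  have hinj : Function.Injective tw := by
    intro l l' hll
    refine MonoidHom.ext fun q => ?_
    obtain ⟨g, rfl⟩ := QuotientGroup.mk'_surjective N q
    obtain ⟨n, hn, c, hc, rfl⟩ := Subgroup.mem_sup_of_normal_left.mp (hsup ▸ Subgroup.mem_top g)
    have e := congrFun (congrArg Subtype.val hll) c
    rw [htw, htw, mul_left_inj' (apply_ne_zero_of_mem_centralizer hM P hχ hc)] at e
    rw [map_mul, show QuotientGroup.mk' N n = 1 from (QuotientGroup.eq_one_iff n).mpr hn, one_mul]
    exact Units.ext e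
  have hres : ∀ l, (fun n : N => (tw l : G → ℂ) n) = fun n : N => (χ : G → ℂ) n := fun l => funext fun n => by
    rw [htw, show QuotientGroup.mk' N (n : G) = 1 from (QuotientGroup.eq_one_iff _).mpr n.2, map_one,
      Units.val_one, one_mul]
  obtain ⟨m, hm⟩ := CharCore.IsCharacter.exists_classInner_irr_eq_natCast
    (CharCore.isCharacter_restrict (CharCore.irr_isCharacter χ) N) θ
  have hm0 : m ≠ 0 := fun h => hover (by rw [hm, h, Nat.cast_zero])
  set I := indFun N (θ : N → ℂ) with hI
  have hIc : IsCharacter G I := CharInd.isCharacter_indFun N (CharCore.irr_isCharacter θ)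
  obtain ⟨k, hk⟩ := CharCore.IsCharacter.exists_sum hIc
  have hktw : ∀ l, k (tw l) = m := by
    intro l
    have h1 : classInner I (tw l : G → ℂ) = (k (tw l) : ℂ) := by rw [hk, CharCore.classInner_sum_all]
    rw [hI, CharInd.classInner_indFun_left N _ (CharCore.irr_isClassFunction _), hres,
      ← CharInd.classInner_swap, hm, map_natCast] at h1
    exact_mod_cast h1.symm
  have hII : classInner I I = ((∑ η, k η * k η : ℕ) : ℂ) := by
    conv_lhs => rw [hk]
    rw [CharCore.classInner_sum_sum]
    push_cast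
    simp
  set S := Finset.univ.filter (fun x : G => CharClifford.conjFun N x (θ : N → ℂ) = θ) with hS
  have hII2 : classInner I I = (Nat.card N : ℂ)⁻¹ * (S.card : ℂ) := by
    rw [hI, CharClifford.classInner_indFun_indFun, hS, Finset.card_filter]
    push_cast
    congr 1
    refine Finset.sum_congr rfl fun x _ => ?_
    split_ifs with h
    · rw [h]; exact CharCore.classInner_irr_self θ
    · exact CharCore.classInner_irr_of_ne (ψ := ⟨_, CharClifford.isIrrCharacter_conjFun N θ.2 x⟩)
        (fun e => h (congrArg Subtype.val e).symm)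
  have hle : N.index * (m * m) ≤ ∑ η, k η * k η := by
    calc N.index * (m * m) = ∑ η ∈ Finset.univ.image tw, k η * k η := by
          rw [Finset.sum_image fun a _ b _ h => hinj h, Finset.sum_congr rfl (fun l _ => by rw [hktw l]),
            Finset.sum_const, smul_eq_mul, Finset.card_univ, ← Nat.card_eq_fintype_card,
            CommGroup.card_monoidHom_of_hasEnoughRootsOfUnity (G ⧸ N) ℂ, Subgroup.index_eq_card]
      _ ≤ _ := Finset.sum_le_univ_sum_of_nonneg fun η => Nat.zero_le _
  have hcard : (∑ η, k η * k η) * Nat.card N = S.card := by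
    have h1 := hII.symm.trans hII2
    rw [eq_inv_mul_iff_mul_eq₀ (Nat.cast_ne_zero.mpr Nat.card_pos.ne'), ← Nat.cast_mul,
      Nat.cast_inj] at h1
    rw [mul_comm, h1]
  have hSle : S.card ≤ N.index * Nat.card N := by
    rw [Subgroup.index_mul_card, Nat.card_eq_fintype_card]
    exact Finset.card_le_univ S
  have hm1 : m * m = 1 ∧ S.card = N.index * Nat.card N := by
    have h1 : N.index * (m * m) * Nat.card N ≤ N.index * Nat.card N :=
      (Nat.mul_le_mul_right _ hle).trans (hcard ▸ hSle)
    have hidx0 : 0 < N.index := Nat.pos_of_ne_zero Subgroup.FiniteIndex.index_ne_zero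
    have hN0 : 0 < Nat.card N := Nat.card_pos
    have h2 : m * m ≤ 1 := by
      by_contra h
      have h3 : 2 ≤ m * m := by omega
      have := Nat.mul_le_mul_right (Nat.card N) (Nat.mul_le_mul_left N.index h3)
      nlinarith [Nat.mul_pos hidx0 hN0]
    have h3 : m * m = 1 := le_antisymm h2 (Nat.mul_pos (Nat.pos_of_ne_zero hm0) (Nat.pos_of_ne_zero hm0))
    refine ⟨h3, le_antisymm hSle ?_⟩
    rw [h3, mul_one] at hle
    exact hcard ▸ Nat.mul_le_mul_right _ hle
  have hinv : CharDeep.Ext.Inv N (θ : N → ℂ) := by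
    have hSu : S = Finset.univ := Finset.eq_univ_of_card S (by
      rw [hm1.2, Subgroup.index_mul_card, Nat.card_eq_fintype_card])
    intro g n
    have : g ∈ S := hSu ▸ Finset.mem_univ g
    exact congrFun (Finset.mem_filter.mp this).2 n
  intro n
  have h := congrFun (CharDeep.Ext.restrict_eq_smul N hinv θ.2 χ.2 hover) n
  rw [hm, show m = 1 from by nlinarith [hm1.1], Nat.cast_one, one_smul] at h
  exact h

/-- Solvable quotient: every member of the principal block of `N` extends into the principal block. -/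
theorem exists_ext_of_solvable [Fact p.Prime] (hM : IsPModular p M) :
    ∀ (k : ℕ) (G : Type u) [Group G] [Fintype G] (N : Subgroup G) [N.Normal] [Fintype N],
      N.index = k → ¬ p ∣ N.index → ∀ (P : Sylow p G),
      N ⊔ Subgroup.centralizer ((P : Subgroup G) : Set G) = ⊤ → Group.IsSolvable (G ⧸ N) →
      ∀ θ : IrrCharacter N, θ ∈ principalBlock M N →
      ∃ χ : IrrCharacter G, χ ∈ principalBlock M G ∧ ∀ n : N, (χ : G → ℂ) n = (θ : N → ℂ) n := by
  intro k
  induction k using Nat.strong_induction_on with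
  | _ k ih =>
  intro G _ _ N _ _ hk hidx P hsup hsol θ hθ
  classical
  set K := commutator G ⊔ N with hKdef
  have hKN : N ≤ K := le_sup_right
  by_cases hKeq : K = N
  · obtain ⟨χ, hχ, hover⟩ := exists_over hM N hidx θ hθ
    exact ⟨χ, hχ, restrict_eq_of_abelian hM N P hsup (hKeq ▸ le_sup_left) θ hχ hover⟩
  have hKn : K.Normal := Subgroup.sup_normal _ _
  have hPN : (P : Subgroup G) ≤ N := le_of_sylow_of_not_dvd_index N hidx P
  have hKtop : K ≠ ⊤ := by
    intro htop
    have hnt : Nontrivial (G ⧸ N) := QuotientGroup.nontrivial_iff.mpr fun h => hKeq (by rw [htop, h])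
    refine (Group.IsSolvable.commutator_lt_top_of_nontrivial (G ⧸ N)).ne (top_unique ?_)
    intro q _
    obtain ⟨g, rfl⟩ := QuotientGroup.mk'_surjective N q
    have hgK : g ∈ commutator G ⊔ N := by
      rw [← hKdef, htop]; exact Subgroup.mem_top g
    obtain ⟨c, hc, n, hn, rfl⟩ := Subgroup.mem_sup_of_normal_right.mp hgK
    rw [map_mul, show QuotientGroup.mk' N n = 1 from (QuotientGroup.eq_one_iff n).mpr hn, mul_one]
    have h1 : (commutator G).map (QuotientGroup.mk' N) ≤ commutator (G ⧸ N) := by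
      rw [commutator_def, commutator_def, Subgroup.map_commutator]
      exact Subgroup.commutator_mono le_top le_top
    exact h1 (Subgroup.mem_map_of_mem _ hc)
  have := Fintype.ofFinite K
  have := Fintype.ofFinite (N.subgroupOf K)
  have hidx' : ¬ p ∣ (N.subgroupOf K).index := fun h => hidx (h.trans (Subgroup.relIndex_dvd_index_of_le hKN))
  have hlt : (N.subgroupOf K).index < k := by
    show N.relIndex K < k
    rw [← hk, ← Subgroup.relIndex_mul_index hKN]
    refine lt_mul_of_one_lt_right (Nat.pos_of_ne_zero Subgroup.index_ne_zero_of_finite) ?_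
    exact (Subgroup.one_lt_index_of_ne_top hKtop)
  let PK : Sylow p K := P.subtype (hPN.trans hKN)
  have hsupK : (N.subgroupOf K) ⊔ Subgroup.centralizer ((PK : Subgroup K) : Set K) = ⊤ := by
    refine top_unique fun x _ => ?_
    obtain ⟨n, hn, c, hc, hnc⟩ := Subgroup.mem_sup_of_normal_left.mp (hsup ▸ Subgroup.mem_top (x : G))
    have hcK : c ∈ K := by
      have : c = n⁻¹ * (x : G) := by rw [← hnc, inv_mul_cancel_left]
      rw [this]; exact mul_mem (inv_mem (hKN hn)) x.2
    rw [show x = ⟨n, hKN hn⟩ * ⟨c, hcK⟩ from Subtype.ext hnc.symm]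
    exact Subgroup.mul_mem_sup (Subgroup.mem_subgroupOf.mpr hn)
      (Subgroup.mem_centralizer_iff.mpr fun u hu => Subtype.ext (Subgroup.mem_centralizer_iff.mp hc (u : G) hu))
  have hsolK : Group.IsSolvable (K ⧸ N.subgroupOf K) := by
    let f : K ⧸ N.subgroupOf K →* G ⧸ N := QuotientGroup.map _ _ K.subtype (fun x hx => hx)
    refine Group.isSolvable_of_isSolvable_injective (f := f) ((injective_iff_map_eq_one f).mpr fun q hq => ?_)
    obtain ⟨x, rfl⟩ := QuotientGroup.mk'_surjective _ q
    exact (QuotientGroup.eq_one_iff x).mpr (Subgroup.mem_subgroupOf.mpr ((QuotientGroup.eq_one_iff _).mp hq))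
  obtain ⟨θ', hθ', hθ'v⟩ := exists_irr_comp (Subgroup.subgroupOfEquivOfLe hKN) hθ
  obtain ⟨η, hη, hηv⟩ := ih _ hlt K (N.subgroupOf K) rfl hidx' PK hsupK hsolK θ' hθ'
  have hidxK : ¬ p ∣ K.index := fun h => hidx (h.trans (Subgroup.index_dvd_of_le hKN))
  obtain ⟨χ, hχ, hover⟩ := exists_over hM K hidxK η hη
  have hres := restrict_eq_of_abelian hM K P (top_unique (hsup ▸ sup_le_sup_right hKN _)) le_sup_left η hχ hover
  refine ⟨χ, hχ, fun n => ?_⟩
  have e := hres ⟨n, hKN n.2⟩
  rw [e]
  exact (hηv ⟨⟨n, hKN n.2⟩, Subgroup.mem_subgroupOf.mpr n.2⟩).trans (hθ'v _)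

/-- Extension to a subgroup with solvable quotient over `N`. -/
theorem exists_ext_subgroup [Fact p.Prime] (hM : IsPModular p M) (N : Subgroup G) [N.Normal] [Fintype N]
    (hidx : ¬ p ∣ N.index) (P : Sylow p G)
    (hsup : N ⊔ Subgroup.centralizer ((P : Subgroup G) : Set G) = ⊤)
    (θ : IrrCharacter N) (hθ : θ ∈ principalBlock M N) (Q : Subgroup (G ⧸ N)) (hQ : Group.IsSolvable Q) :
    ∃ (η : IrrCharacter (Q.comap (QuotientGroup.mk' N))),
      ∀ n : N, (η : Q.comap (QuotientGroup.mk' N) → ℂ)
        ⟨(n : G), Subgroup.mem_comap.mpr (by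
          rw [show QuotientGroup.mk' N (n : G) = 1 from (QuotientGroup.eq_one_iff _).mpr n.2]; exact one_mem Q)⟩
          = (θ : N → ℂ) n := by
  classical
  set J := Q.comap (QuotientGroup.mk' N) with hJ
  have hNJ : N ≤ J := fun x hx => Subgroup.mem_comap.mpr (by
    rw [show QuotientGroup.mk' N x = 1 from (QuotientGroup.eq_one_iff _).mpr hx]; exact one_mem Q)
  have hPN : (P : Subgroup G) ≤ N := le_of_sylow_of_not_dvd_index N hidx P
  have := Fintype.ofFinite J
  have := Fintype.ofFinite (N.subgroupOf J)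
  have hidx' : ¬ p ∣ (N.subgroupOf J).index := fun h => hidx (h.trans (Subgroup.relIndex_dvd_index_of_le hNJ))
  let PJ : Sylow p J := P.subtype (hPN.trans hNJ)
  have hsupJ : (N.subgroupOf J) ⊔ Subgroup.centralizer ((PJ : Subgroup J) : Set J) = ⊤ := by
    refine top_unique fun x _ => ?_
    obtain ⟨n, hn, c, hc, hnc⟩ := Subgroup.mem_sup_of_normal_left.mp (hsup ▸ Subgroup.mem_top (x : G))
    have hcJ : c ∈ J := by
      have : c = n⁻¹ * (x : G) := by rw [← hnc, inv_mul_cancel_left]
      rw [this]; exact mul_mem (inv_mem (hNJ hn)) x.2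
    rw [show x = ⟨n, hNJ hn⟩ * ⟨c, hcJ⟩ from Subtype.ext hnc.symm]
    exact Subgroup.mul_mem_sup (Subgroup.mem_subgroupOf.mpr hn)
      (Subgroup.mem_centralizer_iff.mpr fun u hu => Subtype.ext (Subgroup.mem_centralizer_iff.mp hc (u : G) hu))
  let f : J ⧸ N.subgroupOf J →* Q :=
    QuotientGroup.lift (N.subgroupOf J) (((QuotientGroup.mk' N).comp J.subtype).codRestrict Q fun x => x.2)
      (fun x hx => Subtype.ext ((QuotientGroup.eq_one_iff _).mpr (Subgroup.mem_subgroupOf.mp hx)))
  have hsolJ : Group.IsSolvable (J ⧸ N.subgroupOf J) := by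
    refine Group.isSolvable_of_isSolvable_injective (f := f) ((injective_iff_map_eq_one f).mpr fun q hq => ?_)
    obtain ⟨x, rfl⟩ := QuotientGroup.mk'_surjective _ q
    exact (QuotientGroup.eq_one_iff x).mpr (Subgroup.mem_subgroupOf.mpr
      ((QuotientGroup.eq_one_iff _).mp (congrArg Subtype.val hq)))
  obtain ⟨θ', hθ', hθ'v⟩ := exists_irr_comp (Subgroup.subgroupOfEquivOfLe hNJ) hθ
  obtain ⟨η, -, hηv⟩ := exists_ext_of_solvable hM _ J (N.subgroupOf J) rfl hidx' PJ hsupJ hsolJ θ' hθ'
  exact ⟨η, fun n => (hηv ⟨⟨n, hNJ n.2⟩, Subgroup.mem_subgroupOf.mpr n.2⟩).trans (hθ'v _)⟩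

theorem inv_of_mem_principalBlock [Fact p.Prime] (hM : IsPModular p M) (N : Subgroup G) [N.Normal] [Fintype N]
    (hidx : ¬ p ∣ N.index) (P : Sylow p G)
    (hsup : N ⊔ Subgroup.centralizer ((P : Subgroup G) : Set G) = ⊤)
    (θ : IrrCharacter N) (hθ : θ ∈ principalBlock M N) : CharDeep.Ext.Inv N (θ : N → ℂ) := by
  intro g n
  obtain ⟨η, hη⟩ := exists_ext_subgroup hM N hidx P hsup θ hθ (Subgroup.zpowers (QuotientGroup.mk' N g))
    (inferInstanceAs (Group.IsSolvable (Subgroup.zpowers (QuotientGroup.mk' N g))))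
  rw [← hη, ← hη]
  exact CharCore.irr_isClassFunction η ⟨(n : G), _⟩ ⟨g, Subgroup.mem_zpowers (QuotientGroup.mk' N g)⟩

theorem exists_ext [Fact p.Prime] (hM : IsPModular p M) (N : Subgroup G) [N.Normal] [Fintype N]
    (hidx : ¬ p ∣ N.index) (P : Sylow p G)
    (hsup : N ⊔ Subgroup.centralizer ((P : Subgroup G) : Set G) = ⊤)
    (θ : IrrCharacter N) (hθ : θ ∈ principalBlock M N) :
    ∃ χ : IrrCharacter G, χ ∈ principalBlock M G ∧ ∀ n : N, (χ : G → ℂ) n = (θ : N → ℂ) n := by
  classical
  obtain ⟨ψ, hψ, hψv⟩ := CharB.exists_extension_of_sylow (G := G) N θ.2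
    (inv_of_mem_principalBlock hM N hidx P hsup θ hθ) fun r hr => by
      have := Fact.mk hr
      obtain ⟨S⟩ : Nonempty (Sylow r (G ⧸ N)) := inferInstance
      have : Group.IsNilpotent S.toSubgroup := S.2.isNilpotent
      obtain ⟨η, hη⟩ := exists_ext_subgroup hM N hidx P hsup θ hθ S.toSubgroup inferInstance
      refine ⟨_, fun x hx => Subgroup.mem_comap.mpr (by
        rw [show QuotientGroup.mk' N x = 1 from (QuotientGroup.eq_one_iff _).mpr hx]; exact one_mem _),
        _, ?_, CharCore.irr_isCharacter η, hη⟩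
      rw [Subgroup.index_comap_of_surjective _ (QuotientGroup.mk'_surjective N)]
      exact (hr.coprime_iff_not_dvd.mpr S.not_dvd_index).symm
  have hPN : (P : Subgroup G) ≤ N := le_of_sylow_of_not_dvd_index N hidx P
  let PN : Sylow p N := P.subtype hPN
  have hmap : ((PN : Subgroup N).map N.subtype : Subgroup G) = P := Subgroup.map_subgroupOf_eq_of_le hPN
  obtain ⟨χ, hχ, hχv, -⟩ := S4937.main hM N PN (by rw [hmap]; exact hsup) θ hθ ⟨ψ, hψ⟩ hψv
  exact ⟨χ, hχ, hχv⟩

/-- Uniqueness of the extension inside the principal block. -/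
theorem eq_of_over [Fact p.Prime] (hM : IsPModular p M) (N : Subgroup G) [N.Normal] [Fintype N]
    (hidx : ¬ p ∣ N.index) (P : Sylow p G)
    (hsup : N ⊔ Subgroup.centralizer ((P : Subgroup G) : Set G) = ⊤)
    (θ : IrrCharacter N) {χ₀ χ : IrrCharacter G} (h0 : χ₀ ∈ principalBlock M G)
    (hres : ∀ n : N, (χ₀ : G → ℂ) n = (θ : N → ℂ) n) (hχ : χ ∈ principalBlock M G)
    (hover : classInner (fun n : N => (χ : G → ℂ) n) (θ : N → ℂ) ≠ 0) : χ = χ₀ := by
  classical
  have := isPrime hM
  have hN : IsIrrCharacter N (fun n : N => (χ₀ : G → ℂ) n) := by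
    rw [funext hres]; exact θ.2
  obtain ⟨β, hβ, hβinv, hmul, -⟩ := CharDeep.Ext.exists_gallagher χ₀.2 hN χ.2 (by rw [funext hres]; exact hover)
  let b : IrrCharacter G := ⟨β, hβ⟩
  have hβN : ∀ n : N, β n = β 1 := fun n => by simpa using hβinv n 1
  have hb0 : β 1 ≠ 0 := irr_one_ne_zero b
  have hval : ∀ c ∈ Subgroup.centralizer ((P : Subgroup G) : Set G), MemLocalIdeal M (β c / β 1 - 1) := by
    intro c hc
    set i : ℂ := ((Subgroup.centralizer ({c} : Set G)).index : ℂ) with hi
    have e : centralChar (χ : G → ℂ) c = centralChar (χ₀ : G → ℂ) c * (β c / β 1) := by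
      simp only [centralChar, hmul, Pi.mul_apply]
      ring
    have h1 := hχ c
    have h2 := h0 c
    rw [e] at h1
    have h3 := memLocalIdeal_sub h2 h1
    have e2 : centralChar (fun _ : G => (1 : ℂ)) c - centralChar (χ₀ : G → ℂ) c -
        (centralChar (fun _ : G => (1 : ℂ)) c - centralChar (χ₀ : G → ℂ) c * (β c / β 1)) =
        centralChar (χ₀ : G → ℂ) c * (β c / β 1 - 1) := by ring
    rw [e2] at h3
    -- `β c / β 1` is integral at `M` because the degree of `β` is prime to `p`
    have hdeg : ¬ p ∣ charDegree β := by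
      obtain ⟨ψq, -, hψq, hψqv⟩ := CharCore.IsCharacter.exists_quotient (CharCore.irr_isCharacter b) N
        (fun x hx => hβN ⟨x, hx⟩)
      obtain ⟨d, -, hdvd, hd⟩ := CharClifford.exists_degree_dvd_card (hψq hβ)
      have h1 := hψqv 1
      rw [map_one, hd] at h1
      have h2 := irr_one_eq b
      have : charDegree β = d := by exact_mod_cast h2.symm.trans h1
      rw [this]
      exact fun h => hidx (N.index_eq_card ▸ h.trans hdvd)
    have hr : MemLocalRing M (β c / β 1) := by
      rw [div_eq_mul_inv, show β 1 = (charDegree β : ℂ) from irr_one_eq b]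
      exact (localRing M).mul_mem (memLocalRing_of_isIntegral (isIntegral_irr b c)) (memLocalRing_natCast_inv hM hdeg)
    exact (memLocalIdeal_mem_or_mem (centralChar_memLocalRing χ₀ c)
      ((localRing M).sub_mem hr (localRing M).one_mem) h3).resolve_left
        (centralChar_not_mem_of_mem_centralizer hM P h0 hc)
  -- the regular part of `C_G(P)` covers `G / N`
  obtain ⟨K, hK, hKp, π, hπ⟩ := exists_regular_centralizer P
  have := Fintype.ofFinite K
  have hsum : (∑ k : K, β ((k : Subgroup.centralizer ((P : Subgroup G) : Set G)) : G)) ≠ 0 := by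
    intro hz
    have h := memLocalIdeal_sum (s := (Finset.univ : Finset K)) fun k _ =>
      hval _ (k : Subgroup.centralizer ((P : Subgroup G) : Set G)).2
    rw [Finset.sum_sub_distrib, ← Finset.sum_div, hz, zero_div, zero_sub, Finset.sum_const, nsmul_one,
      Finset.card_univ, ← Nat.card_eq_fintype_card] at h
    have h' := memLocalIdeal_neg h
    rw [neg_neg, memLocalIdeal_natCast_iff hM] at h'
    exact hKp h'
  let j : K →* G := (Subgroup.subtype _).comp K.subtype
  have hcover : ∀ g : G, ∃ k : K, (j k)⁻¹ * g ∈ N := by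
    intro g
    obtain ⟨n, hn, c, hc, rfl⟩ := Subgroup.mem_sup_of_normal_left.mp (hsup ▸ Subgroup.mem_top g)
    have hcop := (Fact.out : p.Prime).coprime_iff_not_dvd.mpr hidx
    have hcN : c ^ N.index ∈ N := N.pow_index_mem c
    set a := (Nat.card G).factorization p

    have hcreg : ⟨c, hc⟩ ^ (p ^ a) ∈ K := (hK _).mpr fun hd => by
      have h1 : orderOf ((⟨c, hc⟩ : Subgroup.centralizer ((P : Subgroup G) : Set G)) ^ p ^ a) ∣ Nat.card G / p ^ a := by
        refine orderOf_dvd_of_pow_eq_one (Subtype.ext ?_)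
        show (c ^ p ^ a) ^ (Nat.card G / p ^ a) = 1
        rw [← pow_mul, Nat.ordProj_mul_ordCompl_eq_self]
        exact pow_card_eq_one'
      exact Nat.not_dvd_ordCompl (Fact.out : p.Prime) Nat.card_pos.ne' (hd.trans h1)
    obtain ⟨x, -, hx⟩ : ∃ x : ℕ, x < N.index ∧ p ^ a * x ≡ 1 [MOD N.index] :=
      Nat.exists_mul_mod_eq_of_coprime 1 (hcop.pow_left a) Subgroup.index_ne_zero_of_finite
    refine ⟨⟨_, hcreg⟩ ^ x, ?_⟩
    rw [← QuotientGroup.eq, map_pow]
    show (((c ^ p ^ a) ^ x : G) : G ⧸ N) = ((n * c : G) : G ⧸ N)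
    rw [QuotientGroup.mk_mul, (QuotientGroup.eq_one_iff n).mpr hn, one_mul, ← pow_mul, QuotientGroup.mk_pow]
    refine (pow_eq_pow_iff_modEq.mpr ?_).trans (pow_one _)
    exact hx.of_dvd (N.index_eq_card ▸ orderOf_dvd_natCard _)
  by_contra hne
  have hb : b ≠ oneChar G := by
    intro h
    refine hne (Subtype.ext ?_)
    rw [hmul, show β = fun _ => (1 : ℂ) from congrArg Subtype.val h]
    funext g
    simp
  apply hsum
  -- averaging over the image of `K` gives a multiple of the sum over `G`
  have htot : ∑ g : G, β g = 0 := by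
    have h := sum_char_mul_inv b (oneChar G)
    rw [if_neg hb] at h
    simpa [oneChar, b] using h
  have hfull : ∑ k : K, ∑ n : N, β (j k * n) = (Nat.card N : ℂ) * ∑ k : K, β (j k) := by
    rw [Finset.mul_sum]
    refine Finset.sum_congr rfl fun k _ => ?_
    rw [show (∑ n : N, β (j k * n)) = ∑ _n : N, β (j k) from Finset.sum_congr rfl fun n _ => by
      rw [show j k * (n : G) = ((⟨j k * n * (j k)⁻¹, (inferInstance : N.Normal).conj_mem _ n.2 _⟩ : N) : G) * j k by simp,
        hβinv]]
    simp [Nat.card_eq_fintype_card]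
  have hfib : ∀ g : G, (Finset.univ.filter (fun k : K × N => j k.1 * (k.2 : G) = g)).card =
      (Finset.univ.filter (fun k : K × N => j k.1 * (k.2 : G) = 1)).card := by
    intro g
    obtain ⟨k0, hk0⟩ := hcover g
    refine Finset.card_bij' (fun k _ => (k0⁻¹ * k.1, k.2 * ⟨_, hk0⟩⁻¹))
      (fun k _ => (k0 * k.1, k.2 * ⟨_, hk0⟩)) ?_ ?_ ?_ ?_
    · intro k hk
      simp only [Finset.mem_filter, Finset.mem_univ, true_and] at hk ⊢
      rw [map_mul, map_inv, Subgroup.coe_mul, Subgroup.coe_inv, mul_inv_rev, inv_inv, ← hk]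
      group
    · intro k hk
      simp only [Finset.mem_filter, Finset.mem_univ, true_and] at hk ⊢
      rw [map_mul, Subgroup.coe_mul, mul_assoc, ← mul_assoc (j k.1), hk, one_mul, mul_inv_cancel_left]
    · intro k _; simp
    · intro k _; simp
  have hsum2 : ∑ k : K, ∑ n : N, β (j k * n) = 0 := by
    rw [← Fintype.sum_prod_type' (f := fun (k : K) (n : N) => β (j k * n)),
      ← Finset.sum_fiberwise Finset.univ (fun k : K × N => j k.1 * (k.2 : G))]
    rw [Finset.sum_congr rfl fun g _ => show (∑ k ∈ Finset.univ.filter (fun k : K × N => j k.1 * (k.2 : G) = g), β (j k.1 * (k.2 : G)))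
        = ((Finset.univ.filter (fun k : K × N => j k.1 * (k.2 : G) = 1)).card : ℂ) * β g by
      rw [Finset.sum_congr rfl fun k hk => by rw [(Finset.mem_filter.mp hk).2], Finset.sum_const, nsmul_eq_mul, hfib g],
      ← Finset.mul_sum, htot, mul_zero]
  rw [hfull] at hsum2
  exact (mul_eq_zero.mp hsum2).resolve_left (Nat.cast_ne_zero.mpr Nat.card_pos.ne')

end Cfsg.Agent.BC84
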