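import Cfsg.Agent.Lib.CharCore.Basic
import Cfsg.Agent.Lib.CharInd.Char
import Cfsg.Agent.Lib.CharClifford.Galois
import Mathlib.LinearAlgebra.Matrix.ToLin

/-!
# Galois conjugates `g ↦ χ (g ^ k)` of characters
-/

set_option autoImplicit false
set_option linter.unusedSectionVars false

namespace Cfsg.Agent.BC84

variable {G : Type*} [Group G] [Finite G]

theorem isCharacter_comp_pow {χ : G → ℂ} (hχ : IsCharacter G χ) {k : ℕ}
    (hk : k.Coprime (Nat.card G)) : IsCharacter G (fun g => χ (g ^ k)) := by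
  classical
  obtain ⟨σ, hσ⟩ := CharClifford.exists_ringHom_map_isCharacter (G := G) hk
  have hval := hσ χ hχ
  obtain ⟨n, ρ, rfl⟩ := hχ
  let ρσ : Representation ℂ G (Fin n → ℂ) :=
    { toFun := fun g => Matrix.toLin' ((LinearMap.toMatrix' (ρ g)).map σ)
      map_one' := by
        rw [map_one, LinearMap.toMatrix'_one, Matrix.map_one σ (map_zero σ) (map_one σ), Matrix.toLin'_one]
        rfl
      map_mul' := fun a b => by
        rw [map_mul, LinearMap.toMatrix'_mul, Matrix.map_mul, Matrix.toLin'_mul]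
        rfl }
  refine ⟨n, ρσ, funext fun g => ?_⟩
  show LinearMap.trace ℂ _ (Matrix.toLin' ((LinearMap.toMatrix' (ρ g)).map σ)) = _
  rw [Matrix.trace_toLin'_eq, Matrix.trace, ← hval]
  simp only [Matrix.diag_apply, Matrix.map_apply, ← map_sum]
  congr 1
  exact (LinearMap.trace_eq_matrix_trace ℂ (Pi.basisFun ℂ (Fin n)) (ρ g)).symm

theorem isIrrCharacter_comp_pow {χ : G → ℂ} (hχ : IsIrrCharacter G χ) {k : ℕ}
    (hk : k.Coprime (Nat.card G)) : IsIrrCharacter G (fun g => χ (g ^ k)) := by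
  have := Fintype.ofFinite G
  rw [CharCore.isIrrCharacter_iff] at hχ ⊢
  refine ⟨isCharacter_comp_pow hχ.1 hk, ?_⟩
  rw [← hχ.2, classInner, classInner]
  congr 1
  exact Fintype.sum_bijective _ (CharClifford.bijective_pow_of_coprime hk) _ _ fun g => rfl

/-- The permutation `χ ↦ χ ∘ (· ^ k)` of the irreducible characters. -/
noncomputable def galIrr {k : ℕ} (hk : k.Coprime (Nat.card G)) (χ : IrrCharacter G) : IrrCharacter G :=
  ⟨fun g => (χ : G → ℂ) (g ^ k), isIrrCharacter_comp_pow χ.2 hk⟩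

theorem galIrr_apply {k : ℕ} (hk : k.Coprime (Nat.card G)) (χ : IrrCharacter G) (g : G) :
    ((galIrr hk χ : IrrCharacter G) : G → ℂ) g = (χ : G → ℂ) (g ^ k) := rfl

theorem iterate_galIrr {k : ℕ} (hk : k.Coprime (Nat.card G)) (χ : IrrCharacter G) (n : ℕ) (g : G) :
    (((galIrr hk)^[n] χ : IrrCharacter G) : G → ℂ) g = (χ : G → ℂ) (g ^ k ^ n) := by
  induction n generalizing g with
  | zero => simp
  | succ n ih => rw [Function.iterate_succ_apply', galIrr_apply, ih, ← pow_mul, pow_succ']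

theorem iterate_galIrr_eq_id {k : ℕ} (hk : k.Coprime (Nat.card G)) {n : ℕ}
    (hn : ∀ g : G, g ^ k ^ n = g) : (galIrr hk)^[n] = id :=
  funext fun χ => Subtype.ext (funext fun g => by rw [iterate_galIrr, hn]; rfl)

end Cfsg.Agent.BC84
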