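import Mathlib.RingTheory.RootsOfUnity.Minpoly
import Mathlib.RingTheory.RootsOfUnity.Complex
import Mathlib.RingTheory.Polynomial.Cyclotomic.Roots
import Mathlib.Algebra.Order.BigOperators.Group.Finset
import Cfsg.Agent.Lib.BlocksCore.Local

/-!
# Averages over the primitive roots of prime power order, and weights of integral forms
-/

set_option autoImplicit false

namespace Cfsg.Agent.BC84.RootSums

open scoped ComplexConjugate

theorem geom {z : ℂ} {N : ℕ} (hz : z ^ N = 1) :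
    ∑ i ∈ Finset.range N, z ^ i = if z = 1 then (N : ℂ) else 0 := by
  split_ifs with h
  · simp [h]
  · rw [geom_sum_eq h, hz, sub_self, zero_div]

/-- An integral relation evaluated by averaging over the primitive roots. -/
theorem average {p K : ℕ} (hp : p.Prime) {ζ : ℂ} (hζ : IsPrimitiveRoot ζ (p ^ (K + 1))) {ι : Type*} [Fintype ι]
    (c : ι → ℤ) (n : ι → ℕ) (N : ℤ) (h : ∑ a, (c a : ℂ) * ζ ^ n a = (N : ℂ)) :
    ∑ a, c a * ((if p ^ (K + 1) ∣ n a then (p : ℤ) else 0) - (if p ^ K ∣ n a then 1 else 0)) = N * ((p : ℤ) - 1) := by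
  classical
  set P : Polynomial ℤ := ∑ a, Polynomial.C (c a) * Polynomial.X ^ n a - Polynomial.C N with hP
  have hPz : ∀ x : ℂ, Polynomial.aeval x P = ∑ a, (c a : ℂ) * x ^ n a - (N : ℂ) := by
    intro x
    rw [hP, map_sub, map_sum, Polynomial.aeval_C]
    simp
  have hint : IsIntegral ℤ ζ := hζ.isIntegral (pow_pos hp.pos _)
  have hdvd : minpoly ℤ ζ ∣ P := minpoly.isIntegrallyClosed_dvd hint (by rw [hPz, h, sub_self])
  have hroot : ∀ i : ℕ, ¬ p ∣ i → ∑ a, (c a : ℂ) * (ζ ^ i) ^ n a = (N : ℂ) := by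
    intro i hi
    have hcop : i.Coprime (p ^ (K + 1)) := Nat.Coprime.pow_right _ ((hp.coprime_iff_not_dvd.mpr hi).symm)
    have h0 : Polynomial.aeval (ζ ^ i) P = 0 := by
      obtain ⟨R, hR⟩ := hdvd
      rw [hR, map_mul, hζ.minpoly_eq_pow_coprime hcop, minpoly.aeval, zero_mul]
    rwa [hPz, sub_eq_zero] at h0
  have hs : ∀ x : ℕ, ∑ i ∈ Finset.range (p ^ (K + 1)), (if p ∣ i then (0 : ℂ) else (ζ ^ i) ^ x) =
      (if p ^ (K + 1) ∣ x then (p : ℂ) ^ (K + 1) else 0) - (if p ^ K ∣ x then (p : ℂ) ^ K else 0) := by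
    intro x
    have h1 : ∑ i ∈ Finset.range (p ^ (K + 1)), (ζ ^ x) ^ i = if p ^ (K + 1) ∣ x then (p : ℂ) ^ (K + 1) else 0 := by
      rw [geom (by rw [← pow_mul, mul_comm, pow_mul, hζ.pow_eq_one, one_pow]), Nat.cast_pow]
      exact if_congr (hζ.pow_eq_one_iff_dvd x) rfl rfl
    have h2 : ∑ i ∈ Finset.range (p ^ (K + 1)), (if p ∣ i then (ζ ^ x) ^ i else 0) =
        if p ^ K ∣ x then (p : ℂ) ^ K else 0 := by
      rw [← Finset.sum_filter]
      have e : (Finset.range (p ^ (K + 1))).filter (fun i => p ∣ i) = (Finset.range (p ^ K)).image (p * ·) := by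
        ext i
        simp only [Finset.mem_filter, Finset.mem_range, Finset.mem_image]
        constructor
        · rintro ⟨hi, j, rfl⟩
          refine ⟨j, ?_, rfl⟩
          rw [pow_succ, mul_comm (p ^ K)] at hi
          exact Nat.lt_of_mul_lt_mul_left hi
        · rintro ⟨j, hj, rfl⟩
          exact ⟨by rw [pow_succ, mul_comm (p ^ K)]; exact Nat.mul_lt_mul_of_pos_left hj hp.pos, dvd_mul_right _ _⟩
      rw [e, Finset.sum_image (fun a _ b _ hab => Nat.eq_of_mul_eq_mul_left hp.pos hab),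
        Finset.sum_congr rfl (g := fun j => ((ζ ^ x) ^ p) ^ j) (fun j _ => pow_mul _ _ _)]
      rw [geom (by rw [← pow_mul, ← pow_mul, ← pow_succ', mul_comm, pow_mul, hζ.pow_eq_one, one_pow]), Nat.cast_pow]
      refine if_congr ?_ rfl rfl
      rw [← pow_mul, hζ.pow_eq_one_iff_dvd, pow_succ, mul_dvd_mul_iff_right hp.ne_zero]
    rw [← h1, ← h2, ← Finset.sum_sub_distrib]
    refine Finset.sum_congr rfl fun i _ => ?_
    split_ifs
    · rw [sub_self]
    · rw [sub_zero, ← pow_mul, ← pow_mul, mul_comm]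
  have hpK : (p : ℂ) ^ K ≠ 0 := pow_ne_zero _ (Nat.cast_ne_zero.mpr hp.ne_zero)
  apply Int.cast_injective (α := ℂ)
  refine mul_left_cancel₀ hpK ?_
  have hsum : ∑ i ∈ Finset.range (p ^ (K + 1)), (if p ∣ i then (0 : ℂ) else ∑ a, (c a : ℂ) * (ζ ^ i) ^ n a) =
      ∑ i ∈ Finset.range (p ^ (K + 1)), (if p ∣ i then (0 : ℂ) else (N : ℂ)) :=
    Finset.sum_congr rfl fun i _ => by split_ifs with hi <;> [rfl; exact hroot i hi]
  have hN : ∑ i ∈ Finset.range (p ^ (K + 1)), (if p ∣ i then (0 : ℂ) else (N : ℂ)) =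
      (N : ℂ) * ((p : ℂ) ^ (K + 1) - (p : ℂ) ^ K) := by
    have := hs 0
    simp only [pow_zero, dvd_zero, if_true] at this
    rw [← this, Finset.mul_sum]
    exact Finset.sum_congr rfl fun i _ => by split_ifs <;> simp
  have hL : ∑ i ∈ Finset.range (p ^ (K + 1)), (if p ∣ i then (0 : ℂ) else ∑ a, (c a : ℂ) * (ζ ^ i) ^ n a) =
      ∑ a, (c a : ℂ) * ((if p ^ (K + 1) ∣ n a then (p : ℂ) ^ (K + 1) else 0) - (if p ^ K ∣ n a then (p : ℂ) ^ K else 0)) := by
    simp only [← hs, Finset.mul_sum]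
    rw [Finset.sum_comm]
    refine Finset.sum_congr rfl fun i _ => ?_
    split_ifs
    · simp
    · rfl
  rw [hL, hN] at hsum
  push_cast
  rw [show (p : ℂ) ^ K * ((N : ℂ) * ((p : ℂ) - 1)) = (N : ℂ) * ((p : ℂ) ^ (K + 1) - (p : ℂ) ^ K) by ring, ← hsum,
    Finset.mul_sum]
  refine Finset.sum_congr rfl fun a _ => ?_
  split_ifs <;> push_cast <;> ring

variable {V : Type*} [AddCommGroup V] {R : Type*} [Fintype R] {p : ℕ}

/-- The weight of a family against a symmetric form. -/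
def weight (q : V →+ V →+ ℤ) (z : R → Fin p → V) : ℤ :=
  ∑ r, ((p : ℤ) * ∑ t, q (z r t) (z r t) - q (∑ t, z r t) (∑ t, z r t))

theorem two_mul_weight (q : V →+ V →+ ℤ) (hs : ∀ x y, q x y = q y x) (z : R → Fin p → V) :
    2 * weight q z = ∑ r, ∑ t, ∑ t', q (z r t - z r t') (z r t - z r t') := by
  rw [weight, Finset.mul_sum]
  refine Finset.sum_congr rfl fun r _ => ?_
  simp only [map_sum, AddMonoidHom.finsetSum_apply, map_sub, AddMonoidHom.sub_apply, Finset.sum_sub_distrib, Finset.sum_const,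
    Finset.card_univ, Fintype.card_fin, nsmul_eq_mul, ← Finset.mul_sum]
  rw [Finset.sum_comm (f := fun t t' => q (z r t) (z r t'))]
  simp only [hs]
  ring

variable (q : V →+ V →+ ℤ) (hs : ∀ x y, q x y = q y x) (hnn : ∀ x, 0 ≤ q x x)
  (hker : ∀ x, q x x = 0 → ∀ y, q x y = 0)

include hs hnn

theorem weight_nonneg (z : R → Fin p → V) : 0 ≤ weight q z := by
  have h := two_mul_weight q hs z
  have : 0 ≤ ∑ r, ∑ t, ∑ t', q (z r t - z r t') (z r t - z r t') :=
    Finset.sum_nonneg fun r _ => Finset.sum_nonneg fun t _ => Finset.sum_nonneg fun t' _ => hnn _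
  linarith

theorem eq_zero_of_weight {z : R → Fin p → V} (h : weight q z = 0) (r : R) (t t' : Fin p) :
    q (z r t - z r t') (z r t - z r t') = 0 := by
  have h1 := two_mul_weight q hs z
  rw [h, mul_zero] at h1
  have h2 := (Finset.sum_eq_zero_iff_of_nonneg fun r _ => Finset.sum_nonneg fun t _ =>
    Finset.sum_nonneg fun t' _ => hnn _).mp h1.symm r (Finset.mem_univ r)
  have h3 := (Finset.sum_eq_zero_iff_of_nonneg fun t _ => Finset.sum_nonneg fun t' _ => hnn _).mp h2 t (Finset.mem_univ t)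
  exact (Finset.sum_eq_zero_iff_of_nonneg fun t' _ => hnn _).mp h3 t' (Finset.mem_univ t')

include hker

/-- One class with two inequivalent members. -/
theorem le_class {μ : ℤ} (hμ : ∀ x, q x x ≠ 0 → μ ≤ q x x) (hμ0 : 0 ≤ μ) (w : Fin p → V) {t₀ t₁ : Fin p}
    (h : q (w t₀ - w t₁) (w t₀ - w t₁) ≠ 0) :
    2 * ((p : ℤ) - 1) * μ ≤ ∑ t, ∑ t', q (w t - w t') (w t - w t') := by
  classical
  set Q : Fin p → Fin p → ℤ := fun t t' => q (w t - w t') (w t - w t') with hQ
  have hsym : ∀ a c, Q a c = Q c a := fun a c => by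
    simp only [hQ]; rw [← neg_sub (w a) (w c)]; simp only [map_neg, AddMonoidHom.neg_apply, neg_neg]
  have hne : t₀ ≠ t₁ := fun e => h (by rw [e]; simp)
  have key : ∀ t, μ ≤ Q t t₀ + Q t t₁ := by
    intro t
    by_cases h0 : Q t t₀ = 0
    · have h1 : Q t t₁ ≠ 0 := by
        intro h1
        refine h ?_
        rw [show w t₀ - w t₁ = (w t - w t₁) - (w t - w t₀) by abel]
        simp only [map_sub, AddMonoidHom.sub_apply]
        have a1 := hker _ h1
        have a2 := hker _ h0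
        simp only [map_sub, AddMonoidHom.sub_apply] at a1 a2
        have b1 := a1 (w t - w t₁); have b2 := a1 (w t - w t₀); have b3 := a2 (w t - w t₁); have b4 := a2 (w t - w t₀)
        simp only [map_sub] at b1 b2 b3 b4
        linarith
      linarith [hμ _ h1]
    · linarith [hμ _ h0, hnn (w t - w t₁)]
  -- the pairs meeting the two members
  set T : Finset (Fin p) := {t₀, t₁} with hT
  have hcard : T.card = 2 := Finset.card_pair hne
  have hmu : μ ≤ Q t₀ t₁ := hμ _ h
  have h1 : ∑ t, ∑ t', Q t t' = ∑ t ∈ T, ∑ t', Q t t' + ∑ t ∈ Finset.univ \ T, ∑ t', Q t t' := by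
    rw [add_comm, Finset.sum_sdiff (Finset.subset_univ T)]
  have h2 : ((p : ℤ) - 2) * μ ≤ ∑ t ∈ Finset.univ \ T, ∑ t', Q t t' := by
    have hc : ((Finset.univ \ T).card : ℤ) = (p : ℤ) - 2 := by
      have h3 : T.card ≤ (Finset.univ : Finset (Fin p)).card := Finset.card_le_univ T
      rw [Finset.card_sdiff_of_subset (Finset.subset_univ T), Nat.cast_sub h3, hcard, Finset.card_univ, Fintype.card_fin]
      rfl
    rw [← hc, ← nsmul_eq_mul]
    refine Finset.card_nsmul_le_sum _ _ _ fun t _ => ?_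
    refine (key t).trans ?_
    rw [← Finset.sum_pair (f := Q t) hne]
    exact Finset.sum_le_sum_of_subset_of_nonneg (Finset.subset_univ _) fun _ _ _ => hnn _
  have h4 : (p : ℤ) * μ ≤ ∑ t ∈ T, ∑ t', Q t t' := by
    rw [hT, Finset.sum_pair hne, ← Finset.sum_add_distrib]
    refine le_trans (le_of_eq ?_) (Finset.card_nsmul_le_sum Finset.univ _ μ fun t _ => ?_)
    · rw [Finset.card_univ, Fintype.card_fin, nsmul_eq_mul]
    · rw [hsym t₀, hsym t₁]; exact key t
  calc 2 * ((p : ℤ) - 1) * μ = (p : ℤ) * μ + ((p : ℤ) - 2) * μ := by ring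
    _ ≤ _ := by rw [h1]; linarith

/-- The least weight of a nonzero family. -/
theorem le_weight {μ : ℤ} (hμ : ∀ x, q x x ≠ 0 → μ ≤ q x x) (hμ0 : 0 ≤ μ) {z : R → Fin p → V}
    (h : weight q z ≠ 0) : ((p : ℤ) - 1) * μ ≤ weight q z := by
  classical
  obtain ⟨r, t, t', hrt⟩ : ∃ r t t', q (z r t - z r t') (z r t - z r t') ≠ 0 := by
    by_contra hc
    push Not at hc
    have h1 := two_mul_weight q hs z
    simp only [hc, Finset.sum_const_zero] at h1
    exact h (by omega)
  have h1 := le_class q hs hnn hker hμ hμ0 (z r) hrt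
  have h2 := two_mul_weight q hs z
  have h3 : ∑ t, ∑ t', q (z r t - z r t') (z r t - z r t') ≤ 2 * weight q z := by
    rw [h2]
    exact Finset.single_le_sum (f := fun r => ∑ t, ∑ t', q (z r t - z r t') (z r t - z r t'))
      (fun r _ => Finset.sum_nonneg fun _ _ => Finset.sum_nonneg fun _ _ => hnn _) (Finset.mem_univ r)
  linarith

omit hs hnn hker in
theorem int_le_weight (hp : 2 ≤ p) (a : R → Fin p → ℤ) (hdvd : (p : ℤ) ∣ ∑ r, ∑ t, a r t)
    (h : weight (AddMonoidHom.mul (R := ℤ)) a ≠ 0) : (p : ℤ) ≤ weight (AddMonoidHom.mul (R := ℤ)) a := by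
  classical
  set q : ℤ →+ ℤ →+ ℤ := AddMonoidHom.mul with hq
  have hs : ∀ x y, q x y = q y x := fun x y => mul_comm x y
  have hnn : ∀ x, 0 ≤ q x x := fun x => mul_self_nonneg x
  have hker : ∀ x, q x x = 0 → ∀ y, q x y = 0 := fun x hx y => by
    rw [show q x x = x * x from rfl, mul_self_eq_zero] at hx
    subst hx; simp
  have hμ : ∀ x, q x x ≠ 0 → 1 ≤ q x x := fun x hx => by have := hnn x; omega
  obtain ⟨r₀, t₀, t₁, h01⟩ : ∃ r t t', q (a r t - a r t') (a r t - a r t') ≠ 0 := by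
    by_contra hc
    push Not at hc
    have h1 := two_mul_weight q hs a
    simp only [hc, Finset.sum_const_zero] at h1
    exact h (by omega)
  have h2 := two_mul_weight q hs a
  by_cases hone : ∀ r, r ≠ r₀ → ∀ t t', a r t = a r t'
  · have hp0 : 0 < p := by omega
    have hrest : (p : ℤ) ∣ ∑ t, a r₀ t := by
      rw [← Finset.add_sum_erase _ _ (Finset.mem_univ r₀)] at hdvd
      refine (dvd_add_left (Finset.dvd_sum fun r hr => ⟨a r ⟨0, hp0⟩, ?_⟩)).mp hdvd
      rw [Finset.sum_congr rfl fun t _ => hone r (Finset.mem_erase.mp hr).1 t ⟨0, hp0⟩, Finset.sum_const,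
        Finset.card_univ, Fintype.card_fin, nsmul_eq_mul]
    refine Int.le_of_dvd (lt_of_le_of_ne (weight_nonneg q hs hnn a) (Ne.symm h)) ?_
    rw [weight, ← Finset.add_sum_erase _ _ (Finset.mem_univ r₀)]
    refine dvd_add (dvd_sub (dvd_mul_right _ _) (dvd_mul_of_dvd_left hrest _)) (Finset.dvd_sum fun r hr => ?_)
    refine dvd_sub (dvd_mul_right _ _) (dvd_mul_of_dvd_left ⟨a r ⟨0, hp0⟩, ?_⟩ _)
    rw [Finset.sum_congr rfl fun t _ => hone r (Finset.mem_erase.mp hr).1 t ⟨0, hp0⟩, Finset.sum_const,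
      Finset.card_univ, Fintype.card_fin, nsmul_eq_mul]
  · push Not at hone
    obtain ⟨r₁, hr₁, t₂, t₃, h23⟩ := hone
    have h23' : q (a r₁ t₂ - a r₁ t₃) (a r₁ t₂ - a r₁ t₃) ≠ 0 :=
      fun e => h23 (sub_eq_zero.mp (mul_self_eq_zero.mp e))
    have e0 := le_class q hs hnn hker hμ zero_le_one (a r₀) h01
    have e1 := le_class q hs hnn hker hμ zero_le_one (a r₁) h23'
    have e2 : ∑ r ∈ ({r₀, r₁} : Finset R), ∑ t, ∑ t', q (a r t - a r t') (a r t - a r t') ≤ 2 * weight q a := by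
      rw [h2]
      exact Finset.sum_le_sum_of_subset_of_nonneg (Finset.subset_univ _)
        fun r _ _ => Finset.sum_nonneg fun _ _ => Finset.sum_nonneg fun _ _ => hnn _
    rw [Finset.sum_pair hr₁.symm] at e2
    have : (2 : ℤ) ≤ p := by exact_mod_cast hp
    linarith

end Cfsg.Agent.BC84.RootSums
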