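import Cfsg.Agent.BC84.Subsection
import Cfsg.Agent.BC84.RootSums
import Cfsg.Agent.BC85.Basic

/-!
# Blocks with a major subsection of rank at most two
-/

set_option autoImplicit false
set_option linter.unusedSectionVars false

namespace Cfsg.Agent.BC84.RankTwo

open BlocksCore BlocksDefect
open scoped ComplexConjugate

section Forms

variable {ι : Type*} [Fintype ι]

/-- The bilinear form of a matrix. -/
def form (β : ι → ι → ℤ) : (ι → ℤ) →+ (ι → ℤ) →+ ℤ :=
  AddMonoidHom.mk' (fun z => AddMonoidHom.mk' (fun w => ∑ i, ∑ j, z i * β i j * w j)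
      (fun w w' => by simp only [Pi.add_apply, mul_add, Finset.sum_add_distrib]))
    (fun z z' => AddMonoidHom.ext fun w => by
      simp only [AddMonoidHom.mk'_apply, AddMonoidHom.add_apply, Pi.add_apply, add_mul, Finset.sum_add_distrib])

theorem form_apply (β : ι → ι → ℤ) (z w : ι → ℤ) : form β z w = ∑ i, ∑ j, z i * β i j * w j := rfl

theorem form_symm (β : ι → ι → ℤ) (hs : ∀ i j, β i j = β j i) (z w : ι → ℤ) : form β z w = form β w z := by
  rw [form_apply, form_apply, Finset.sum_comm]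
  exact Finset.sum_congr rfl fun i _ => Finset.sum_congr rfl fun j _ => by rw [hs j i]; ring

theorem form_rankOne (v z w : ι → ℤ) :
    form (fun i j => v i * v j) z w = (∑ i, v i * z i) * (∑ j, v j * w j) := by
  rw [form_apply, Finset.sum_mul_sum]
  exact Finset.sum_congr rfl fun i _ => Finset.sum_congr rfl fun j _ => by ring

theorem form_sub (β γ : ι → ι → ℤ) (z w : ι → ℤ) :
    form (fun i j => β i j - γ i j) z w = form β z w - form γ z w := by
  simp only [form_apply, ← Finset.sum_sub_distrib]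
  exact Finset.sum_congr rfl fun i _ => Finset.sum_congr rfl fun j _ => by ring

theorem form_idem_facts (m : ι → ι → ℤ) (D : ℤ) (hD : 0 < D) (hs : ∀ i j, m i j = m j i)
    (hi : ∀ i k, ∑ j, m i j * m j k = D * m i k) :
    (∀ z, 0 ≤ form m z z) ∧ ∀ z, form m z z = 0 → ∀ y, form m z y = 0 := by
  have key : ∀ z : ι → ℤ, ∑ j, (∑ i, z i * m i j) ^ 2 = D * form m z z := by
    intro z
    simp only [sq, form_apply, Finset.mul_sum, Finset.sum_mul]
    rw [Finset.sum_comm]
    refine Finset.sum_congr rfl fun i _ => ?_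
    rw [Finset.sum_comm]
    refine Finset.sum_congr rfl fun k _ => ?_
    rw [show D * (z i * m i k * z k) = z i * z k * (D * m i k) by ring, ← hi, Finset.mul_sum]
    exact Finset.sum_congr rfl fun j _ => by rw [hs j k]; ring
  refine ⟨fun z => ?_, fun z hz y => ?_⟩
  · have h := key z
    have : (0 : ℤ) ≤ ∑ j, (∑ i, z i * m i j) ^ 2 := Finset.sum_nonneg fun j _ => sq_nonneg _
    rw [h] at this
    exact nonneg_of_mul_nonneg_right this hD
  · have h := key z
    rw [hz, mul_zero] at h
    rw [form_apply, Finset.sum_comm]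
    refine Finset.sum_eq_zero fun j _ => ?_
    rw [← Finset.sum_mul]
    have := (Finset.sum_eq_zero_iff_of_nonneg fun j _ => sq_nonneg (∑ i, z i * m i j)).mp h j (Finset.mem_univ j)
    rw [pow_eq_zero_iff two_ne_zero] at this
    rw [this, zero_mul]

end Forms

variable {G : Type*} [Group G] [Finite G] {p : ℕ} [Fact p.Prime] {M : Ideal AlgInt}

theorem degree_ratio (hM : IsPModular p M) {B : Set (IrrCharacter G)} {χ : IrrCharacter G} (hχ : χ ∈ B) :
    ∃ r : ℂ, MemLocalRing M r ∧ ¬ MemLocalIdeal M r ∧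
      (p : ℂ) ^ blockDefect p B * (χ : G → ℂ) 1 / Nat.card G = (p : ℂ) ^ blockHeight p B (χ : G → ℂ) * r := by
  classical
  have := isPrime hM
  have := Fintype.ofFinite G
  set a := (Nat.card G).factorization p with ha
  set s := sInf ((fun χ : IrrCharacter G => (charDegree (χ : G → ℂ)).factorization p) '' B) with hs
  set e := (charDegree (χ : G → ℂ)).factorization p with he
  have hse : s ≤ e := BC85.sInf_le_degree hχ
  have hea : e ≤ a := BC85.degree_factorization_le χ
  set c := charDegree (χ : G → ℂ) / p ^ e with hc'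
  set n' := Nat.card G / p ^ a with hn'
  have hcd : ((χ : G → ℂ) 1) = (p : ℂ) ^ e * (c : ℂ) := by
    rw [irr_one_eq, ← Nat.cast_pow, ← Nat.cast_mul, hc', he, Nat.ordProj_mul_ordCompl_eq_self]
  have hnd : (Nat.card G : ℂ) = (p : ℂ) ^ a * (n' : ℂ) := by
    rw [← Nat.cast_pow, ← Nat.cast_mul, hn', ha, Nat.ordProj_mul_ordCompl_eq_self]
  have hn2 : ¬ p ∣ n' := Nat.not_dvd_ordCompl hM.1 Nat.card_pos.ne'
  have hc2 : ¬ p ∣ c := Nat.not_dvd_ordCompl hM.1 (charDegree_pos χ).ne'
  have hn0 : (n' : ℂ) ≠ 0 := Nat.cast_ne_zero.mpr fun h0 : n' = 0 => hn2 (h0 ▸ dvd_zero p)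
  refine ⟨(c : ℂ) * (n' : ℂ)⁻¹, (localRing M).mul_mem (memLocalRing_natCast c) (memLocalRing_natCast_inv hM hn2),
    fun h => ?_, ?_⟩
  · rcases memLocalIdeal_mem_or_mem (memLocalRing_natCast c) (memLocalRing_natCast_inv hM hn2) h with h' | h'
    · exact hc2 ((memLocalIdeal_natCast_iff hM c).mp h')
    · have := memLocalIdeal_mul_left (memLocalRing_natCast n') h'
      rw [mul_inv_cancel₀ hn0] at this
      exact not_memLocalIdeal_one this
  · rw [show blockDefect p B = a - s from rfl, show blockHeight p B (χ : G → ℂ) = e - s from rfl, hcd, hnd]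
    have hp0 : (p : ℂ) ≠ 0 := Nat.cast_ne_zero.mpr hM.1.ne_zero
    have h1 : (p : ℂ) ^ (a - s) * (p : ℂ) ^ e = (p : ℂ) ^ (e - s) * (p : ℂ) ^ a := by
      rw [← pow_add, ← pow_add]; congr 1; omega
    field_simp
    linear_combination (c : ℂ) * h1

/-- The contribution matrix has rank one modulo `p`. -/
theorem matrix_congr (hM : IsPModular p M) {B : Set (IrrCharacter G)} (hB : IsPBlock M B) [Fintype B]
    {m : B → B → ℤ} (hm : ∀ χ ψ : B, (m χ ψ : ℂ) = (p : ℂ) ^ blockDefect p B * BC85.prj p (χ : IrrCharacter G) ψ)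
    {θ : B} (hθ : blockHeight p B ((θ : IrrCharacter G) : G → ℂ) = 0) :
    ¬ (p : ℤ) ∣ m θ θ ∧ ∀ χ ψ : B, (p : ℤ) ∣ m χ ψ * m θ θ - m θ χ * m θ ψ := by
  classical
  have := isPrime hM
  have := Fintype.ofFinite G
  choose u hu1 hu2 hu using fun χ : B => degree_ratio hM χ.2
  have hrel : ∀ χ ψ : B, (m χ ψ : ℂ) =
      (p : ℂ) ^ blockHeight p B ((χ : IrrCharacter G) : G → ℂ) * u χ * regPair p ((χ : IrrCharacter G) : G → ℂ) (ψ : IrrCharacter G) := by
    intro χ ψ
    rw [hm, BC85.prj_eq_regPair, ← hu]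
    ring
  refine ⟨fun h => ?_, fun χ ψ => ?_⟩
  · have h1 := (memLocalIdeal_intCast_iff hM (m θ θ)).mpr h
    rw [hrel, hθ, pow_zero, one_mul] at h1
    exact (regPair_unit_iff hM hB θ.2 θ.2).mpr hθ ((memLocalIdeal_mem_or_mem (hu1 θ) (regPair_memLocalRing _ _) h1).resolve_left (hu2 θ))
  · have hsym : ∀ a c : B, m a c = m c a := fun a c => by
      apply Int.cast_injective (α := ℂ)
      rw [hm, hm, BC85.prj_comm]
    rw [hsym θ χ, ← memLocalIdeal_intCast_iff hM]
    push_cast
    rw [hrel, hrel, hrel, hrel, hθ, pow_zero, one_mul]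
    set R := fun a c : B => regPair p ((a : IrrCharacter G) : G → ℂ) (c : IrrCharacter G) with hR
    rw [show ∀ A a x y z w : ℂ, A * u χ * x * (a * y) - A * u χ * z * (a * w) = A * u χ * a * (x * y - z * w) from
      fun A a x y z w => by ring]
    refine memLocalIdeal_mul_left ((localRing M).mul_mem ((localRing M).mul_mem
      (pow_mem (S := localRing M) (memLocalRing_natCast p) _) (hu1 χ)) (hu1 θ)) ?_
    rw [show R χ ψ * R θ θ - R χ θ * R θ ψ = (R χ ψ - R θ ψ) * R θ θ - (R χ θ - R θ θ) * R θ ψ by ring]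
    exact memLocalIdeal_sub (memLocalIdeal_mul_right (regPair_congr hM hB χ.2 θ.2 _) (regPair_memLocalRing _ _))
      (memLocalIdeal_mul_right (regPair_congr hM hB χ.2 θ.2 _) (regPair_memLocalRing _ _))

variable {u : G} {k : ℕ} (hM : IsPModular p M) (hu : orderOf u = p ^ k)
  {B : Set (IrrCharacter G)} {b : Set (IrrCharacter (Subgroup.centralizer ({u} : Set G)))}
  (hb : IsInducedBlock M (Subgroup.centralizer ({u} : Set G)) b B)

include hM hu hb

theorem cval_pow_card (η : IrrCharacter (Subgroup.centralizer ({u} : Set G))) : cval η (cu u) ^ p ^ k = 1 := by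
  rw [← cval_pow η (Subgroup.mem_center_iff.mpr fun c =>
      Subtype.ext (Subgroup.mem_centralizer_singleton_iff.mp c.2) : cu u ∈ Subgroup.center _),
    show cu u ^ p ^ k = 1 from Subtype.ext (by
      rw [Subgroup.coe_pow, Subgroup.coe_one, ← hu]; exact pow_orderOf_eq_one u), cval_one]

/-- The contribution at a height zero member is a unit. -/
theorem contr_self_unit {ψ : IrrCharacter G} (hψ : ψ ∈ B) (h0 : blockHeight p B (ψ : G → ℂ) = 0) :
    ¬ MemLocalIdeal M ((p : ℂ) ^ blockDefect p b * contr p b (ψ : G → ℂ) (ψ : G → ℂ)) := by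
  classical
  have := isPrime hM
  have := Fintype.ofFinite (Subgroup.centralizer ({u} : Set G))
  have := finite_irr (G := Subgroup.centralizer ({u} : Set G))
  have := Fintype.ofFinite b
  obtain ⟨n, hn₀, hn⟩ := exists_mult hM ψ (u := u)
  obtain ⟨m, hm, hsym, -⟩ := BC85.exists_matrix hM hb.1
  obtain ⟨θ₀, hθ₀, h00⟩ := exists_height_zero hM hb.1
  obtain ⟨hθ, hcong⟩ := matrix_congr hM hb.1 hm (θ := ⟨θ₀, hθ₀⟩) h00
  set θ : b := ⟨θ₀, hθ₀⟩ with hθdef
  have hL := not_dvd_mult hM hb hψ h0 hn₀ hm hθ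
  intro hmem
  set L : ℤ := ∑ η : b, (n (η : IrrCharacter (Subgroup.centralizer ({u} : Set G))) : ℤ) * m θ η with hLdef
  have hd : MemLocalIdeal M ((m θ θ : ℂ) * ((p : ℂ) ^ blockDefect p b * contr p b (ψ : G → ℂ) (ψ : G → ℂ)) - ((L * L : ℤ) : ℂ)) := by
    rw [contr_eq_sum hM ψ ψ hn hn, hLdef, Finset.sum_mul_sum, Finset.mul_sum, Finset.mul_sum, Int.cast_sum,
      ← Finset.sum_sub_distrib]
    refine memLocalIdeal_sum fun η _ => ?_
    rw [Finset.mul_sum, Finset.mul_sum, Int.cast_sum, ← Finset.sum_sub_distrib]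
    refine memLocalIdeal_sum fun η' _ => ?_
    set s := cval (η : IrrCharacter (Subgroup.centralizer ({u} : Set G))) (cu u) with hs
    set s' := cval (η' : IrrCharacter (Subgroup.centralizer ({u} : Set G))) (cu u) with hs'
    have hss : (s * conj s') ^ p ^ k = 1 := by
      rw [mul_pow, ← map_pow, cval_pow_card hM hu hb, cval_pow_card hM hu hb, map_one, mul_one]
    rw [map_mul, map_natCast, show (m θ θ : ℂ) * ((p : ℂ) ^ blockDefect p b *
      ((n (η : IrrCharacter (Subgroup.centralizer ({u} : Set G))) : ℂ) * s *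
        ((n (η' : IrrCharacter (Subgroup.centralizer ({u} : Set G))) : ℂ) * conj s') *
        BC85.prj p (η : IrrCharacter (Subgroup.centralizer ({u} : Set G))) η')) -
      (((n (η : IrrCharacter (Subgroup.centralizer ({u} : Set G))) : ℤ) * m θ η *
        ((n (η' : IrrCharacter (Subgroup.centralizer ({u} : Set G))) : ℤ) * m θ η') : ℤ) : ℂ) =
      ((n (η : IrrCharacter (Subgroup.centralizer ({u} : Set G))) : ℂ) *
        (n (η' : IrrCharacter (Subgroup.centralizer ({u} : Set G))) : ℂ)) *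
        (((m η η' * m θ θ : ℤ) : ℂ) * (s * conj s' - 1) + ((m η η' * m θ θ - m θ η * m θ η' : ℤ) : ℂ)) by
          push_cast; rw [hm η η']; ring]
    exact memLocalIdeal_mul_left ((localRing M).mul_mem (memLocalRing_natCast _) (memLocalRing_natCast _))
      (memLocalIdeal_add (memLocalIdeal_mul_left (memLocalRing_intCast _) (memLocalIdeal_sub_one_of_pow hM hss))
        ((memLocalIdeal_intCast_iff hM _).mpr (hcong η η')))
  have h1 := memLocalIdeal_sub (memLocalIdeal_mul_left (memLocalRing_intCast (m θ θ)) hmem) hd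
  rw [sub_sub_cancel] at h1
  exact hL (((Nat.prime_iff_prime_int.mp hM.1).dvd_or_dvd ((memLocalIdeal_intCast_iff hM _).mp h1)).elim id id)

/-- A contribution against a height zero member of the block of a major subsection. -/
theorem contr_val (hd : blockDefect p b = blockDefect p B) {χ ψ : IrrCharacter G} (hχ : χ ∈ B) (hψ : ψ ∈ B)
    (h0 : blockHeight p B (ψ : G → ℂ) = 0) :
    ((p : ℂ) ^ blockDefect p b * contr p b (χ : G → ℂ) (ψ : G → ℂ) ≠ 0) ∧
      (blockHeight p B (χ : G → ℂ) ≠ 0 →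
        MemLocalIdeal M ((p : ℂ) ^ blockDefect p b * contr p b (χ : G → ℂ) (ψ : G → ℂ))) := by
  classical
  have := isPrime hM
  have := Fintype.ofFinite G
  have := Fintype.ofFinite (Subgroup.centralizer ({u} : Set G))
  set w := sectMap p u b (ψ : G → ℂ) with hw
  have hwm : w ∈ regSpan p b := sectMap_mem u b _
  have hwint : ∀ c, IsIntegral ℤ (w c) := by
    intro c
    rw [hw, sectMap_eq_regPart]
    by_cases hc : p ∣ orderOf c
    · rw [BC85.pRegularPart_neg hc]; exact isIntegral_zero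
    · rw [BC85.pRegularPart_pos hc, blockPart]
      obtain ⟨n, -, hn⟩ := exists_mult hM ψ (u := u)
      have := finite_irr (G := Subgroup.centralizer ({u} : Set G))
      rw [finsum_mem_eq_finite_toFinset_sum _ b.toFinite]
      refine IsIntegral.sum _ fun η _ => IsIntegral.mul ?_ (isIntegral_irr η c)
      have h1 : IsIntegral ℤ ((n η : ℂ) * cval η (cu u)) := IsIntegral.mul (isIntegral_natCast (n η))
        (IsIntegral.of_pow (n := p ^ k) (pow_pos hM.1.pos _) (by rw [cval_pow_card hM hu hb]; exact isIntegral_one))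
      rw [← hn η] at h1
      convert h1
      rfl
  set A : G → ℂ := fun g => conj (spread u w g) with hA
  have hAint : IsIntClassFun M A := by
    refine ⟨fun g x => by simp only [hA]; rw [isClassFunction_spread u w g x], fun g => ?_⟩
    simp only [hA]
    refine memLocalRing_of_isIntegral ?_
    suffices IsIntegral ℤ (spread u w g) from this.map (starRingEnd ℂ).toIntAlgHom
    obtain ⟨hc, hy⟩ := regular_inv_pp_mul (p := p) g
    obtain ⟨-, -, -, ⟨k', hk'⟩, -⟩ := pp_spec (p := p) g
    obtain ⟨hwc, hw0⟩ := isClassFunction_of_mem_regSpan hwm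
    by_cases hconj : IsConj (pp p g) u
    · obtain ⟨t, ht⟩ := isConj_iff.mp hconj
      have hcx : Commute u (t * ((pp p g)⁻¹ * g) * t⁻¹) := by
        rw [← ht]
        exact Commute.map hc (MulAut.conj t).toMonoidHom
      rw [← isClassFunction_spread u w g t, show t * g * t⁻¹ = u * (t * ((pp p g)⁻¹ * g) * t⁻¹) by rw [← ht]; group,
        (spread_apply hu hu hwc hw0 (by rwa [orderOf_conjugate]) hcx).2 rfl
          (Subgroup.mem_centralizer_singleton_iff.mpr hcx.symm.eq)]
      exact hwint _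
    · have h1 := (spread_apply hu hk' hwc hw0 hy hc).1 hconj
      rw [mul_inv_cancel_left] at h1
      rw [h1]; exact isIntegral_zero
  have hform : ∀ ξ : IrrCharacter G, ξ ∈ B → ∃ r : ℂ, MemLocalRing M r ∧ ¬ MemLocalIdeal M r ∧
      (p : ℂ) ^ blockDefect p b * contr p b (ξ : G → ℂ) (ψ : G → ℂ) =
        (p : ℂ) ^ blockHeight p B (ξ : G → ℂ) * (r * omega (ξ : G → ℂ) A) := by
    intro ξ hξ
    obtain ⟨r, hr1, hr2, hr⟩ := degree_ratio hM hξ
    refine ⟨r, hr1, hr2, ?_⟩
    have hcontr : contr p b (ξ : G → ℂ) (ψ : G → ℂ) = classInner (ξ : G → ℂ) (spread u w) := by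
      rw [← classInner_sectMap hM hb.1 (CharCore.irr_isClassFunction ξ) hwm]
      unfold contr
      congr!
    have homega : classInner (ξ : G → ℂ) (spread u w) = (ξ : G → ℂ) 1 * omega (ξ : G → ℂ) A / Nat.card G := by
      rw [omega_eq_sum, mul_div_cancel₀ _ (irr_one_ne_zero ξ), classInner, div_eq_inv_mul]
      congr 1
      exact Finset.sum_congr rfl fun g _ => mul_comm _ _
    rw [hcontr, homega, hd, ← mul_assoc, ← hr]
    ring
  have hωloc : ∀ ξ : IrrCharacter G, MemLocalRing M (omega (ξ : G → ℂ) A) := fun ξ => omega_memLocalRing ξ hAint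
  obtain ⟨r', hr'1, hr'2, hr'⟩ := hform ψ hψ
  have hu' := contr_self_unit hM hu hb hψ h0
  rw [hr', h0, pow_zero, one_mul] at hu'
  obtain ⟨r, hr1, hr2, hr⟩ := hform χ hχ
  rw [hr]
  refine ⟨mul_ne_zero (pow_ne_zero _ (Nat.cast_ne_zero.mpr hM.1.ne_zero)) fun hz => ?_, fun hne => ?_⟩
  · have h1 : MemLocalIdeal M (r * omega (χ : G → ℂ) A) := hz ▸ memLocalIdeal_zero
    have h2 := (memLocalIdeal_mem_or_mem hr1 (hωloc χ) h1).resolve_left hr2
    have h3 := memLocalIdeal_sub h2 (omega_sub_memLocalIdeal (sameBlock_of_mem hb.2.1 hχ hψ) hAint)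
    rw [sub_sub_cancel] at h3
    exact hu' (memLocalIdeal_mul_left hr'1 h3)
  · refine memLocalIdeal_mul_right ?_ ((localRing M).mul_mem hr1 (hωloc χ))
    have h3 := (memLocalIdeal_natCast_iff hM (p ^ blockHeight p B (χ : G → ℂ))).mpr (dvd_pow_self p hne)
    push_cast at h3
    exact h3

/-- Brauer's bound for a major subsection of rank at most two. -/
theorem natCard_le (hd : blockDefect p b = blockDefect p B) (hl : blockRank p b ≤ 2) :
    Nat.card B ≤ p ^ blockDefect p B := by
  classical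
  have := isPrime hM
  have hp : p.Prime := hM.1
  have := Fintype.ofFinite G
  have := Fintype.ofFinite (Subgroup.centralizer ({u} : Set G))
  have := finite_irr (G := Subgroup.centralizer ({u} : Set G))
  have := finite_irr (G := G)
  have := Fintype.ofFinite b
  have := Fintype.ofFinite B
  obtain ⟨m, hm, hsym, hidem, -, -, -⟩ := BC85.exists_matrix hM hb.1
  set D : ℤ := (p : ℤ) ^ blockDefect p b with hDdef
  have hD : 0 < D := pow_pos (by exact_mod_cast hp.pos) _
  obtain ⟨hqnn, hqker⟩ := form_idem_facts m D hD hsym hidem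
  choose n hn₀ hn using fun χ : B => exists_mult hM (χ : IrrCharacter G) (u := u)
  -- the exponents
  have hpk : 0 < p ^ k := pow_pos hp.pos _
  set P := p ^ (k + 1) with hP
  have hP0 : P ≠ 0 := pow_ne_zero _ hp.ne_zero
  set ζ : ℂ := Complex.exp (2 * Real.pi * Complex.I / (P : ℕ)) with hζdef
  have hζ : IsPrimitiveRoot ζ P := Complex.isPrimitiveRoot_exp _ hP0
  have hJ : ∀ η : b, ∃ rt : Fin (p ^ k) × Fin p,
      cval (η : IrrCharacter (Subgroup.centralizer ({u} : Set G))) (cu u) = ζ ^ ((rt.1 : ℕ) + p ^ k * rt.2) := by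
    intro η
    have h1 : cval (η : IrrCharacter (Subgroup.centralizer ({u} : Set G))) (cu u) ^ P = 1 := by
      rw [hP, pow_succ, pow_mul, cval_pow_card hM hu hb, one_pow]
    have : NeZero P := ⟨hP0⟩
    obtain ⟨i, hi, hi'⟩ := hζ.eq_pow_of_pow_eq_one h1
    refine ⟨⟨⟨i % p ^ k, Nat.mod_lt _ hpk⟩, ⟨i / p ^ k, ?_⟩⟩, ?_⟩
    · rw [Nat.div_lt_iff_lt_mul hpk]; rw [hP, pow_succ, mul_comm] at hi; exact hi
    · rw [Nat.mod_add_div]; exact hi'.symm
  choose J hJ using hJ
  let pw : Fin (p ^ k) × Fin p → ℂ := fun a => ζ ^ ((a.1 : ℕ) + p ^ k * a.2)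
  have hpwlt : ∀ a : Fin (p ^ k) × Fin p, (a.1 : ℕ) + p ^ k * a.2 < P := by
    intro a
    have h1 := a.1.2
    have h2 : p ^ k * ((a.2 : ℕ) + 1) ≤ p ^ k * p := Nat.mul_le_mul_left _ a.2.2
    rw [hP, pow_succ]; rw [mul_add, mul_one] at h2; omega
  let Z : B → Fin (p ^ k) → Fin p → (b → ℤ) := fun χ r t η =>
    if J η = (r, t) then (n χ (η : IrrCharacter (Subgroup.centralizer ({u} : Set G))) : ℤ) else 0
  let V : (b → b → ℤ) → B → B → ℂ := fun β χ ψ => ∑ η : b, ∑ η' : b,
    ((n χ (η : IrrCharacter (Subgroup.centralizer ({u} : Set G))) : ℂ) * pw (J η)) *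
      conj ((n ψ (η' : IrrCharacter (Subgroup.centralizer ({u} : Set G))) : ℂ) * pw (J η')) * (β η η' : ℂ)
  have hV : ∀ β χ ψ, V β χ ψ = ∑ a : Fin (p ^ k) × Fin p, ∑ a' : Fin (p ^ k) × Fin p,
      (form β (Z χ a.1 a.2) (Z ψ a'.1 a'.2) : ℂ) * (pw a * conj (pw a')) := by
    intro β χ ψ
    simp only [form_apply, Z, Int.cast_sum, Finset.sum_mul, Prod.mk.eta]
    rw [Finset.sum_congr rfl fun a _ => Finset.sum_comm, Finset.sum_comm]
    refine Finset.sum_congr rfl fun η _ => ?_
    rw [Finset.sum_congr rfl fun a _ => Finset.sum_comm, Finset.sum_comm]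
    refine Finset.sum_congr rfl fun η' _ => ?_
    rw [Finset.sum_eq_single (J η), Finset.sum_eq_single (J η')]
    · simp [map_mul]; ring
    · intro a' _ ha'; rw [if_neg (Ne.symm ha')]; simp
    · simp
    · intro a _ ha; exact Finset.sum_eq_zero fun a' _ => by rw [if_neg (Ne.symm ha)]; simp
    · simp
  have hN : ∀ χ ψ : B, V m χ ψ = (p : ℂ) ^ blockDefect p b *
      contr p b ((χ : IrrCharacter G) : G → ℂ) ((ψ : IrrCharacter G) : G → ℂ) := by
    intro χ ψ
    rw [contr_eq_sum hM _ _ (hn χ) (hn ψ), Finset.mul_sum]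
    refine Finset.sum_congr rfl fun η _ => ?_
    rw [Finset.mul_sum]
    refine Finset.sum_congr rfl fun η' _ => ?_
    rw [hm, hJ, hJ]
    ring
  -- totals
  have htot : ∀ (β : b → b → ℤ) (T : ℤ), ∑ χ : B, V β χ χ = (T : ℂ) →
      ∑ χ : B, RootSums.weight (form β) (Z χ) = T * ((p : ℤ) - 1) := by
    intro β T hT
    have hav := RootSums.average hp hζ (ι := B × (Fin (p ^ k) × Fin p) × (Fin (p ^ k) × Fin p))
      (fun a => form β (Z a.1 a.2.1.1 a.2.1.2) (Z a.1 a.2.2.1 a.2.2.2))
      (fun a => ((a.2.1.1 : ℕ) + p ^ k * a.2.1.2) + (P - ((a.2.2.1 : ℕ) + p ^ k * a.2.2.2))) T (by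
        rw [← hT, Fintype.sum_prod_type]
        refine Finset.sum_congr rfl fun χ _ => ?_
        rw [hV, Fintype.sum_prod_type]
        refine Finset.sum_congr rfl fun a _ => Finset.sum_congr rfl fun a' _ => ?_
        congr 1
        rw [pow_add]
        congr 1
        have hinv : ∀ i, i ≤ P → ζ ^ (P - i) = conj (ζ ^ i) := by
          intro i hi
          refine mul_left_cancel₀ (pow_ne_zero i (hζ.ne_zero hP0)) ?_
          rw [← pow_add, Nat.add_sub_cancel' hi, hζ.pow_eq_one, Complex.mul_conj, Complex.normSq_eq_norm_sq, norm_pow,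
            Complex.norm_eq_one_of_pow_eq_one hζ.pow_eq_one hP0, one_pow, one_pow, Complex.ofReal_one]
        exact hinv _ (hpwlt a').le)
    rw [← hav, Fintype.sum_prod_type]
    refine Finset.sum_congr rfl fun χ _ => ?_
    have hdiv : ∀ a a' : Fin (p ^ k) × Fin p,
        (P ∣ ((a.1 : ℕ) + p ^ k * a.2) + (P - ((a'.1 : ℕ) + p ^ k * a'.2)) ↔ a = a') ∧
        (p ^ k ∣ ((a.1 : ℕ) + p ^ k * a.2) + (P - ((a'.1 : ℕ) + p ^ k * a'.2)) ↔ a.1 = a'.1) := by
      intro a a'
      have h1 := hpwlt a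
      have h2 := hpwlt a'
      constructor
      · constructor
        · rintro ⟨c, hc⟩
          have hc1 : c = 1 := by
            rcases c with _ | _ | c
            · omega
            · rfl
            · exfalso
              have : 2 * P ≤ P * (c + 1 + 1) := by rw [mul_comm]; exact Nat.mul_le_mul_left _ (by omega)
              omega
          rw [hc1, mul_one] at hc
          have e : (a.1 : ℕ) + p ^ k * a.2 = (a'.1 : ℕ) + p ^ k * a'.2 := by omega
          have e1 : (a.1 : ℕ) = a'.1 := by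
            have := congrArg (· % p ^ k) e
            simpa [Nat.add_mul_mod_self_left, Nat.mod_eq_of_lt a.1.2, Nat.mod_eq_of_lt a'.1.2] using this
          refine Prod.ext (Fin.ext e1) (Fin.ext ?_)
          exact Nat.eq_of_mul_eq_mul_left hpk (by omega)
        · rintro rfl; rw [Nat.add_sub_cancel' h1.le]
      · have hPm : ((P : ℕ) : ZMod (p ^ k)) = 0 := by
          rw [ZMod.natCast_eq_zero_iff, hP, pow_succ]; exact dvd_mul_right _ _
        rw [← ZMod.natCast_eq_zero_iff, Nat.cast_add, Nat.cast_sub h2.le, hPm]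
        simp only [Nat.cast_add, Nat.cast_mul, ZMod.natCast_self, zero_mul, add_zero, zero_sub, ← sub_eq_add_neg,
          sub_eq_zero]
        constructor
        · intro e
          rw [ZMod.natCast_eq_natCast_iff', Nat.mod_eq_of_lt a.1.2, Nat.mod_eq_of_lt a'.1.2] at e
          exact Fin.ext e
        · rintro e; rw [e]
    simp only [← hP, Fintype.sum_prod_type, (hdiv _ _).1, (hdiv _ _).2, Prod.mk.injEq, RootSums.weight]
    refine Finset.sum_congr rfl fun r _ => ?_
    have e : ∀ t : Fin p, ∑ r', ∑ t', form β (Z χ r t) (Z χ r' t') *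
        ((if r = r' ∧ t = t' then (p : ℤ) else 0) - if r = r' then 1 else 0) =
        (p : ℤ) * form β (Z χ r t) (Z χ r t) - ∑ t', form β (Z χ r t) (Z χ r t') := by
      intro t
      rw [Finset.sum_eq_single r]
      · simp only [true_and, if_true, mul_sub, Finset.sum_sub_distrib, mul_one, mul_ite, mul_zero,
          Finset.sum_ite_eq, Finset.mem_univ]
        ring
      · intro r' _ hr'
        exact Finset.sum_eq_zero fun t' _ => by simp [Ne.symm hr']
      · simp
    rw [Finset.sum_congr rfl fun t _ => e t, Finset.sum_sub_distrib, ← Finset.mul_sum]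
    simp only [map_sum, AddMonoidHom.finsetSum_apply]
    rw [Finset.sum_comm (f := fun t t' => form β (Z χ r t) (Z χ r t'))]
  -- vanishing weights
  have hzero : ∀ β : b → b → ℤ, (∀ i j, β i j = β j i) → (∀ z, 0 ≤ form β z z) →
      (∀ z, form β z z = 0 → ∀ y, form β z y = 0) → ∀ χ, RootSums.weight (form β) (Z χ) = 0 →
      ∀ ψ, V β χ ψ = 0 := by
    intro β hs hnn hker χ hw ψ
    rw [hV, Finset.sum_comm]
    refine Finset.sum_eq_zero fun a' _ => ?_
    rw [Fintype.sum_prod_type]
    refine Finset.sum_eq_zero fun r _ => ?_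
    let t0 : Fin p := ⟨0, hp.pos⟩
    have hc : ∀ t, form β (Z χ r t) (Z ψ a'.1 a'.2) = form β (Z χ r t0) (Z ψ a'.1 a'.2) := by
      intro t
      have h1 := hker _ (RootSums.eq_zero_of_weight (form β) (form_symm β hs) hnn hw r t t0) (Z ψ a'.1 a'.2)
      rw [map_sub, AddMonoidHom.sub_apply, sub_eq_zero] at h1
      exact h1
    simp only [hc, ← Finset.mul_sum, ← Finset.sum_mul]
    refine mul_eq_zero_of_right _ (mul_eq_zero_of_left ?_ _)
    simp only [pw, pow_add, ← Finset.mul_sum]
    refine mul_eq_zero_of_right _ ?_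
    have hω : IsPrimitiveRoot (ζ ^ p ^ k) p := hζ.pow (Nat.pos_of_ne_zero hP0) (by rw [hP, pow_succ])
    rw [Finset.sum_congr rfl (g := fun t : Fin p => (ζ ^ p ^ k) ^ (t : ℕ)) (fun t _ => pow_mul _ _ _),
      Fin.sum_univ_eq_sum_range (fun i => (ζ ^ p ^ k) ^ i), hω.geom_sum_eq_zero hp.one_lt]
  obtain ⟨χ₀, hχ₀B, hχ₀⟩ := exists_height_zero hM hb.2.1
  set o : B := ⟨χ₀, hχ₀B⟩ with ho
  have hne : ∀ χ : B, V m χ o ≠ 0 := fun χ => by rw [hN]; exact (contr_val hM hu hb hd χ.2 o.2 hχ₀).1
  set q := form m with hq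
  have hqs := form_symm m hsym
  have htotal : ∑ χ : B, RootSums.weight q (Z χ) = D * (blockRank p b : ℤ) * ((p : ℤ) - 1) := by
    refine htot m _ ?_
    simp only [hN]
    rw [← Finset.mul_sum, sum_contr_self hM hu hb]
    simp [hDdef]
  have hp2 : (2 : ℤ) ≤ p := by exact_mod_cast hp.two_le
  suffices h : (Nat.card B : ℤ) ≤ D by
    rw [hDdef, hd] at h; exact_mod_cast h
  rw [Nat.card_eq_fintype_card]
  have hlz : (blockRank p b : ℤ) ≤ 2 := by exact_mod_cast hl
  by_cases hone : ∃ z₀, q z₀ z₀ = 1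
  swap
  · push Not at hone
    have hμ : ∀ z, q z z ≠ 0 → 2 ≤ q z z := fun z hz => by
      have := hqnn z; have := hone z; simp only [hq] at *; omega
    have h1 : ∀ χ : B, ((p : ℤ) - 1) * 2 ≤ RootSums.weight q (Z χ) := fun χ =>
      RootSums.le_weight q hqs hqnn hqker hμ zero_le_two fun h0 => hne χ (hzero m hsym hqnn hqker χ h0 o)
    have h2 := Finset.card_nsmul_le_sum Finset.univ (fun χ => RootSums.weight q (Z χ)) _ fun χ _ => h1 χ
    rw [htotal, nsmul_eq_mul, Finset.card_univ] at h2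
    have h4 := mul_le_mul_of_nonneg_right (mul_le_mul_of_nonneg_left hlz hD.le)
      (show (0 : ℤ) ≤ (p : ℤ) - 1 by linarith)
    have h3 : ((p : ℤ) - 1) * ((Fintype.card B : ℤ) * 2) ≤ ((p : ℤ) - 1) * (D * 2) := by linarith
    linarith [le_of_mul_le_mul_left h3 (by linarith)]
  -- a vector of norm one
  obtain ⟨z₀, hz₀⟩ := hone
  set v : b → ℤ := fun i => ∑ j, m i j * z₀ j with hv
  set βa : b → b → ℤ := fun i j => v i * v j with hβa
  set βf : b → b → ℤ := fun i j => m i j - v i * v j with hβf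
  have hvz : ∀ z, ∑ i, v i * z i = q z z₀ := fun z => by
    simp only [hq, form_apply, hv, Finset.sum_mul]
    exact Finset.sum_congr rfl fun i _ => Finset.sum_congr rfl fun j _ => by ring
  have hfq : ∀ z w, form βf z w = q (z - (q z z₀) • z₀) (w - (q w z₀) • z₀) := by
    intro z w
    rw [hβf, form_sub, form_rankOne, hvz, hvz]
    simp only [map_sub, map_zsmul, AddMonoidHom.sub_apply, AddMonoidHom.smul_apply, smul_eq_mul, hz₀]
    rw [show q z₀ w = q w z₀ from hqs z₀ w]
    simp only [hq]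
    ring
  have hfs : ∀ i j, βf i j = βf j i := fun i j => by simp only [hβf]; rw [hsym]; ring
  have hfnn : ∀ z, 0 ≤ form βf z z := fun z => by rw [hfq]; exact hqnn _
  have hfker : ∀ z, form βf z z = 0 → ∀ y, form βf z y = 0 := fun z hz y => by
    rw [hfq] at hz ⊢; exact hqker _ hz _
  obtain ⟨θ₀, hθ₀, h00⟩ := exists_height_zero hM hb.1
  obtain ⟨hθ, hcong⟩ := matrix_congr hM hb.1 hm (θ := ⟨θ₀, hθ₀⟩) h00
  set θ : b := ⟨θ₀, hθ₀⟩ with hθdef
  set Q := m θ θ with hQ
  set ℓ₀ := ∑ j, m θ j * z₀ j with hℓ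
  have hfdvd : ∀ i j, (p : ℤ) ∣ βf i j := by
    have c1 : ∀ i, (p : ℤ) ∣ Q * v i - m θ i * ℓ₀ := by
      intro i
      simp only [hv, hℓ, Finset.mul_sum, ← Finset.sum_sub_distrib]
      refine Finset.dvd_sum fun j _ => ?_
      rw [show Q * (m i j * z₀ j) - m θ i * (m θ j * z₀ j) = (m i j * Q - m θ i * m θ j) * z₀ j by ring]
      exact dvd_mul_of_dvd_left (hcong i j) _
    have c2 : (p : ℤ) ∣ Q - ℓ₀ * ℓ₀ := by
      have e : Q - ℓ₀ * ℓ₀ = ∑ i, ∑ j, z₀ i * (m i j * Q - m θ i * m θ j) * z₀ j := by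
        simp only [mul_sub, sub_mul, Finset.sum_sub_distrib]
        congr 1
        · conv_lhs => rw [← mul_one Q, ← hz₀, hq, form_apply, Finset.mul_sum]
          refine Finset.sum_congr rfl fun i _ => ?_
          rw [Finset.mul_sum]
          exact Finset.sum_congr rfl fun j _ => by ring
        · rw [hℓ, Finset.sum_mul_sum]
          exact Finset.sum_congr rfl fun i _ => Finset.sum_congr rfl fun j _ => by ring
      rw [e]
      exact Finset.dvd_sum fun i _ => Finset.dvd_sum fun j _ =>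
        dvd_mul_of_dvd_left (dvd_mul_of_dvd_right (hcong i j) _) _
    intro i j
    have e : Q * Q * βf i j = Q * (m i j * Q - m θ i * m θ j) + m θ i * m θ j * (Q - ℓ₀ * ℓ₀) -
        (Q * v i - m θ i * ℓ₀) * (Q * v j) - m θ i * ℓ₀ * (Q * v j - m θ j * ℓ₀) := by
      simp only [hβf]; ring
    have h1 : (p : ℤ) ∣ Q * Q * βf i j := by
      rw [e]
      exact dvd_sub (dvd_sub (dvd_add (dvd_mul_of_dvd_right (hcong i j) _) (dvd_mul_of_dvd_right c2 _))
        (dvd_mul_of_dvd_left (c1 i) _)) (dvd_mul_of_dvd_right (c1 j) _)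
    have hpp := Nat.prime_iff_prime_int.mp hp
    exact ((hpp.dvd_or_dvd h1).resolve_left fun h => hθ ((hpp.dvd_or_dvd h).elim id id))
  -- the coordinate along the vector
  set x : B → ℂ := fun χ => ∑ η : b, (n χ (η : IrrCharacter (Subgroup.centralizer ({u} : Set G))) : ℂ) *
    pw (J η) * (v η : ℂ) with hx
  have hVa : ∀ χ ψ, V βa χ ψ = x χ * conj (x ψ) := by
    intro χ ψ
    simp only [V, hx, hβa, map_sum, Finset.sum_mul_sum]
    refine Finset.sum_congr rfl fun η _ => Finset.sum_congr rfl fun η' _ => ?_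
    simp only [map_mul, map_natCast, map_intCast, Int.cast_mul]
    ring
  have hVsplit : ∀ χ ψ, V m χ ψ = x χ * conj (x ψ) + V βf χ ψ := by
    intro χ ψ
    rw [← hVa]
    simp only [V, hβa, hβf, ← Finset.sum_add_distrib]
    exact Finset.sum_congr rfl fun η _ => Finset.sum_congr rfl fun η' _ => by push_cast; ring
  have hxtot : ∑ χ : B, V βa χ χ = (D : ℂ) := by
    set we : Subgroup.centralizer ({u} : Set G) → ℂ := ∑ η : b, (z₀ η : ℂ) •
      pRegularPart p ((η : IrrCharacter (Subgroup.centralizer ({u} : Set G))) : Subgroup.centralizer ({u} : Set G) → ℂ) with hwe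
    have hwem : we ∈ regSpan p b := Submodule.sum_mem _ fun η _ => Submodule.smul_mem _ _
      (Submodule.subset_span ⟨η, η.2, rfl⟩)
    have hprj : ∀ η η' : b, classInner (pRegularPart p ((η : IrrCharacter (Subgroup.centralizer ({u} : Set G))) : Subgroup.centralizer ({u} : Set G) → ℂ))
        (pRegularPart p ((η' : IrrCharacter (Subgroup.centralizer ({u} : Set G))) : Subgroup.centralizer ({u} : Set G) → ℂ)) =
        BC85.prj p (η : IrrCharacter (Subgroup.centralizer ({u} : Set G))) η' := by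
      intro η η'
      rw [BC85.prj_def]
      simp only [classInner]
      congr 1
      refine Finset.sum_congr rfl fun c _ => ?_
      by_cases hc : p ∣ orderOf c
      · rw [BC85.pRegularPart_neg hc, zero_mul, zero_mul]
      · rw [BC85.pRegularPart_pos hc, BC85.pRegularPart_pos hc]
    have hsect : ∀ χ : B, sectMap p u b ((χ : IrrCharacter G) : G → ℂ) = ∑ η : b,
        ((n χ (η : IrrCharacter (Subgroup.centralizer ({u} : Set G))) : ℂ) * pw (J η)) •
        pRegularPart p ((η : IrrCharacter (Subgroup.centralizer ({u} : Set G))) : Subgroup.centralizer ({u} : Set G) → ℂ) := by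
      intro χ
      rw [sectMap_eq_regPart]
      funext c
      simp only [Finset.sum_apply, Pi.smul_apply, smul_eq_mul]
      by_cases hc : p ∣ orderOf c
      · rw [BC85.pRegularPart_neg hc]
        exact (Finset.sum_eq_zero fun η _ => by rw [BC85.pRegularPart_neg hc, mul_zero]).symm
      · rw [BC85.pRegularPart_pos hc, blockPart, ← finsum_set_coe_eq_finsum_mem, finsum_eq_sum_of_fintype]
        refine Finset.sum_congr rfl fun η _ => ?_
        rw [BC85.pRegularPart_pos hc]
        congr 1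
        simp only [pw, ← hJ, ← hn]
        congr!
    have hlinL : ∀ (f : b → ℂ) (g : Subgroup.centralizer ({u} : Set G) → ℂ),
        classInner (∑ η : b, f η • pRegularPart p ((η : IrrCharacter (Subgroup.centralizer ({u} : Set G))) : Subgroup.centralizer ({u} : Set G) → ℂ)) g =
        ∑ η : b, f η * classInner (pRegularPart p ((η : IrrCharacter (Subgroup.centralizer ({u} : Set G))) : Subgroup.centralizer ({u} : Set G) → ℂ)) g := by
      intro f g
      rw [CharCore.classInner_sum_left]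
      exact Finset.sum_congr rfl fun η _ => CharCore.classInner_smul_left _ _ _
    have hxe : ∀ χ : B, x χ = (D : ℂ) * classInner (sectMap p u b ((χ : IrrCharacter G) : G → ℂ)) we := by
      intro χ
      rw [hsect, hlinL, Finset.mul_sum]
      refine Finset.sum_congr rfl fun η _ => ?_
      rw [← conj_classInner, hwe, hlinL, map_sum]
      simp only [hv, Int.cast_sum, Finset.mul_sum]
      refine Finset.sum_congr rfl fun η' _ => ?_
      rw [map_mul, map_intCast, conj_classInner, hprj]
      push_cast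
      rw [hm]
      simp only [hDdef]; push_cast; ring
    have hf := congrArg (fun f => classInner f we) (frame hM hu hb hwem)
    simp only [CharCore.classInner_sum_left, CharCore.classInner_smul_left] at hf
    have hww : (D : ℂ) * classInner we we = 1 := by
      rw [hwe, hlinL]
      have h1 : (q z₀ z₀ : ℂ) = 1 := by rw [hz₀]; norm_num
      rw [← h1, hq, form_apply, Int.cast_sum, Finset.mul_sum]
      refine Finset.sum_congr rfl fun η _ => ?_
      rw [← conj_classInner, hlinL, map_sum, Finset.mul_sum, Finset.mul_sum, Int.cast_sum]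
      refine Finset.sum_congr rfl fun η' _ => ?_
      rw [map_mul, map_intCast, conj_classInner, hprj]
      push_cast
      rw [hm]
      simp only [hDdef]; push_cast; ring
    simp only [hVa, hxe, map_mul, map_intCast, conj_classInner]
    calc ∑ χ : B, (D : ℂ) * classInner (sectMap p u b ((χ : IrrCharacter G) : G → ℂ)) we *
          ((D : ℂ) * classInner we (sectMap p u b ((χ : IrrCharacter G) : G → ℂ)))
        = (D : ℂ) * ((D : ℂ) * classInner we we) := by
          rw [← hf, Finset.mul_sum, Finset.mul_sum]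
          exact Finset.sum_congr rfl fun χ _ => by ring
      _ = (D : ℂ) := by rw [hww, mul_one]
  -- weights
  set a : B → Fin (p ^ k) → Fin p → ℤ := fun χ r t => ∑ i, v i * Z χ r t i with ha
  set wa : B → ℤ := fun χ => RootSums.weight (AddMonoidHom.mul (R := ℤ)) (a χ) with hwa
  set wf : B → ℤ := fun χ => RootSums.weight (form βf) (Z χ) with hwf
  have hwa' : ∀ χ, RootSums.weight (form βa) (Z χ) = wa χ := by
    intro χ
    simp only [hwa, RootSums.weight]
    refine Finset.sum_congr rfl fun r _ => ?_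
    have hL : ∑ i, v i * (∑ t, Z χ r t) i = ∑ t, a χ r t := by
      simp only [ha, Finset.sum_apply, Finset.mul_sum]
      exact Finset.sum_comm
    simp only [hβa, form_rankOne, hL]
    rfl
  have hsa : ∑ χ, wa χ = D * ((p : ℤ) - 1) := by
    rw [← htot βa D hxtot]
    exact Finset.sum_congr rfl fun χ _ => (hwa' χ).symm
  have hsf : ∑ χ, wf χ ≤ D * ((p : ℤ) - 1) := by
    have h1 : ∑ χ : B, V βf χ χ = ((D * (blockRank p b : ℤ) - D : ℤ) : ℂ) := by
      have h2 : ∑ χ : B, V m χ χ = ((D * (blockRank p b : ℤ) : ℤ) : ℂ) := by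
        simp only [hN]; rw [← Finset.mul_sum, sum_contr_self hM hu hb]; simp [hDdef]
      push_cast at h2 ⊢
      rw [← h2, ← hxtot, ← Finset.sum_sub_distrib]
      exact Finset.sum_congr rfl fun χ _ => by rw [hVsplit, hVa]; ring
    simp only [hwf]
    rw [htot βf _ h1]
    refine mul_le_mul_of_nonneg_right ?_ (by linarith)
    nlinarith
  have hwa_nn : ∀ χ, 0 ≤ wa χ := fun χ =>
    RootSums.weight_nonneg (AddMonoidHom.mul (R := ℤ)) (fun x y => mul_comm x y) (fun x => mul_self_nonneg x) _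
  have hwf_nn : ∀ χ, 0 ≤ wf χ := fun χ => RootSums.weight_nonneg _ (form_symm βf hfs) hfnn _
  have hx0 : ∀ χ, wa χ = 0 → x χ * conj (x o) = 0 := by
    intro χ h
    rw [← hVa]
    refine hzero βa (fun i j => mul_comm _ _) (fun z => ?_) (fun z hz y => ?_) χ ((hwa' χ).trans h) o
    · rw [hβa, form_rankOne]; exact mul_self_nonneg _
    · rw [hβa, form_rankOne, mul_self_eq_zero] at hz
      rw [hβa, form_rankOne, hz, zero_mul]
  have hwa1 : ∀ χ, wa χ ≠ 0 → ((p : ℤ) - 1) * 1 ≤ wa χ := fun χ h => by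
    refine RootSums.le_weight (AddMonoidHom.mul (R := ℤ)) (fun x y => mul_comm x y) (fun x => mul_self_nonneg x)
      (fun x hx y => ?_) (fun x hx => ?_) zero_le_one h
    · rw [show AddMonoidHom.mul x x = x * x from rfl, mul_self_eq_zero] at hx
      subst hx; simp
    · rw [show AddMonoidHom.mul x x = x * x from rfl] at hx ⊢
      nlinarith [mul_self_nonneg x, lt_of_le_of_ne (mul_self_nonneg x) (Ne.symm hx)]
  have hwfp : ∀ χ, wf χ ≠ 0 → ((p : ℤ) - 1) * p ≤ wf χ := fun χ h => by
    refine RootSums.le_weight (form βf) (form_symm βf hfs) hfnn hfker (fun z hz => ?_) (by linarith) h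
    refine Int.le_of_dvd (lt_of_le_of_ne (hfnn z) (Ne.symm hz)) ?_
    rw [form_apply]
    exact Finset.dvd_sum fun i _ => Finset.dvd_sum fun j _ => dvd_mul_of_dvd_left (dvd_mul_of_dvd_right (hfdvd i j) _) _
  by_cases hno : ∀ χ, wa χ ≠ 0
  · have h2 := Finset.card_nsmul_le_sum Finset.univ wa _ fun χ _ => hwa1 χ (hno χ)
    rw [hsa, nsmul_eq_mul, Finset.card_univ] at h2
    exact le_of_mul_le_mul_left (by linarith : ((p : ℤ) - 1) * (Fintype.card B : ℤ) ≤ ((p : ℤ) - 1) * D) (by linarith)
  push Not at hno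
  obtain ⟨e, he⟩ := hno
  have hYI : ∀ χ ψ : B, MemLocalIdeal M (V βf χ ψ) := by
    intro χ ψ
    refine memLocalIdeal_sum fun η _ => memLocalIdeal_sum fun η' _ => ?_
    refine memLocalIdeal_mul_left ?_ ((memLocalIdeal_intCast_iff hM _).mpr (hfdvd η η'))
    refine memLocalRing_of_isIntegral ?_
    have hi : ∀ (N : ℕ) (i : ℕ), IsIntegral ℤ ((N : ℂ) * ζ ^ i) := fun N i =>
      IsIntegral.mul (isIntegral_natCast N) (IsIntegral.pow (hζ.isIntegral (Nat.pos_of_ne_zero hP0)) i)
    exact IsIntegral.mul (hi _ _) ((hi _ _).map (starRingEnd ℂ).toIntAlgHom)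
  have hxloc : ∀ χ, IsIntegral ℤ (x χ) := fun χ => IsIntegral.sum _ fun η _ =>
    IsIntegral.mul (IsIntegral.mul (isIntegral_natCast _)
      (IsIntegral.pow (hζ.isIntegral (Nat.pos_of_ne_zero hP0)) _))
      (by simpa using (isIntegral_algebraMap (R := ℤ) (A := ℂ) (x := v η)))
  have hxo : ¬ MemLocalIdeal M (conj (x o)) := by
    intro h
    have h1 := memLocalIdeal_add (memLocalIdeal_mul_left (memLocalRing_of_isIntegral (hxloc o) (M := M)) h) (hYI o o)
    rw [← hVsplit, hN] at h1
    exact contr_self_unit hM hu hb hχ₀B hχ₀ h1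
  have hbig : ∀ χ, wf χ = 0 → (p : ℤ) ≤ wa χ := by
    intro χ hf
    have hY : ∀ ψ, V βf χ ψ = 0 := hzero βf hfs hfnn hfker χ hf
    have hane : wa χ ≠ 0 := fun h => hne χ (by rw [hVsplit, hY, hx0 χ h, add_zero])
    have hxe : x e = 0 := by
      rcases mul_eq_zero.mp (hx0 e he) with h | h
      · exact h
      · exact absurd (h ▸ memLocalIdeal_zero) hxo
    have hh : blockHeight p B ((χ : IrrCharacter G) : G → ℂ) ≠ 0 := by
      intro h0
      refine (contr_val hM hu hb hd e.2 χ.2 h0).1 ?_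
      rw [← hN, hVsplit, hxe, zero_mul, zero_add]
      have hconj : V βf e χ = conj (V βf χ e) := by
        simp only [V, map_sum]
        rw [Finset.sum_comm]
        refine Finset.sum_congr rfl fun η _ => Finset.sum_congr rfl fun η' _ => ?_
        simp only [map_mul, map_natCast, map_intCast, Complex.conj_conj]
        rw [hfs η η']; ring
      rw [hconj, hY, map_zero]
    have hI := (contr_val hM hu hb hd χ.2 o.2 hχ₀).2 hh
    rw [← hN, hVsplit, hY, add_zero] at hI
    have hxI := (memLocalIdeal_mem_or_mem (memLocalRing_of_isIntegral (hxloc χ))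
      (memLocalRing_of_isIntegral ((hxloc o).map (starRingEnd ℂ).toIntAlgHom)) hI).resolve_right hxo
    refine RootSums.int_le_weight hp.two_le (a χ) ?_ hane
    rw [← memLocalIdeal_intCast_iff hM]
    have e1 : (∑ r, ∑ t, a χ r t : ℤ) = ∑ η : b, (n χ (η : IrrCharacter (Subgroup.centralizer ({u} : Set G))) : ℤ) * v η := by
      simp only [ha]
      rw [← Fintype.sum_prod_type', Finset.sum_comm]
      refine Finset.sum_congr rfl fun η _ => ?_
      rw [Finset.sum_eq_single (J η)]
      · simp only [Z, Prod.mk.eta, if_true]; ring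
      · intro c _ hc; simp only [Z, Prod.mk.eta]; rw [if_neg (Ne.symm hc), mul_zero]
      · simp
    rw [e1, Int.cast_sum]
    have h2 : MemLocalIdeal M (x χ - ∑ η : b, (((n χ (η : IrrCharacter (Subgroup.centralizer ({u} : Set G))) : ℤ) * v η : ℤ) : ℂ)) := by
      rw [hx, ← Finset.sum_sub_distrib]
      refine memLocalIdeal_sum fun η _ => ?_
      rw [show (n χ (η : IrrCharacter (Subgroup.centralizer ({u} : Set G))) : ℂ) * pw (J η) * (v η : ℂ) -
        (((n χ (η : IrrCharacter (Subgroup.centralizer ({u} : Set G))) : ℤ) * v η : ℤ) : ℂ) =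
        (((n χ (η : IrrCharacter (Subgroup.centralizer ({u} : Set G))) : ℤ) * v η : ℤ) : ℂ) * (pw (J η) - 1) by
          push_cast; ring]
      refine memLocalIdeal_mul_left (memLocalRing_intCast _) (memLocalIdeal_sub_one_of_pow hM (k := k + 1) ?_)
      show (ζ ^ _) ^ P = 1
      rw [← pow_mul, mul_comm, pow_mul, hζ.pow_eq_one, one_pow]
    have h3 := memLocalIdeal_sub hxI h2
    rwa [sub_sub_cancel] at h3
  -- count
  set F : Finset B := Finset.univ.filter (fun χ => wf χ ≠ 0) with hF
  have h1 : ((p : ℤ) - 1) * p * F.card ≤ D * ((p : ℤ) - 1) := by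
    refine le_trans ?_ hsf
    refine le_trans ?_ (Finset.sum_le_sum_of_subset_of_nonneg (Finset.subset_univ F) fun χ _ _ => hwf_nn χ)
    have := Finset.card_nsmul_le_sum F wf _ fun χ hχ => hwfp χ (Finset.mem_filter.mp hχ).2
    rw [nsmul_eq_mul] at this
    linarith
  have h2 : (p : ℤ) * (Finset.univ \ F).card ≤ D * ((p : ℤ) - 1) := by
    refine le_trans ?_ hsa.le
    refine le_trans ?_ (Finset.sum_le_sum_of_subset_of_nonneg (Finset.subset_univ (Finset.univ \ F)) fun χ _ _ => hwa_nn χ)
    have := Finset.card_nsmul_le_sum (Finset.univ \ F) wa (p : ℤ) fun χ hχ => hbig χ (by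
      simpa [hF] using (Finset.mem_sdiff.mp hχ).2)
    rw [nsmul_eq_mul] at this
    linarith
  have h3 : (p : ℤ) * F.card ≤ D := le_of_mul_le_mul_left (by linarith : ((p : ℤ) - 1) * ((p : ℤ) * F.card) ≤ ((p : ℤ) - 1) * D) (by linarith)
  have h4 : ((Finset.univ \ F).card : ℤ) + F.card = Fintype.card B := by
    rw [← Nat.cast_add, Finset.card_sdiff_of_subset (Finset.subset_univ F), Finset.card_univ,
      Nat.sub_add_cancel (Finset.card_le_univ F)]
  exact le_of_mul_le_mul_left (by rw [← h4]; linarith : (p : ℤ) * (Fintype.card B : ℤ) ≤ (p : ℤ) * D) (by linarith)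

end Cfsg.Agent.BC84.RankTwo
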