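import Cfsg.Agent.Lib.BlocksCore.Ring
import Cfsg.Agent.Lib.BlocksDefect.Basic
import Cfsg.Agent.Lib.CharClifford.Galois
import Mathlib.GroupTheory.Perm.Cycle.Type
import Mathlib.Algebra.CharP.Reduced

/-!
# Orbit products of class sums in characteristic two

If a power map `g ↦ g ^ k` whose orbits on classes have two-power length leaves the central
characters of `χ` and `ψ` invariant modulo `M`, and these agree modulo `M` on the fixed classes,
then `χ` and `ψ` lie in one 2-block: the product of the conjugates of a class sum is fixed.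
-/

set_option autoImplicit false
set_option linter.unusedSectionVars false

namespace Cfsg.Agent.BC84

open BlocksCore

variable {M : Ideal AlgInt}

/-- A sum whose summand is invariant modulo `M` under a map of two-power period reduces to the
sum over the fixed points. -/
theorem sum_congr_fixed (hM : IsPModular 2 M) {α : Type*} [Fintype α] [DecidableEq α]
    (τ : α → α) {s : ℕ} (hτ : τ^[2 ^ s] = id) (d : α → ℂ) (hd : ∀ a, MemLocalRing M (d a))
    (hinv : ∀ a, MemLocalIdeal M (d (τ a) - d a)) :
    MemLocalIdeal M (∑ a, d a - ∑ a ∈ Finset.univ.filter (fun a => τ a = a), d a) := by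
  classical
  have := isPrime hM
  have := charP_residue hM
  have := Fact.mk Nat.prime_two
  let q := Ideal.Quotient.mk (localIdeal M)
  let D : α → localRing M ⧸ localIdeal M := fun a => q ⟨d a, hd a⟩
  have hD : ∀ a, D (τ a) = D a := fun a => Ideal.Quotient.eq.mpr (hinv a)
  rw [← Finset.sum_filter_add_sum_filter_not Finset.univ (fun a => τ a = a), add_sub_cancel_left]
  set S := Finset.univ.filter (fun a => ¬ τ a = a) with hS
  suffices h : ∑ a ∈ S, D a = 0 by
    have h' : q (∑ a ∈ S, ⟨d a, hd a⟩) = 0 := by rw [map_sum]; exact h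
    have h2 : MemLocalIdeal M (((∑ a ∈ S, (⟨d a, hd a⟩ : localRing M)) : localRing M) : ℂ) :=
      Ideal.Quotient.eq_zero_iff_mem.mp h'
    simpa using h2
  rw [← Finset.sum_fiberwise_of_maps_to (t := S.image D) (g := D) (fun a ha => Finset.mem_image_of_mem D ha)]
  refine Finset.sum_eq_zero fun v _ => ?_
  rw [Finset.sum_congr rfl (fun a ha => (Finset.mem_filter.mp ha).2), Finset.sum_const,
    nsmul_eq_mul]
  refine mul_eq_zero_of_left ?_ v
  rw [CharP.cast_eq_zero_iff (localRing M ⧸ localIdeal M) 2]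
  let T : Finset α := S.filter (fun a => D a = v)
  have hT : ∀ a, a ∈ T → τ a ∈ T := by
    intro a ha
    obtain ⟨h1, h2⟩ := Finset.mem_filter.mp ha
    refine Finset.mem_filter.mpr ⟨Finset.mem_filter.mpr ⟨Finset.mem_univ _, fun h => ?_⟩, ?_⟩
    · have hne := (Finset.mem_filter.mp h1).2
      apply hne
      have h3 : ∀ m, τ^[m] (τ a) = τ a := fun m => Function.iterate_fixed h m
      have h4 := h3 (2 ^ s - 1)
      have h5 : τ^[2 ^ s - 1] (τ a) = a := by
        rw [← Function.iterate_succ_apply, Nat.succ_eq_add_one,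
          Nat.sub_add_cancel Nat.one_le_two_pow, hτ, id_eq]
      exact h4.symm.trans h5
    · rw [hD, h2]
  let f : Function.End T := fun a => ⟨τ a, hT a a.2⟩
  have hpow : ∀ (m : ℕ) (a : T), (((f ^ m : Function.End T) a : T) : α) = τ^[m] (a : α) := by
    intro m
    induction m with
    | zero => intro a; rfl
    | succ m ih =>
      intro a
      rw [pow_succ', Function.iterate_succ_apply', ← ih a]
      rfl
  have hf : (f ^ (2 ^ s) : Function.End T) = 1 := funext fun a => Subtype.ext (by
    rw [hpow, hτ]; rfl)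
  have hmod := Equiv.Perm.card_fixedPoints_modEq hf
  have hzero : Fintype.card (Function.fixedPoints f) = 0 :=
    Fintype.card_eq_zero_iff.mpr ⟨fun a => by
      have h : f a.1 = a.1 := a.2
      exact (Finset.mem_filter.mp (Finset.mem_filter.mp a.1.2).1).2 (congrArg Subtype.val h)⟩
  rw [hzero] at hmod
  have : 2 ∣ Fintype.card T := Nat.modEq_zero_iff_dvd.mp hmod
  rwa [Fintype.card_coe] at this

variable {G : Type*} [Group G] [Fintype G]

/-- Natural number valued class function. -/
def IsNatClassFun (a : G → ℂ) : Prop :=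
  IsClassFunction G a ∧ ∀ g, ∃ n : ℕ, a g = n

theorem isNatClassFun_classInd (g : G) : IsNatClassFun (classInd g) := by
  refine ⟨isClassFunction_classInd g, fun x => ?_⟩
  by_cases h : IsConj g x
  · exact ⟨1, by simp [classInd_apply_of_isConj h]⟩
  · exact ⟨0, by simp [classInd_apply_of_not_isConj h]⟩

theorem isNatClassFun_conv {a b : G → ℂ} (ha : IsNatClassFun a) (hb : IsNatClassFun b) :
    IsNatClassFun (conv a b) := by
  refine ⟨isClassFunction_conv ha.1 hb.1, fun g => ?_⟩
  choose u hu using ha.2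
  choose v hv using hb.2
  exact ⟨∑ y, u y * v (y⁻¹ * g), by rw [conv_apply]; push_cast; simp [hu, hv]⟩

theorem isNatClassFun_comp_pow {a : G → ℂ} (ha : IsNatClassFun a) (k : ℕ) :
    IsNatClassFun (fun g => a (g ^ k)) := by
  refine ⟨fun g h => ?_, fun g => ha.2 _⟩
  show a ((h * g * h⁻¹) ^ k) = a (g ^ k)
  rw [conj_pow]; exact ha.1 _ h

theorem IsNatClassFun.memLocalRing [M.IsPrime] {a : G → ℂ} (ha : IsNatClassFun a) (g : G) :
    MemLocalRing M (a g) := by
  obtain ⟨n, hn⟩ := ha.2 g
  rw [hn]; exact memLocalRing_natCast n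

/-- A power map acts on central characters through a field embedding. -/
theorem exists_ringHom_omega {k : ℕ} (hk : k.Coprime (Nat.card G)) :
    ∃ σ : ℂ →+* ℂ, ∀ (χ : IrrCharacter G) (a : G → ℂ), IsNatClassFun a →
      omega (χ : G → ℂ) (fun g => a (g ^ k)) = σ (omega (χ : G → ℂ) a) := by
  obtain ⟨l, hl⟩ : ∃ l, (k * l) % Nat.card G = 1 % Nat.card G := by
    rcases Nat.eq_or_lt_of_le (Nat.one_le_iff_ne_zero.mpr (Nat.card_pos (α := G)).ne') with h | h
    · exact ⟨0, by rw [← h]; simp [Nat.mod_one]⟩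
    · obtain ⟨l, -, hl⟩ := Nat.exists_mul_mod_eq_one_of_coprime hk h
      exact ⟨l, by rw [hl, Nat.mod_eq_of_lt h]⟩
  have hkl : ∀ g : G, (g ^ k) ^ l = g := fun g => by
    have h1 : (k * l) % orderOf g = 1 % orderOf g := by
      have := Nat.ModEq.of_dvd (orderOf_dvd_natCard g) (show k * l ≡ 1 [MOD Nat.card G] from hl)
      exact this
    rw [← pow_mul, ← pow_mod_orderOf, h1, pow_mod_orderOf, pow_one]
  have hlc : l.Coprime (Nat.card G) := by
    have h := Nat.ModEq.gcd_eq (show k * l ≡ 1 [MOD Nat.card G] from hl)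
    rw [Nat.gcd_one_left] at h
    exact Nat.Coprime.coprime_mul_left (Nat.coprime_iff_gcd_eq_one.mpr h)
  obtain ⟨σ, hσ⟩ := CharClifford.exists_ringHom_map_isCharacter (G := G) hlc
  refine ⟨σ, fun χ a ha => ?_⟩
  have hχ := hσ _ (CharClifford.isCharacter_of_isIrrCharacter χ.2)
  rw [omega_eq_sum, omega_eq_sum, map_div₀, map_sum, hχ, one_pow]
  congr 1
  refine Fintype.sum_bijective (fun g : G => g ^ k) (CharClifford.bijective_pow_of_coprime hk) _ _ ?_
  intro g
  obtain ⟨n, hn⟩ := ha.2 (g ^ k)
  rw [map_mul, hχ, hkl, hn, map_natCast]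

/-- The product of the first `n` translates of `a` under `g ↦ g ^ k`. -/
noncomputable def orbitProd (k : ℕ) (a : G → ℂ) : ℕ → G → ℂ
  | 0 => classInd 1
  | n + 1 => conv a (fun g => orbitProd k a n (g ^ k))

theorem isNatClassFun_orbitProd {a : G → ℂ} (ha : IsNatClassFun a) (k n : ℕ) :
    IsNatClassFun (orbitProd k a n) := by
  induction n with
  | zero => exact isNatClassFun_classInd 1
  | succ n ih => exact isNatClassFun_conv ha (isNatClassFun_comp_pow ih k)

theorem omega_orbitProd {k : ℕ} (hk : k.Coprime (Nat.card G)) (χ : IrrCharacter G) {a : G → ℂ}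
    (ha : IsNatClassFun a) (n : ℕ) :
    omega (χ : G → ℂ) (orbitProd k a n) =
      ∏ i ∈ Finset.range n, omega (χ : G → ℂ) (fun g => a (g ^ k ^ i)) := by
  obtain ⟨σ, hσ⟩ := exists_ringHom_omega (G := G) hk
  induction n with
  | zero => rw [Finset.range_zero, Finset.prod_empty]; exact omega_classInd_one χ
  | succ n ih =>
    show omega (χ : G → ℂ) (conv a _) = _
    rw [omega_conv χ ha.1 (isNatClassFun_comp_pow (isNatClassFun_orbitProd ha k n) k).1,
      hσ χ _ (isNatClassFun_orbitProd ha k n), ih, Finset.prod_range_succ', map_prod, mul_comm]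
    simp only [pow_zero, pow_one]
    congr 1
    refine Finset.prod_congr rfl fun i _ => ?_
    rw [← hσ χ _ (isNatClassFun_comp_pow ha _)]
    simp only [← pow_mul, pow_succ']

theorem centralizer_pow_of_coprime {k : ℕ} (hk : k.Coprime (Nat.card G)) (g : G) :
    Subgroup.centralizer ({g ^ k} : Set G) = Subgroup.centralizer ({g} : Set G) := by
  ext x
  simp only [Subgroup.mem_centralizer_singleton_iff]
  refine ⟨fun h => ?_, fun h => (Commute.pow_right (h : Commute x g) k).eq⟩
  obtain ⟨l, hl⟩ := exists_pow_eq_self_of_coprime (Nat.Coprime.coprime_dvd_right (orderOf_dvd_natCard g) hk)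
  rw [← hl]
  exact (Commute.pow_right (h : Commute x (g ^ k)) l).eq

theorem omega_congr_of_agree {χ ψ : IrrCharacter G} {s : ℕ} (hM : IsPModular 2 M) {k : ℕ}
    (hper : ∀ g : G, IsConj (g ^ k ^ (2 ^ s)) g)
    (hχ : ∀ g : G, MemLocalIdeal M (centralChar (χ : G → ℂ) (g ^ k) - centralChar (χ : G → ℂ) g))
    (hψ : ∀ g : G, MemLocalIdeal M (centralChar (ψ : G → ℂ) (g ^ k) - centralChar (ψ : G → ℂ) g))
    (hfix : ∀ g : G, IsConj g (g ^ k) →
      MemLocalIdeal M (centralChar (χ : G → ℂ) g - centralChar (ψ : G → ℂ) g))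
    {z : G → ℂ} (hz : IsNatClassFun z) (hzk : ∀ g, z (g ^ k) = z g) :
    MemLocalIdeal M (omega (χ : G → ℂ) z - omega (ψ : G → ℂ) z) := by
  classical
  have := isPrime hM
  have : Finite (ConjClasses G) := Quotient.finite _
  have := Fintype.ofFinite (ConjClasses G)
  rw [BlocksDefect.omega_eq_sum_classes χ hz.1, BlocksDefect.omega_eq_sum_classes ψ hz.1,
    ← Finset.sum_sub_distrib]
  simp only [← mul_sub]
  let τ : ConjClasses G → ConjClasses G := fun C => ConjClasses.mk (Quotient.out C ^ k)
  have hout : ∀ g : G, IsConj g (Quotient.out (ConjClasses.mk g)) := fun g =>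
    (ConjClasses.mk_eq_mk_iff_isConj.mp (Quotient.out_eq (ConjClasses.mk g))).symm
  have hiter : ∀ (n : ℕ) (C : ConjClasses G), τ^[n] C = ConjClasses.mk (Quotient.out C ^ k ^ n) := by
    intro n
    induction n with
    | zero => intro C; simp only [Function.iterate_zero, id_eq, pow_zero, pow_one]; exact (Quotient.out_eq C).symm
    | succ n ih =>
      intro C
      rw [Function.iterate_succ_apply', ih]
      apply ConjClasses.mk_eq_mk_iff_isConj.mpr
      rw [pow_succ, pow_mul]
      exact ((hout _).pow k).symm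
  have hτ : τ^[2 ^ s] = id := funext fun C => by
    rw [hiter, id_eq]
    conv_rhs => rw [← Quotient.out_eq C]
    exact ConjClasses.mk_eq_mk_iff_isConj.mpr (hper _)
  set d : ConjClasses G → ℂ := fun C => z (Quotient.out C) *
    (centralChar (χ : G → ℂ) (Quotient.out C) - centralChar (ψ : G → ℂ) (Quotient.out C)) with hd
  have hdR : ∀ C, MemLocalRing M (d C) := fun C => (localRing M).mul_mem (hz.memLocalRing _)
    ((localRing M).sub_mem (centralChar_memLocalRing χ _) (centralChar_memLocalRing ψ _))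
  have hinv : ∀ C, MemLocalIdeal M (d (τ C) - d C) := by
    intro C
    have hc : IsConj (Quotient.out C ^ k) (Quotient.out (τ C)) := hout _
    have e : ∀ φ : IrrCharacter G, centralChar (φ : G → ℂ) (Quotient.out (τ C)) =
        centralChar (φ : G → ℂ) (Quotient.out C ^ k) := fun φ => by
      rw [← omega_classInd (irr_class φ), ← omega_classInd (irr_class φ)]
      congr 1
      funext x
      by_cases h : IsConj (Quotient.out C ^ k) x
      · rw [classInd_apply_of_isConj h, classInd_apply_of_isConj (hc.symm.trans h)]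
      · rw [classInd_apply_of_not_isConj h, classInd_apply_of_not_isConj fun h' => h (hc.trans h')]
    have ez : z (Quotient.out (τ C)) = z (Quotient.out C) := by
      obtain ⟨c, hc'⟩ := isConj_iff.mp hc
      rw [← hc', hz.1, hzk]
    simp only [hd, e, ez, ← mul_sub]
    refine memLocalIdeal_mul_left (hz.memLocalRing _) ?_
    have := memLocalIdeal_sub (hχ (Quotient.out C)) (hψ (Quotient.out C))
    convert this using 1
    ring
  have h1 := sum_congr_fixed hM τ hτ d hdR hinv
  have h2 : MemLocalIdeal M (∑ C ∈ Finset.univ.filter (fun C => τ C = C), d C) := by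
    refine memLocalIdeal_sum fun C hC => memLocalIdeal_mul_left (hz.memLocalRing _) (hfix _ ?_)
    have h := (Finset.mem_filter.mp hC).2
    conv_rhs at h => rw [← Quotient.out_eq C]
    exact (ConjClasses.mk_eq_mk_iff_isConj.mp h).symm
  simpa using memLocalIdeal_add h1 h2

/-- Invariance of central characters under a power map passes to class functions. -/
theorem omega_comp_pow_congr (hM : IsPModular 2 M) {k : ℕ} (hk : k.Coprime (Nat.card G))
    (φ : IrrCharacter G)
    (hφ : ∀ x : G, MemLocalIdeal M (centralChar (φ : G → ℂ) (x ^ k) - centralChar (φ : G → ℂ) x))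
    {b : G → ℂ} (hb : IsNatClassFun b) :
    MemLocalIdeal M (omega (φ : G → ℂ) (fun x => b (x ^ k)) - omega (φ : G → ℂ) b) := by
  classical
  have := isPrime hM
  have : Finite (ConjClasses G) := Quotient.finite _
  have := Fintype.ofFinite (ConjClasses G)
  rw [BlocksDefect.omega_eq_sum_classes φ (isNatClassFun_comp_pow hb k).1,
    BlocksDefect.omega_eq_sum_classes φ hb.1]
  let τ : ConjClasses G → ConjClasses G := fun C => ConjClasses.mk (Quotient.out C ^ k)
  have hout : ∀ g : G, IsConj g (Quotient.out (ConjClasses.mk g)) := fun g =>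
    (ConjClasses.mk_eq_mk_iff_isConj.mp (Quotient.out_eq (ConjClasses.mk g))).symm
  have hsurj : Function.Surjective τ := fun C => by
    obtain ⟨x, hx⟩ := (CharClifford.bijective_pow_of_coprime hk).2 (Quotient.out C)
    refine ⟨ConjClasses.mk x, ?_⟩
    conv_rhs => rw [← Quotient.out_eq C, ← hx]
    exact ConjClasses.mk_eq_mk_iff_isConj.mpr ((hout x).pow k).symm
  let e := Equiv.ofBijective τ (Finite.surjective_iff_bijective.mp hsurj)
  rw [← e.sum_comp (fun C => b (Quotient.out C) * centralChar (φ : G → ℂ) (Quotient.out C)),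
    ← Finset.sum_sub_distrib]
  refine memLocalIdeal_sum fun C _ => ?_
  show MemLocalIdeal M (_ - b (Quotient.out (τ C)) * centralChar _ (Quotient.out (τ C)))
  have hc : IsConj (Quotient.out C ^ k) (Quotient.out (τ C)) := hout _
  obtain ⟨c, hc'⟩ := isConj_iff.mp hc
  have e1 : centralChar (φ : G → ℂ) (Quotient.out (τ C)) =
      centralChar (φ : G → ℂ) (Quotient.out C ^ k) := by
    rw [← omega_classInd (irr_class φ), ← omega_classInd (irr_class φ)]
    congr 1
    funext x
    by_cases h : IsConj (Quotient.out C ^ k) x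
    · rw [classInd_apply_of_isConj h, classInd_apply_of_isConj (hc.symm.trans h)]
    · rw [classInd_apply_of_not_isConj h, classInd_apply_of_not_isConj fun h' => h (hc.trans h')]
  rw [← hc', hb.1, hc', e1, ← mul_sub, ← neg_sub (centralChar (φ : G → ℂ) (Quotient.out C ^ k)),
    mul_neg]
  exact memLocalIdeal_neg (memLocalIdeal_mul_left (hb.memLocalRing _) (hφ _))

/-- The criterion. -/
theorem sameBlock_of_fixed_classes (hM : IsPModular 2 M) {k s : ℕ} (hk : k.Coprime (Nat.card G))
    (hper : ∀ g : G, IsConj (g ^ k ^ (2 ^ s)) g) (χ ψ : IrrCharacter G)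
    (hχ : ∀ g : G, MemLocalIdeal M (centralChar (χ : G → ℂ) (g ^ k) - centralChar (χ : G → ℂ) g))
    (hψ : ∀ g : G, MemLocalIdeal M (centralChar (ψ : G → ℂ) (g ^ k) - centralChar (ψ : G → ℂ) g))
    (hfix : ∀ g : G, IsConj g (g ^ k) →
      MemLocalIdeal M (centralChar (χ : G → ℂ) g - centralChar (ψ : G → ℂ) g)) :
    SameBlock M (χ : G → ℂ) (ψ : G → ℂ) := by
  classical
  have := isPrime hM
  have := charP_residue hM
  have := Fact.mk Nat.prime_two
  intro g
  set a := classInd g with hadef
  have ha : IsNatClassFun a := isNatClassFun_classInd g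
  set z := orbitProd k a (2 ^ s) with hzdef
  have hz : IsNatClassFun z := isNatClassFun_orbitProd ha k _
  obtain ⟨σ, hσ⟩ := exists_ringHom_omega (G := G) hk
  have hzk : ∀ x, z (x ^ k) = z x := by
    refine fun x => congrFun (eq_of_omega_eq (isNatClassFun_comp_pow hz k).1 hz.1 fun φ => ?_) x
    rw [hσ φ z hz, hzdef, omega_orbitProd hk φ ha, map_prod]
    have hshift : ∀ i, σ (omega (φ : G → ℂ) (fun x => a (x ^ k ^ i))) =
        omega (φ : G → ℂ) (fun x => a (x ^ k ^ (i + 1))) := fun i => by
      rw [← hσ φ _ (isNatClassFun_comp_pow ha _)]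
      simp only [← pow_mul, pow_succ']
    simp only [hshift]
    have hper' : omega (φ : G → ℂ) (fun x => a (x ^ k ^ (2 ^ s))) = omega (φ : G → ℂ) (fun x => a (x ^ k ^ 0)) := by
      congr 1
      funext x
      obtain ⟨c, hc⟩ := isConj_iff.mp (hper x).symm
      rw [pow_zero, pow_one, ← hc, ha.1]
    obtain ⟨n, hn⟩ : ∃ n, 2 ^ s = n + 1 := ⟨2 ^ s - 1, (Nat.sub_add_cancel Nat.one_le_two_pow).symm⟩
    rw [hn] at hper' ⊢
    rw [Finset.prod_range_succ, Finset.prod_range_succ' (n := n), hper']
  let q := Ideal.Quotient.mk (localIdeal M)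
  have key : ∀ φ : IrrCharacter G,
      (∀ x : G, MemLocalIdeal M (centralChar (φ : G → ℂ) (x ^ k) - centralChar (φ : G → ℂ) x)) →
      ∀ hzR : MemLocalRing M (omega (φ : G → ℂ) z), ∀ haR : MemLocalRing M (omega (φ : G → ℂ) a),
        q ⟨_, hzR⟩ = q ⟨_, haR⟩ ^ (2 ^ s) := by
    intro φ hφ hzR haR
    have hloc : ∀ b : G → ℂ, IsNatClassFun b → MemLocalRing M (omega (φ : G → ℂ) b) := fun b hb =>
      omega_memLocalRing φ ⟨hb.1, fun x => hb.memLocalRing x⟩
    have hstep : ∀ i : ℕ, q ⟨_, hloc _ (isNatClassFun_comp_pow ha (k ^ i))⟩ = q ⟨_, haR⟩ := by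
      intro i
      induction i with
      | zero => congr 1; apply Subtype.ext; simp
      | succ i ih =>
        rw [← ih]
        refine Ideal.Quotient.eq.mpr ?_
        show MemLocalIdeal M (_ - _)
        have h := omega_comp_pow_congr hM hk φ hφ (isNatClassFun_comp_pow ha (k ^ i))
        convert h using 3
        funext x
        simp only [← pow_mul, pow_succ']
    have hprod : (⟨_, hzR⟩ : localRing M) = ∏ i ∈ Finset.range (2 ^ s),
        (⟨_, hloc _ (isNatClassFun_comp_pow ha (k ^ i))⟩ : localRing M) := by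
      apply Subtype.ext
      push_cast
      exact omega_orbitProd hk φ ha _
    rw [hprod, map_prod, Finset.prod_congr rfl (fun i _ => hstep i), Finset.prod_const,
      Finset.card_range]
  have hR : ∀ (φ : IrrCharacter G) (b : G → ℂ), IsNatClassFun b → MemLocalRing M (omega (φ : G → ℂ) b) :=
    fun φ b hb => omega_memLocalRing φ ⟨hb.1, fun x => hb.memLocalRing x⟩
  have hz' : q ⟨_, hR χ z hz⟩ = q ⟨_, hR ψ z hz⟩ :=
    Ideal.Quotient.eq.mpr (omega_congr_of_agree hM hper hχ hψ hfix hz hzk)
  rw [key χ hχ _ (hR χ a ha), key ψ hψ _ (hR ψ a ha)] at hz'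
  have h2 : q (((⟨_, hR χ a ha⟩ : localRing M) - ⟨_, hR ψ a ha⟩) ^ (2 ^ s)) = 0 := by
    rw [map_pow, map_sub, sub_pow_char_pow, hz', sub_self]
  have h3 : MemLocalIdeal M ((omega (χ : G → ℂ) a - omega (ψ : G → ℂ) a) ^ (2 ^ s)) := by
    simpa [localIdeal] using Ideal.Quotient.eq_zero_iff_mem.mp h2
  rw [memLocalIdeal_pow_iff ((localRing M).sub_mem (hR χ a ha) (hR ψ a ha)) (pow_ne_zero s two_ne_zero),
    hadef, omega_classInd (irr_class χ), omega_classInd (irr_class ψ)] at h3
  exact h3

end Cfsg.Agent.BC84
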