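import Cfsg.Agent.BC84.Isomorphic
import Cfsg.Agent.Lib.BlocksDefect.Covering
import Cfsg.Agent.Blocks88.GlauberSylow

/-!
# The principal block covers the principal block of every normal subgroup
-/

set_option autoImplicit false
set_option linter.unusedSectionVars false

namespace Cfsg.Agent.BC84

open BlocksCore BlocksDefect
open scoped ComplexConjugate

universe u

variable {G : Type u} [Group G] [Fintype G] {p : ℕ} {M : Ideal AlgInt}

theorem sum_blockCoeff_overSylow_not_mem [Fact p.Prime] (hM : IsPModular p M) (N : Subgroup G)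
    [Fintype N] (P : Sylow p G) (hPN : (P : Subgroup G) ≤ N) :
    ¬ MemLocalIdeal M (∑ n : N, blockCoeff (principalBlock M G) (n : G)) := by
  classical
  have := isPrime hM
  set a := blockCoeff (principalBlock M G) with hadef
  have ha : IsIntClassFun M a := isIntClassFun_blockCoeff hM (isPBlock_blockOf (oneChar G))
  have hsing : ∀ g, p ∣ orderOf g → a g = 0 := fun g hg =>
    blockCoeff_eq_zero_of_dvd_orderOf hM (isPBlock_blockOf (oneChar G)) hg
  intro hmem
  let f : G → ℂ := fun g => if g ∈ N then a g else 0
  have hf : ∀ g, MemLocalRing M (f g) := fun g => by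
    show MemLocalRing M (if g ∈ N then a g else 0)
    split_ifs
    · exact ha.2 g
    · exact (localRing M).zero_mem
  have hfinv : ∀ u ∈ (P : Subgroup G), ∀ z, f (u * z * u⁻¹) = f z := by
    intro u hu z
    show (if u * z * u⁻¹ ∈ N then a (u * z * u⁻¹) else 0) = if z ∈ N then a z else 0
    rw [ha.1 z u]
    have : u * z * u⁻¹ ∈ N ↔ z ∈ N := by
      rw [N.mul_mem_cancel_right (inv_mem (hPN hu)), N.mul_mem_cancel_left (hPN hu)]
    simp only [this]
  have h := sum_congr_regCent hM P.2 f hfinv hf (fun z hz => by
    show (if z ∈ N then a z else 0) = 0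
    rw [hsing z hz]; simp)
  have hsum : ∑ z, f z = ∑ n : N, a n := by
    show ∑ z, (if z ∈ N then a z else 0) = _
    rw [← Finset.sum_filter]
    exact Finset.sum_subtype _ (by simp) a
  rw [hsum] at h
  have h2 := memLocalIdeal_sub hmem h
  rw [sub_sub_cancel] at h2
  -- the count of regular elements of `N` centralising `P`
  set R := Finset.univ.filter (fun z => z ∈ regCent p (P : Subgroup G)) with hR
  set S := R.filter (fun z => z ∈ N) with hS
  have h3 : MemLocalIdeal M (∑ z ∈ S, a z) := by
    have e : ∑ z ∈ S, a z = ∑ z ∈ R, f z := by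
      show _ = ∑ z ∈ R, (if z ∈ N then a z else 0)
      rw [← Finset.sum_filter]
    rwa [e]
  set r : ℂ := (Nat.card (regCent p (P : Subgroup G)) : ℂ)⁻¹ with hr
  have h4 : MemLocalIdeal M (∑ z ∈ S, (a z - r)) := memLocalIdeal_sum fun z hz =>
    (blockCoeff_principal_congr hM P (Finset.mem_filter.mp (Finset.mem_filter.mp hz).1).2).1
  have h5 := memLocalIdeal_sub h3 h4
  rw [Finset.sum_sub_distrib, sub_sub_cancel, Finset.sum_const, nsmul_eq_mul] at h5
  have h1R : (1 : G) ∈ regCent p (P : Subgroup G) :=
    ⟨one_mem _, by rw [orderOf_one]; exact hM.1.not_dvd_one⟩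
  have hnR := (blockCoeff_principal_congr hM P h1R).2
  have hne : (Nat.card (regCent p (P : Subgroup G)) : ℂ) ≠ 0 := by
    rw [Nat.cast_ne_zero]; intro h0; rw [h0] at hnR; exact hnR (dvd_zero p)
  have h6 := memLocalIdeal_mul_right h5 (memLocalRing_natCast (Nat.card (regCent p (P : Subgroup G))))
  rw [mul_assoc, hr, inv_mul_cancel₀ hne, mul_one, memLocalIdeal_natCast_iff hM] at h6
  -- the count divides the order of a group of order prime to `p`
  set C := Subgroup.centralizer ((P : Subgroup G) : Set G) with hC
  obtain ⟨K, hK, hKp, -⟩ : ∃ K : Subgroup C, (∀ c, c ∈ K ↔ ¬ p ∣ orderOf c) ∧ ¬ p ∣ Nat.card K ∧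
      ∃ π : C →* K, ∀ k : K, π (k : _) = k := exists_regular_centralizer P
  have hord : ∀ x : C, orderOf (x : G) = orderOf x := fun x =>
    orderOf_injective C.subtype (Subgroup.subtype_injective C) x
  set L := K ⊓ N.subgroupOf C with hL
  have hcard : S.card = Nat.card L := by
    rw [← Nat.card_eq_finsetCard]
    refine Nat.card_congr
      { toFun := fun z => ⟨⟨z.1, (Finset.mem_filter.mp (Finset.mem_filter.mp z.2).1).2.1⟩,
          (hK _).mpr (by rw [← hord]; exact (Finset.mem_filter.mp (Finset.mem_filter.mp z.2).1).2.2),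
          (Finset.mem_filter.mp z.2).2⟩
        invFun := fun l => ⟨((l : C) : G), Finset.mem_filter.mpr ⟨Finset.mem_filter.mpr
          ⟨Finset.mem_univ _, (l : C).2, by rw [hord]; exact (hK _).mp l.2.1⟩, l.2.2⟩⟩
        left_inv := fun _ => rfl
        right_inv := fun _ => rfl }
  rw [hcard] at h6
  exact hKp (h6.trans (Subgroup.card_dvd_of_le inf_le_left))

/-- Every member of the principal block of a subgroup containing a Sylow subgroup is a constituent
of a member of the principal block. -/
theorem exists_over_overSylow [Fact p.Prime] (hM : IsPModular p M) (N : Subgroup G) [Fintype N]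
    (P : Sylow p G) (hPN : (P : Subgroup G) ≤ N) (θ : IrrCharacter N)
    (hθ : θ ∈ principalBlock M N) :
    ∃ χ : IrrCharacter G, χ ∈ principalBlock M G ∧
      classInner (fun n : N => (χ : G → ℂ) n) (θ : N → ℂ) ≠ 0 := by
  classical
  have := isPrime hM
  set a := blockCoeff (principalBlock M G) with hadef
  have ha : IsIntClassFun M a := isIntClassFun_blockCoeff hM (isPBlock_blockOf (oneChar G))
  set Φ := indFun N (θ : N → ℂ) with hΦ
  by_contra hnone
  push Not at hnone
  have e0 : ∑ g, a g * Φ g = 0 := by
    have hexp : Φ = _ := CharCore.eq_sum_classInner (CharInd.isClassFunction_indFun N (θ : N → ℂ))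
    conv_lhs => rw [hexp]
    simp only [Finset.sum_apply, Pi.smul_apply, smul_eq_mul, Finset.mul_sum]
    rw [Finset.sum_comm]
    refine Finset.sum_eq_zero fun χ _ => ?_
    have hω := omega_blockCoeff (principalBlock M G) χ
    rw [omega_eq_sum, div_eq_iff (BlocksCore.irr_one_ne_zero χ)] at hω
    calc _ = classInner Φ (χ : G → ℂ) * ∑ g, a g * (χ : G → ℂ) g := by
          rw [Finset.mul_sum]; exact Finset.sum_congr rfl fun g _ => by ring
      _ = 0 := by
          rw [hω]
          by_cases hχ : χ ∈ principalBlock M G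
          · rw [hΦ, CharInd.classInner_indFun_left N _ (CharCore.irr_isClassFunction χ),
              ← CharInd.classInner_swap, hnone χ hχ, map_zero, zero_mul]
          · rw [Set.indicator_of_notMem hχ, zero_mul, mul_zero]
  have hca : IsClassFunction G (fun g => conj (a g)) := fun g h => congrArg conj (ha.1 g h)
  have e2 := CharInd.classInner_indFun_left N (θ : N → ℂ) hca
  simp only [classInner, Complex.conj_conj, ← hΦ] at e2
  have e3 : ∑ g, Φ g * a g = 0 := by simpa only [mul_comm] using e0
  rw [e3, mul_zero] at e2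
  have hT0 : ∑ n : N, a n * (θ : N → ℂ) n = 0 := by
    rcases mul_eq_zero.mp e2.symm with h | h
    · simp at h
    · simpa only [mul_comm] using h
  have hA : IsIntClassFun M (fun n : N => a n) := ⟨isClassFunction_restrict' ha.1, fun n => ha.2 n⟩
  have h : MemLocalIdeal M (omega (θ : N → ℂ) (fun n : N => a n)) := by
    rw [omega_eq_sum, hT0, zero_div]
    exact memLocalIdeal_zero
  have h2 := memLocalIdeal_sub h (omega_sub_memLocalIdeal ((mem_principalBlock_iff θ).mp hθ) hA)
  rw [sub_sub_cancel, omega_eq_sum] at h2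
  refine sum_blockCoeff_overSylow_not_mem hM N P hPN ?_
  simpa [oneChar] using h2

theorem one_constituent (N : Subgroup G) [Fintype N] :
    classInner (fun n : N => ((oneChar G : IrrCharacter G) : G → ℂ) n)
      ((oneChar N : IrrCharacter N) : N → ℂ) ≠ 0 := by
  show classInner ((oneChar N : IrrCharacter N) : N → ℂ) ((oneChar N : IrrCharacter N) : N → ℂ) ≠ 0
  rw [CharCore.classInner_irr_self (oneChar N)]; exact one_ne_zero

theorem oneChar_mem_principalBlock [M.IsPrime] : oneChar G ∈ principalBlock M G :=
  (mem_principalBlock_iff _).mpr (sameBlock_refl _)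

/-- The principal block covers every member of the principal block of a normal subgroup. -/
theorem exists_over_principal [Fact p.Prime] (hM : IsPModular p M) (N : Subgroup G) [N.Normal]
    [Fintype N] (θ : IrrCharacter N) (hθ : θ ∈ principalBlock M N) :
    ∃ χ : IrrCharacter G, χ ∈ principalBlock M G ∧
      classInner (fun n : N => (χ : G → ℂ) n) (θ : N → ℂ) ≠ 0 := by
  classical
  have := isPrime hM
  obtain ⟨P⟩ : Nonempty (Sylow p G) := inferInstance
  set H := N ⊔ (P : Subgroup G) with hH
  have hNH : N ≤ H := le_sup_left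
  have := Fintype.ofFinite H
  set N' := N.subgroupOf H with hN'
  have : N'.Normal := (inferInstance : N.Normal).subgroupOf H
  have := Fintype.ofFinite N'
  -- `θ` as a character of `N'`
  let e : N' ≃* N := Subgroup.subgroupOfEquivOfLe hNH
  let θ' : IrrCharacter N' := ⟨fun x => (θ : N → ℂ) (e x),
    CharCore.isIrrCharacter_comp_surjective θ.2 e.toMonoidHom e.surjective⟩
  have hθ' : θ' ∈ principalBlock M N' := fun x => by
    have h := hθ (e x)
    have hc : (Subgroup.centralizer ({x} : Set N')).index =
        (Subgroup.centralizer ({e x} : Set N)).index := by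
      rw [← Subgroup.index_comap_of_surjective _ (f := e.toMonoidHom) e.surjective]
      congr 1
      ext y
      rw [Subgroup.mem_comap, Subgroup.mem_centralizer_singleton_iff,
        Subgroup.mem_centralizer_singleton_iff, MulEquiv.coe_toMonoidHom, ← map_mul, ← map_mul]
      exact e.injective.eq_iff.symm
    simpa [centralChar, θ', hc] using h
  have hidx : ∃ k, N'.index = p ^ k := by
    have h0 : N'.index = (N ⊓ (P : Subgroup G)).relIndex (P : Subgroup G) := by
      show N.relIndex H = _
      rw [Subgroup.inf_relIndex_right, hH, sup_comm, Subgroup.relIndex_sup_right]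
    obtain ⟨k, hk⟩ := IsPGroup.iff_card.mp P.2
    obtain ⟨i, -, hi⟩ := (Nat.dvd_prime_pow (Fact.out : p.Prime)).mp
      (hk ▸ Subgroup.relIndex_dvd_card (N ⊓ (P : Subgroup G)) (P : Subgroup G))
    exact ⟨i, h0.trans hi⟩
  obtain ⟨ξ, hξ⟩ := BlocksDefect.exists_over θ'
  have hξB : ξ ∈ principalBlock M H := by
    refine (mem_principalBlock_iff ξ).mpr ?_
    exact BlocksDefect.mem_of_covers hM hidx (b := principalBlock M N')
      (isPBlock_blockOf (oneChar N')) (θ := oneChar N') (θ' := θ')
      oneChar_mem_principalBlock hθ' (one_constituent N') hξ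
  obtain ⟨χ, hχB, hχ⟩ := exists_over_overSylow hM H P le_sup_right ξ hξB
  refine ⟨χ, hχB, ?_⟩
  have h := Blocks88.classInner_ne_zero_trans N'.subtype
    (CharCore.isCharacter_restrict (CharCore.irr_isCharacter χ) H) ξ θ' hχ hξ
  refine fun h0 => h ?_
  rw [← h0]
  unfold classInner
  rw [Nat.card_congr e.toEquiv]
  congr 1
  exact Fintype.sum_equiv e.toEquiv _ _ fun x => rfl

end Cfsg.Agent.BC84
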