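import Mathlib.GroupTheory.PGroup
import Mathlib.GroupTheory.Nilpotent
import Mathlib.GroupTheory.SpecificGroups.Cyclic
import Mathlib.GroupTheory.Commutator.Basic
import Cfsg.Agent.Lib.PGroup.Commutator
import Cfsg.Agent.Lib.PGroup.Basic

set_option autoImplicit false
set_option linter.all false

open scoped commutatorElement

namespace Cfsg.Agent.BC84

open Subgroup

variable {P : Type*} [Group P] [Finite P]

theorem index_centralizer_eq_card_range (hc : commutator P ≤ center P) (b : P) :
    (centralizer ({b} : Set P)).index = Nat.card (PGroup.commHom hc b).range := by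
  rw [← Subgroup.index_ker]
  congr 1
  ext x
  simp [MonoidHom.mem_ker, mem_centralizer_singleton_iff, commutatorElement_eq_one_iff_mul_comm]

theorem isMulComm_of_center_index_prime {p : ℕ} [Fact p.Prime] (h : (center P).index = p) :
    ∀ a b : P, a * b = b * a := by
  haveI : IsCyclic (P ⧸ center P) := isCyclic_of_prime_card (p := p) (by rw [← Subgroup.index_eq_card]; exact h)
  exact commutative_of_cyclic_center_quotient (QuotientGroup.mk' (center P)) (by rw [QuotientGroup.ker_mk'])

theorem card_comm_eq_iff {p : ℕ} [hp : Fact p.Prime] (hP : Nat.card P = p ^ 4) :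
    Nat.card (commutator P) = p ↔ (center P).index = p ^ 2 := by
  have hp1 := hp.out.one_lt
  have hidx : ∀ H : Subgroup P, ∃ k, k ≤ 4 ∧ H.index = p ^ k := fun H => by
    obtain ⟨k, hk, h⟩ := (Nat.dvd_prime_pow hp.out).1 (hP ▸ H.index_dvd_card)
    exact ⟨k, hk, h⟩
  have hindex1 : ∀ H : Subgroup P, H.index = 1 → H = ⊤ := fun H => Subgroup.index_eq_one.1
  constructor
  · intro hc
    have hPG : IsPGroup p P := IsPGroup.of_card hP
    have hle : commutator P ≤ center P := PGroup.le_center_of_card_eq_prime hPG hc
    have hdiv : ∀ b : P, (centralizer ({b} : Set P)).index ≤ p := fun b => by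
      rw [index_centralizer_eq_card_range hle, ← hc]
      apply Subgroup.card_le_of_le
      rintro _ ⟨x, rfl⟩
      exact commutator_mem_commutator (mem_top _) (mem_top _)
    have hnc : ¬ ∀ a b : P, a * b = b * a := by
      intro h
      have : commutator P = ⊥ := by
        rw [eq_bot_iff, _root_.commutator_def, Subgroup.commutator_le]
        intro a _ b _
        exact Subgroup.mem_bot.2 (commutatorElement_eq_one_iff_mul_comm.2 (h a b))
      rw [this, Subgroup.card_bot] at hc; omega
    push_neg at hnc
    obtain ⟨a, b, hab⟩ := hnc
    obtain ⟨k, -, hk⟩ := hidx (center P)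
    have hk1 : k ≠ 1 := fun h1 => hab (isMulComm_of_center_index_prime (p := p) (by rw [hk, h1, pow_one]) a b)
    have hk0 : k ≠ 0 := fun h0 => by
      have := hindex1 _ (by rw [hk, h0, pow_zero])
      exact hab (mem_center_iff.1 (this.symm ▸ mem_top b) a)
    by_contra hne
    -- choose a centraliser of index p
    set C := centralizer ({a} : Set P) with hC
    have hk3 : 3 ≤ k := by
      by_contra h; apply hne; rw [hk, show k = 2 by omega]
    have hZC : center P ≤ C := center_le_centralizer _
    obtain ⟨j, -, hj⟩ := hidx C
    have hj1 : j = 1 := by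
      have h1 := hdiv a
      rw [hj] at h1
      have : j ≤ 1 := by
        by_contra h
        have : p ^ 2 ≤ p ^ j := Nat.pow_le_pow_right hp.out.pos (by omega)
        nlinarith [pow_two p]
      rcases Nat.le_one_iff_eq_zero_or_eq_one.1 this with h | h
      · exfalso
        have := hindex1 _ (by rw [hj, h, pow_zero])
        exact hab (mem_centralizer_singleton_iff.1 (show b ∈ C from by rw [this]; trivial)).symm
      · exact h
    -- C is abelian
    have hCcard : Nat.card C = p ^ 3 := by
      have := C.card_mul_index
      rw [hP, hj, hj1, pow_one] at this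
      exact Nat.eq_of_mul_eq_mul_right hp.out.pos (by rw [this]; ring)
    have hCab : ∀ x y : C, x * y = y * x := by
      obtain ⟨l, hl, hl'⟩ := (Nat.dvd_prime_pow hp.out).1 (hCcard ▸ (center C).index_dvd_card)
      -- the centre of C has order at least p^2
      have hlow : p ^ 2 ≤ Nat.card (center C) := by
        have hsub : (center P).subgroupOf C < center C := by
          refine lt_of_le_of_ne ?_ ?_
          · intro x hx
            rw [mem_center_iff]; intro y
            exact Subtype.ext (mem_center_iff.1 (mem_subgroupOf.1 hx) y)
          · intro heq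
            have ha : (⟨a, mem_centralizer_singleton_iff.2 rfl⟩ : C) ∈ center C := by
              rw [mem_center_iff]; intro y
              exact Subtype.ext (mem_centralizer_singleton_iff.1 y.2)
            rw [← heq] at ha
            exact hab (mem_center_iff.1 (mem_subgroupOf.1 ha) b).symm
        have h1 : Nat.card ((center P).subgroupOf C) < Nat.card (center C) := by
          refine lt_of_le_of_ne (Subgroup.card_le_of_le hsub.le) fun h => hsub.ne ?_
          exact Subgroup.eq_of_le_of_card_ge hsub.le h.ge
        have h2 : 1 < Nat.card (center P) := by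
          haveI : Nontrivial P := Finite.one_lt_card_iff_nontrivial.1 (by rw [hP]; exact Nat.one_lt_pow (by norm_num) hp1)
          haveI := hPG.center_nontrivial
          exact Finite.one_lt_card
        rw [Nat.card_congr (Subgroup.subgroupOfEquivOfLe hZC).toEquiv] at h1
        obtain ⟨u, -, hu⟩ := (Nat.dvd_prime_pow hp.out).1 (hCcard ▸ (center C).card_subgroup_dvd_card)
        rw [hu] at h1 ⊢
        apply Nat.pow_le_pow_right hp.out.pos
        by_contra h
        have : p ^ u ≤ p := by
          calc p ^ u ≤ p ^ 1 := Nat.pow_le_pow_right hp.out.pos (by omega)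
          _ = p := pow_one p
        obtain ⟨v, -, hv⟩ := (Nat.dvd_prime_pow hp.out).1 (hP ▸ (center P).card_subgroup_dvd_card)
        have : p ≤ Nat.card (center P) := by
          rw [hv] at h2 ⊢
          exact Nat.le_self_pow (by rintro rfl; simp at h2) p
        omega
      have hmul := (center C).card_mul_index
      rw [hCcard, hl'] at hmul
      have hl1 : l ≤ 1 := by
        by_contra h
        have : p ^ 2 * p ^ 2 ≤ p ^ 3 :=
          hmul ▸ Nat.mul_le_mul hlow (Nat.pow_le_pow_right hp.out.pos (by omega))
        rw [← pow_add] at this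
        have := (Nat.pow_le_pow_iff_right hp1).1 this
        omega
      rcases Nat.le_one_iff_eq_zero_or_eq_one.1 hl1 with h | h
      · intro x y
        have : center C = ⊤ := Subgroup.index_eq_one.1 (by rw [hl', h, pow_zero])
        exact mem_center_iff.1 (this.symm ▸ mem_top y) x
      · exact isMulComm_of_center_index_prime (p := p) (by rw [hl', h, pow_one])
    obtain ⟨c, hcC⟩ : ∃ c : P, c ∉ C := ⟨b, fun h => hab (mem_centralizer_singleton_iff.1 h).symm⟩
    have hinter : C ⊓ centralizer ({c} : Set P) ≤ center P := by
      intro x hx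
      have hCx : C ≤ centralizer ({x} : Set P) := fun y hy =>
        mem_centralizer_singleton_iff.2 (congrArg Subtype.val (hCab ⟨y, hy⟩ ⟨x, hx.1⟩))
      have hcx : c ∈ centralizer ({x} : Set P) :=
        mem_centralizer_singleton_iff.2 (mem_centralizer_singleton_iff.1 hx.2).symm
      obtain ⟨i, -, hi⟩ := hidx (centralizer ({x} : Set P))
      have hlt : C < centralizer ({x} : Set P) :=
        lt_of_le_of_ne hCx (fun h => hcC (h ▸ hcx))
      have hi0 : i = 0 := by
        have h3 : (centralizer ({x} : Set P)).index < C.index := Subgroup.index_strictAnti hlt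
        rw [hi, hj, hj1] at h3
        have := (Nat.pow_lt_pow_iff_right hp1).1 h3
        omega
      have := hindex1 _ (by rw [hi, hi0, pow_zero])
      exact mem_center_iff.2 fun g => mem_centralizer_singleton_iff.1 (this.symm ▸ mem_top g)
    have h1 : (center P).index ≤ C.index * (centralizer ({c} : Set P)).index :=
      le_trans (Nat.le_of_dvd (Nat.pos_of_ne_zero Subgroup.index_ne_zero_of_finite)
        (Subgroup.index_dvd_of_le hinter)) Subgroup.index_inf_le
    rw [hk, hj, hj1, pow_one] at h1
    have h2 : p ^ 3 ≤ p * p :=
      (Nat.pow_le_pow_right hp.out.pos hk3).trans (h1.trans (Nat.mul_le_mul_left _ (hdiv c)))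
    nlinarith
  · intro hZ
    have hle : commutator P ≤ center P := by
      rw [_root_.commutator_def, Subgroup.commutator_le]
      intro a _ b _
      rw [← QuotientGroup.eq_one_iff]
      have hq : Nat.card (P ⧸ center P) = p ^ 2 := by rw [← Subgroup.index_eq_card, hZ]
      have h := map_commutatorElement (QuotientGroup.mk' (center P)) a b
      rw [QuotientGroup.mk'_apply] at h
      rw [h, commutatorElement_eq_one_iff_mul_comm]
      exact IsPGroup.commutative_of_card_eq_prime_sq hq _ _
    obtain ⟨a, ha⟩ : ∃ a : P, a ∉ center P := by
      by_contra h; push_neg at h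
      rw [Subgroup.index_eq_one.2 (eq_top_iff.2 fun x _ => h x)] at hZ
      nlinarith
    have hnoncentral : ∀ a : P, a ∉ center P → (centralizer ({a} : Set P)).index = p := by
      intro a ha
      have hlt : center P < centralizer ({a} : Set P) :=
        lt_of_le_of_ne (center_le_centralizer _) fun h =>
          ha (h.symm ▸ mem_centralizer_singleton_iff.2 rfl)
      have h3 : (centralizer ({a} : Set P)).index < (center P).index := Subgroup.index_strictAnti hlt
      obtain ⟨j, -, hj⟩ := hidx (centralizer ({a} : Set P))
      rw [hZ, hj, Nat.pow_lt_pow_iff_right hp1] at h3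
      interval_cases j
      · have htop := hindex1 _ (hj.trans (pow_zero p))
        exact absurd (mem_center_iff.2 fun g => mem_centralizer_singleton_iff.1
          (show g ∈ centralizer ({a} : Set P) by rw [htop]; trivial)) ha
      · simpa using hj
    obtain ⟨b, hb⟩ : ∃ b : P, b ∉ centralizer ({a} : Set P) := by
      by_contra h; push_neg at h
      have := hnoncentral a ha
      rw [Subgroup.index_eq_one.2 (eq_top_iff.2 fun x _ => h x)] at this
      omega
    have hbZ : b ∉ center P := fun h => hb (center_le_centralizer _ h)
    set c := ⁅a, b⁆ with hc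
    set R := (PGroup.commHom hle b).range with hR
    have hRcard : Nat.card R = p := by rw [hR, ← index_centralizer_eq_card_range hle, hnoncentral b hbZ]
    have hcR : c ∈ R := ⟨a, rfl⟩
    have hRC : R ≤ center P := by
      rintro _ ⟨x, rfl⟩
      exact hle (commutator_mem_commutator (mem_top _) (mem_top _))
    haveI : R.Normal := ⟨fun n hn g => by
      have := mem_center_iff.1 (hRC hn) g
      rw [this, mul_inv_cancel_right]; exact hn⟩
    have hgen : ∀ H : Subgroup P, center P ≤ H → a ∈ H → b ∈ H → H = ⊤ := by
      intro H hZH haH hbH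
      have hlt : center P < H ⊓ centralizer ({a} : Set P) :=
        lt_of_le_of_ne (le_inf hZH (center_le_centralizer _)) fun h =>
          ha (h.symm ▸ (⟨haH, mem_centralizer_singleton_iff.2 rfl⟩ : a ∈ H ⊓ centralizer ({a} : Set P)))
      have hlt2 : H ⊓ centralizer ({a} : Set P) < H :=
        lt_of_le_of_ne inf_le_left fun h => hb ((h.symm ▸ hbH : b ∈ H ⊓ centralizer ({a} : Set P)).2)
      obtain ⟨i, -, hi⟩ := hidx (H ⊓ centralizer ({a} : Set P))
      obtain ⟨j, -, hj⟩ := hidx H
      have e1 := Subgroup.index_strictAnti hlt
      have e2 := Subgroup.index_strictAnti hlt2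
      rw [hi, hZ, Nat.pow_lt_pow_iff_right hp1] at e1
      rw [hi, hj, Nat.pow_lt_pow_iff_right hp1] at e2
      exact hindex1 _ (by rw [hj, show j = 0 by omega, pow_zero])
    have hcomm : commutator P ≤ R := by
      let f := QuotientGroup.mk' R
      have hcab : f a * f b = f b * f a := by
        rw [← commutatorElement_eq_one_iff_mul_comm, ← map_commutatorElement]
        exact (QuotientGroup.eq_one_iff _).2 hcR
      have hcz : ∀ z ∈ center P, ∀ x, f x * f z = f z * f x := fun z hz x => by
        rw [← map_mul, ← map_mul, mem_center_iff.1 hz]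
      have hA : (centralizer ({f a} : Set (P ⧸ R))).comap f = ⊤ :=
        hgen _ (fun z hz => mem_centralizer_singleton_iff.2 (hcz z hz a).symm)
          (mem_centralizer_singleton_iff.2 rfl) (mem_centralizer_singleton_iff.2 hcab.symm)
      have hB : (centralizer ({f b} : Set (P ⧸ R))).comap f = ⊤ :=
        hgen _ (fun z hz => mem_centralizer_singleton_iff.2 (hcz z hz b).symm)
          (mem_centralizer_singleton_iff.2 hcab) (mem_centralizer_singleton_iff.2 rfl)
      rw [_root_.commutator_def, Subgroup.commutator_le]
      intro x _ y _
      have hall : (centralizer ({f y} : Set (P ⧸ R))).comap f = ⊤ :=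
        hgen _ (fun z hz => mem_centralizer_singleton_iff.2 (hcz z hz y).symm)
          (mem_centralizer_singleton_iff.2
            (mem_centralizer_singleton_iff.1 (hA.symm ▸ mem_top y : y ∈ (centralizer ({f a} : Set (P ⧸ R))).comap f)).symm)
          (mem_centralizer_singleton_iff.2
            (mem_centralizer_singleton_iff.1 (hB.symm ▸ mem_top y : y ∈ (centralizer ({f b} : Set (P ⧸ R))).comap f)).symm)
      have := mem_centralizer_singleton_iff.1 (hall.symm ▸ mem_top x : x ∈ (centralizer ({f y} : Set (P ⧸ R))).comap f)
      rw [← QuotientGroup.eq_one_iff (N := R)]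
      show f ⁅x, y⁆ = 1
      rw [map_commutatorElement, commutatorElement_eq_one_iff_mul_comm, this]
    rw [← hRcard]
    congr 1
    rw [le_antisymm hcomm (by rintro _ ⟨x, rfl⟩; exact commutator_mem_commutator (mem_top _) (mem_top _))]

theorem comm_index_sq_iff_class {p : ℕ} [hp : Fact p.Prime] (hP : Nat.card P = p ^ 4) :
    (commutator P).index = p ^ 2 ↔ Group.nilpotencyClass P = 3 := by
  have hp1 := hp.out.one_lt
  have hPG : IsPGroup p P := IsPGroup.of_card hP
  haveI : Group.IsNilpotent P := hPG.isNilpotent
  obtain ⟨j, hj4, hj⟩ := (Nat.dvd_prime_pow hp.out).1 (hP ▸ (commutator P).index_dvd_card)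
  have hL1 : Subgroup.lowerCentralSeries (⊤ : Subgroup P) 1 = commutator P := rfl
  have hclass2 : Group.nilpotencyClass P ≤ 2 ↔ commutator P ≤ center P := by
    rw [← Subgroup.lowerCentralSeries_eq_bot_iff_nilpotencyClass_le, Subgroup.lowerCentralSeries_succ, hL1,
      Subgroup.commutator_eq_bot_iff_le_centralizer, Subgroup.coe_top, Subgroup.centralizer_univ]
  -- the derived subgroup has index at least p^2 unless trivial
  have hbig : commutator P = ⊥ ∨ 2 ≤ j := by
    by_contra h
    push_neg at h
    obtain ⟨hne, hj2⟩ := h
    set L2 := ⁅commutator P, (⊤ : Subgroup P)⁆ with hL2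
    haveI : L2.Normal := Subgroup.commutator_normal _ _
    let f := QuotientGroup.mk' L2
    have hcen : (commutator P).map f ≤ center (P ⧸ L2) := by
      rintro _ ⟨c, hc, rfl⟩
      rw [mem_center_iff]
      intro g
      induction g using QuotientGroup.induction_on with
      | _ g =>
      symm
      rw [← commutatorElement_eq_one_iff_mul_comm]
      show ⁅f c, f g⁆ = 1
      rw [← map_commutatorElement]
      exact (QuotientGroup.eq_one_iff _).2 (commutator_mem_commutator hc (mem_top _))
    have hdvd : (center (P ⧸ L2)).index ∣ (commutator P).index := by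
      refine (Subgroup.index_dvd_of_le hcen).trans ?_
      exact Subgroup.index_map_dvd _ (QuotientGroup.mk'_surjective _)
    rw [hj] at hdvd
    have hab : ∀ u v : P ⧸ L2, u * v = v * u := by
      obtain ⟨i, hi, hi'⟩ := (Nat.dvd_prime_pow hp.out).1 hdvd
      have : i = 0 ∨ i = 1 := by omega
      rcases this with rfl | rfl
      · intro u v
        have : center (P ⧸ L2) = ⊤ := Subgroup.index_eq_one.1 (by simpa using hi')
        exact mem_center_iff.1 (this.symm ▸ mem_top v) u
      · exact isMulComm_of_center_index_prime (p := p) (by simpa using hi')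
    have hle : commutator P ≤ L2 := by
      rw [_root_.commutator_def, Subgroup.commutator_le]
      intro x _ y _
      rw [← QuotientGroup.eq_one_iff (N := L2)]
      show f ⁅x, y⁆ = 1
      rw [map_commutatorElement, commutatorElement_eq_one_iff_mul_comm]
      exact hab _ _
    have hall : ∀ n, commutator P ≤ Subgroup.lowerCentralSeries (⊤ : Subgroup P) (n + 1) := by
      intro n
      induction n with
      | zero => exact hL1.ge
      | succ m ih => rw [Subgroup.lowerCentralSeries_succ]; exact hle.trans (Subgroup.commutator_mono ih le_rfl)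
    apply hne
    have := (Subgroup.lowerCentralSeries_antitone (S := (⊤ : Subgroup P)) (Nat.le_succ (Group.nilpotencyClass P)))
    rw [eq_bot_iff]
    exact (hall _).trans (this.trans Subgroup.lowerCentralSeries_nilpotencyClass.le)
  constructor
  · intro h2
    have hcard : Nat.card (commutator P) = p ^ 2 := by
      have := (commutator P).card_mul_index
      rw [h2, hP] at this
      exact Nat.eq_of_mul_eq_mul_right (pow_pos hp.out.pos 2) (by rw [this]; ring)
    have hn2 : ¬ Group.nilpotencyClass P ≤ 2 := by
      rw [hclass2]
      intro hle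
      have hdvd := Subgroup.index_dvd_of_le hle
      rw [h2] at hdvd
      obtain ⟨i, hi, hi'⟩ := (Nat.dvd_prime_pow hp.out).1 hdvd
      interval_cases i
      · have : center P = ⊤ := Subgroup.index_eq_one.1 (by simpa using hi')
        have hb : commutator P = ⊥ := by
          rw [eq_bot_iff, _root_.commutator_def, Subgroup.commutator_le]
          intro x _ y _
          exact Subgroup.mem_bot.2 (commutatorElement_eq_one_iff_mul_comm.2 (mem_center_iff.1 (this.symm ▸ mem_top y) x))
        rw [hb, Subgroup.card_bot] at hcard
        nlinarith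
      · have hc := isMulComm_of_center_index_prime (p := p) (by simpa using hi')
        have hb : commutator P = ⊥ := by
          rw [eq_bot_iff, _root_.commutator_def, Subgroup.commutator_le]
          intro x _ y _
          exact Subgroup.mem_bot.2 (commutatorElement_eq_one_iff_mul_comm.2 (hc x y))
        rw [hb, Subgroup.card_bot] at hcard
        nlinarith
      · have := (card_comm_eq_iff hP).2 hi'
        rw [hcard] at this
        nlinarith
    have h3 : Group.nilpotencyClass P ≤ 3 := by
      rw [← Subgroup.lowerCentralSeries_eq_bot_iff_nilpotencyClass_le]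
      -- the series drops strictly
      have hdrop : ∀ n, Subgroup.lowerCentralSeries (⊤ : Subgroup P) n ≠ ⊥ →
          p * Nat.card (Subgroup.lowerCentralSeries (⊤ : Subgroup P) (n + 1)) ≤ Nat.card (Subgroup.lowerCentralSeries (⊤ : Subgroup P) n) := by
        intro n hn
        have hle := Subgroup.lowerCentralSeries_antitone (S := (⊤ : Subgroup P)) (Nat.le_succ n)
        have hne : Subgroup.lowerCentralSeries (⊤ : Subgroup P) (n + 1) ≠ Subgroup.lowerCentralSeries (⊤ : Subgroup P) n := by
          intro he
          have hall : ∀ m, Subgroup.lowerCentralSeries (⊤ : Subgroup P) (n + m) = Subgroup.lowerCentralSeries (⊤ : Subgroup P) n := by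
            intro m
            induction m with
            | zero => rfl
            | succ m ih => rw [← Nat.add_assoc, Subgroup.lowerCentralSeries_succ, ih, ← Subgroup.lowerCentralSeries_succ, he]
          apply hn
          rw [eq_bot_iff, ← hall (Group.nilpotencyClass P)]
          exact (Subgroup.lowerCentralSeries_antitone (S := (⊤ : Subgroup P)) (Nat.le_add_left _ _)).trans
            Subgroup.lowerCentralSeries_nilpotencyClass.le
        obtain ⟨u, -, hu⟩ := (Nat.dvd_prime_pow hp.out).1 (hP ▸ (Subgroup.lowerCentralSeries (⊤ : Subgroup P) (n+1)).card_subgroup_dvd_card)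
        obtain ⟨v, -, hv⟩ := (Nat.dvd_prime_pow hp.out).1 (hP ▸ (Subgroup.lowerCentralSeries (⊤ : Subgroup P) n).card_subgroup_dvd_card)
        have hlt : Nat.card (Subgroup.lowerCentralSeries (⊤ : Subgroup P) (n + 1)) < Nat.card (Subgroup.lowerCentralSeries (⊤ : Subgroup P) n) :=
          lt_of_le_of_ne (Subgroup.card_le_of_le hle) fun h => hne (Subgroup.eq_of_le_of_card_ge hle h.ge)
        rw [hu, hv, Nat.pow_lt_pow_iff_right hp1] at hlt
        rw [hu, hv, ← pow_succ']
        exact Nat.pow_le_pow_right hp.out.pos hlt
      by_contra h
      have h' : Subgroup.lowerCentralSeries (⊤ : Subgroup P) 2 ≠ ⊥ := fun h2 => hn2 (Subgroup.lowerCentralSeries_eq_bot_iff_nilpotencyClass_le.1 h2)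
      have e1 := hdrop 1 (by rw [hL1]; intro hb; rw [hb, Subgroup.card_bot] at hcard; nlinarith)
      have e2 := hdrop 2 h'
      have e3 : p ≤ Nat.card (Subgroup.lowerCentralSeries (⊤ : Subgroup P) 3) :=
        PGroup.le_card_of_ne_bot hPG h
      rw [hL1, hcard] at e1
      have e4 : p * (p * p) ≤ p ^ 2 :=
        (Nat.mul_le_mul_left p ((Nat.mul_le_mul_left p e3).trans e2)).trans e1
      nlinarith
    omega
  · intro h3
    rw [hj]
    congr 1
    rcases hbig with hb | hb
    · exfalso
      have : Group.nilpotencyClass P ≤ 2 := hclass2.2 (by rw [hb]; exact bot_le)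
      omega
    by_contra hne
    have : Group.nilpotencyClass P ≤ 2 := by
      rw [hclass2]
      have hle : Nat.card (commutator P) ≤ p := by
        have := (commutator P).card_mul_index
        rw [hj, hP] at this
        have h3' : p ^ 3 ≤ p ^ j := Nat.pow_le_pow_right hp.out.pos (by omega)
        by_contra h
        have : (p + 1) * p ^ 3 ≤ p ^ 4 := this ▸ Nat.mul_le_mul (by omega) h3'
        nlinarith [pow_pos hp.out.pos 3]
      by_cases hb : commutator P = ⊥
      · rw [hb]; exact bot_le
      · have heq : Nat.card (commutator P) = p := le_antisymm hle (PGroup.le_card_of_ne_bot hPG hb)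
        exact PGroup.le_center_of_card_eq_prime hPG heq
    omega

end Cfsg.Agent.BC84
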