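import Cfsg.Agent.BC84.CentralSylow
import Cfsg.Agent.BC84.Covering
import Cfsg.Agent.Lib.CharClifford.Central
import Cfsg.Agent.Lib.BlocksCore.WeakOrth
import Cfsg.Agent.Lib.BlocksDefect.Congruence

/-!
# The principal block idempotent on the centralizer of a Sylow subgroup

Modulo `M` the coefficient of the principal block idempotent at a `p`-regular element of
`C_G(P)` is the inverse of the number of such elements.
-/

set_option autoImplicit false
set_option linter.unusedSectionVars false

namespace Cfsg.Agent.BC84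

open BlocksCore BlocksDefect
open scoped ComplexConjugate

variable {G : Type*} [Group G] [Fintype G] {p : ℕ} {M : Ideal AlgInt}

/-- The `p`-regular elements commuting with a Sylow subgroup. -/
noncomputable def regCent (p : ℕ) {G : Type*} [Group G] (P : Subgroup G) : Set G :=
  {g | g ∈ Subgroup.centralizer (P : Set G) ∧ ¬ p ∣ orderOf g}

/-- The `p`-regular elements whose class has size prime to `p`. -/
noncomputable def unitClassInd (p : ℕ) (G : Type*) [Group G] : G → ℂ :=
  {g : G | ¬ p ∣ orderOf g ∧ ¬ p ∣ (Subgroup.centralizer ({g} : Set G)).index}.indicator 1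

theorem isIntClassFun_unitClassInd [M.IsPrime] : IsIntClassFun M (unitClassInd p G) := by
  refine ⟨fun g h => ?_, fun g => ?_⟩
  · have e1 : orderOf (h * g * h⁻¹) = orderOf g := (MulAut.conj h).orderOf_eq g
    have e2 := index_centralizer_mulEquiv (MulAut.conj h) g
    simp only [MulAut.conj_apply] at e2
    unfold unitClassInd
    simp only [Set.indicator_apply, Set.mem_setOf_eq, e1, e2, Pi.one_apply]
  · unfold unitClassInd
    by_cases h : g ∈ {g : G | ¬ p ∣ orderOf g ∧ ¬ p ∣ (Subgroup.centralizer ({g} : Set G)).index}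
    · rw [Set.indicator_of_mem h]; exact (localRing M).one_mem
    · rw [Set.indicator_of_notMem h]; exact (localRing M).zero_mem

theorem not_dvd_index_of_mem_centralizer [Fact p.Prime] (P : Sylow p G) {c : G}
    (hc : c ∈ Subgroup.centralizer ((P : Subgroup G) : Set G)) :
    ¬ p ∣ (Subgroup.centralizer ({c} : Set G)).index := fun h =>
  P.not_dvd_index (h.trans (Subgroup.index_dvd_of_le
    (BlocksDefect.le_centralizer_singleton_iff.mpr hc)))

/-- A sum of a function invariant under conjugation by a `p`-subgroup, vanishing at `p`-singular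
elements, reduces to the `p`-regular elements centralizing the subgroup. -/
theorem sum_congr_regCent [Fact p.Prime] (hM : IsPModular p M) {P : Subgroup G} (hP : IsPGroup p P)
    (f : G → ℂ) (hinv : ∀ u ∈ P, ∀ y, f (u * y * u⁻¹) = f y) (hf : ∀ y, MemLocalRing M (f y))
    (hsing : ∀ y, p ∣ orderOf y → f y = 0) [DecidablePred (· ∈ regCent p P)] :
    MemLocalIdeal M (∑ y, f y - ∑ y ∈ Finset.univ.filter (· ∈ regCent p P), f y) := by
  classical
  let _ : MulAction P G :=
    { smul := fun u y => (u : G) * y * (u : G)⁻¹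
      one_smul := fun y => by
        change ((1 : P) : G) * y * ((1 : P) : G)⁻¹ = y
        simp
      mul_smul := fun u v y => by
        change ((u * v : P) : G) * y * ((u * v : P) : G)⁻¹ =
          (u : G) * ((v : G) * y * (v : G)⁻¹) * (u : G)⁻¹
        simp [mul_assoc] }
  have key := memLocalIdeal_sum_sub_fixed (α := G) (P := P) hM hP f
    (fun u y => hinv u u.2 y) hf
  convert key using 2
  refine Finset.sum_subset_zero_on_sdiff (fun y hy => ?_) (fun y hy => ?_) (fun _ _ => rfl)
  · refine Finset.mem_filter.mpr ⟨Finset.mem_univ _, fun u => ?_⟩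
    change (u : G) * y * (u : G)⁻¹ = y
    rw [mul_inv_eq_iff_eq_mul]
    exact Subgroup.mem_centralizer_iff.mp (Finset.mem_filter.mp hy).2.1 u u.2
  · simp only [Finset.mem_sdiff, Finset.mem_filter, Finset.mem_univ, true_and] at hy
    refine hsing y (not_not.mp fun hns => hy.2 ⟨Subgroup.mem_centralizer_iff.mpr fun u hu => ?_, hns⟩)
    exact mul_inv_eq_iff_eq_mul.mp (hy.1 ⟨u, hu⟩)

theorem isClassFunction_restrict' {H : Subgroup G} {A : G → ℂ} (hA : IsClassFunction G A) :
    IsClassFunction H (fun n : H => A n) := fun g h => by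
  simpa using hA (g : G) (h : G)

theorem blockCoeff_principal_congr [Fact p.Prime] (hM : IsPModular p M) (P : Sylow p G) {c : G}
    (hc : c ∈ regCent p (P : Subgroup G)) :
    MemLocalIdeal M (blockCoeff (principalBlock M G) c - (Nat.card (regCent p (P : Subgroup G)) : ℂ)⁻¹)
      ∧ ¬ p ∣ Nat.card (regCent p (P : Subgroup G)) := by
  classical
  have := isPrime hM
  set C := Subgroup.centralizer ((P : Subgroup G) : Set G) with hC
  obtain ⟨K, hK, hKp, π, hπ⟩ := exists_regular_centralizer P
  haveI : Fintype K := Fintype.ofFinite _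
  have hordC : ∀ x : C, orderOf (x : G) = orderOf x := fun x => orderOf_injective C.subtype (Subgroup.subtype_injective C) x
  let eR : K ≃ regCent p (P : Subgroup G) :=
    { toFun := fun k => ⟨((k : C) : G), (k : C).2, by rw [hordC]; exact (hK _).mp k.2⟩
      invFun := fun g => ⟨⟨g, g.2.1⟩, (hK _).mpr (by rw [← hordC ⟨g, g.2.1⟩]; exact g.2.2)⟩
      left_inv := fun k => rfl
      right_inv := fun g => rfl }
  have hcard : Nat.card (regCent p (P : Subgroup G)) = Nat.card K := (Nat.card_congr eR).symm
  refine ⟨?_, hcard ▸ hKp⟩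
  set B := principalBlock M G with hBdef
  have hB : IsPBlock M B := isPBlock_blockOf (oneChar G)
  have h1B : oneChar G ∈ B := (mem_principalBlock_iff _).mpr (sameBlock_refl _)
  set a := blockCoeff B with hadef
  have ha : IsIntClassFun M a := isIntClassFun_blockCoeff hM hB
  have hsing : ∀ g, p ∣ orderOf g → a g = 0 := fun g hg => blockCoeff_eq_zero_of_dvd_orderOf hM hB hg
  set y := unitClassInd p G with hydef
  have hy : IsIntClassFun M y := isIntClassFun_unitClassInd
  have hysing : ∀ g, p ∣ orderOf g → y g = 0 := fun g hg =>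
    Set.indicator_of_notMem (fun h => h.1 hg) _
  have hyK : ∀ k : K, y ((k : C) : G) = 1 := fun k =>
    Set.indicator_of_mem (show ((k : C) : G) ∈ {g : G | ¬ p ∣ orderOf g ∧ ¬ p ∣ (Subgroup.centralizer ({g} : Set G)).index} from
      ⟨(eR k).2.2, not_dvd_index_of_mem_centralizer P (k : C).2⟩) _
  have hinvP : ∀ {b : G → ℂ}, IsIntClassFun M b → ∀ u ∈ (P : Subgroup G), ∀ z, b (u * z * u⁻¹) = b z :=
    fun hb u _ z => hb.1 z u
  have hsumK : ∀ f : G → ℂ, (∑ z ∈ Finset.univ.filter (· ∈ regCent p (P : Subgroup G)), f z) =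
      ∑ k : K, f ((k : C) : G) := fun f => by
    rw [Finset.sum_subtype (p := fun z => z ∈ regCent p (P : Subgroup G)) _ (by simp) f]
    exact (Fintype.sum_equiv eR _ _ fun k => rfl).symm
  -- the principal character is a unit at `y`
  have hyunit : ¬ MemLocalIdeal M (omega ((oneChar G : IrrCharacter G) : G → ℂ) y) := by
    intro h
    have h2 := memLocalIdeal_sub h (sum_congr_regCent hM P.2 y (hinvP hy) hy.2 hysing)
    rw [omega_eq_sum] at h2
    simp only [oneChar, mul_one, div_one, sub_sub_cancel, hsumK, hyK] at h2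
    rw [Finset.sum_const, nsmul_one, Finset.card_univ, ← Nat.card_eq_fintype_card] at h2
    exact hKp ((memLocalIdeal_natCast_iff hM _).mp h2)
  obtain ⟨b, hb, hyb⟩ := exists_conv_eq_blockCoeff hM hB hy h1B hyunit
  -- functionals attached to the characters of `K`
  let F : (G → ℂ) → K → ℂ := fun f k => f ((k : C) : G)
  have hFclass : IsClassFunction K (F a) := fun g h => by
    simpa [F] using ha.1 ((g : C) : G) ((h : C) : G)
  have hphi : ∀ ψ : IrrCharacter K, MemLocalIdeal M
      (omega (ψ : K → ℂ) (F a) - if ψ = oneChar K then 1 else 0) := by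
    intro ψ
    let ψC : IrrCharacter C := ⟨fun x => (ψ : K → ℂ) (π x),
      CharCore.isIrrCharacter_comp_surjective ψ.2 π fun k => ⟨(k : C), hπ k⟩⟩
    have hψint : ∀ x : C, MemLocalRing M ((ψC : C → ℂ) x) := fun x =>
      memLocalRing_of_isIntegral (isIntegral_irr ψC x)
    have hd : MemLocalRing M ((ψC : C → ℂ) 1)⁻¹ := by
      have e : (ψC : C → ℂ) 1 = (ψ : K → ℂ) 1 := by show (ψ : K → ℂ) (π 1) = _; rw [map_one]
      obtain ⟨d, hd0, hdd, hd⟩ := CharClifford.exists_degree_dvd_card ψ.2
      rw [e, hd]
      exact memLocalRing_natCast_inv hM fun h => hKp (h.trans hdd)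
    have hres : ∀ {f : G → ℂ}, (∀ g, p ∣ orderOf g → f g = 0) →
        omega (ψC : C → ℂ) (fun x : C => f x) = omega (ψ : K → ℂ) (F f) := by
      intro f hf
      rw [omega_eq_sum, omega_eq_sum]
      have e : (ψC : C → ℂ) 1 = (ψ : K → ℂ) 1 := by show (ψ : K → ℂ) (π 1) = _; rw [map_one]
      rw [e]
      congr 1
      rw [← Finset.sum_filter_add_sum_filter_not Finset.univ (fun x : C => x ∈ K),
        Finset.sum_eq_zero (s := Finset.univ.filter (fun x : C => ¬ x ∈ K)) (fun x hx => by
          rw [hf (x : G) (by rw [hordC]; exact not_not.mp ((hK x).not.mp (Finset.mem_filter.mp hx).2)), zero_mul]),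
        add_zero, Finset.sum_subtype (p := fun x : C => x ∈ K) _ (by simp) (fun x => f (x : G) * (ψC : C → ℂ) x)]
      exact Finset.sum_congr rfl fun k _ => by show _ * (ψ : K → ℂ) (π (k : C)) = _; rw [hπ]
    by_cases h1 : ψ = oneChar K
    · rw [if_pos h1, h1]
      have hω : omega ((oneChar G : IrrCharacter G) : G → ℂ) a = 1 := by
        rw [hadef, omega_blockCoeff, Set.indicator_of_mem h1B, Pi.one_apply]
      have h2 := sum_congr_regCent hM P.2 a (hinvP ha) ha.2 hsing
      rw [omega_eq_sum] at hω
      simp only [oneChar, mul_one, div_one] at hω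
      rw [hω, hsumK] at h2
      have h3 := memLocalIdeal_neg h2
      rw [omega_eq_sum]
      simpa [oneChar, F] using h3
    · rw [if_neg h1, sub_zero]
      -- `a = y * b` and `ψ` kills `y`
      have hyψ : omega (ψC : C → ℂ) (fun x : C => y x) = 0 := by
        rw [hres hysing, omega_eq_sum]
        have horth := CharCore.classInner_irr_of_ne h1
        rw [classInner, mul_eq_zero] at horth
        rcases horth with h | h
        · simp at h
        · simp only [oneChar, map_one, mul_one] at h
          simp [F, hyK, h]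
      rw [← hres hsing]
      have hdiff : MemLocalIdeal M (omega (ψC : C → ℂ) (fun x : C => a x) -
          omega (ψC : C → ℂ) (conv (fun x : C => y x) (fun x : C => b x))) := by
        rw [omega_eq_sum, omega_eq_sum, ← sub_div, ← Finset.sum_sub_distrib, div_eq_mul_inv]
        refine memLocalIdeal_mul_right (memLocalIdeal_sum fun x _ => ?_) hd
        rw [← sub_mul]
        refine memLocalIdeal_mul_right ?_ (hψint x)
        have h := memLocalIdeal_convSum_sub hM P.2 y b (hinvP hy) (hinvP hb) hy.2 hb.2 x.2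
        rw [show a x = conv y b (x : G) by rw [hyb], conv_apply, conv_apply]
        convert h using 3
        rw [Finset.sum_subtype (p := fun z => z ∈ C) (Finset.univ.filter (· ∈ C)) (by simp)]
        rfl
      rwa [omega_conv ψC (isClassFunction_restrict' hy.1) (isClassFunction_restrict' hb.1), hyψ, zero_mul,
        sub_zero] at hdiff
  -- expand on `K`
  have hKne : (Nat.card K : ℂ) ≠ 0 := Nat.cast_ne_zero.mpr Nat.card_pos.ne'
  obtain ⟨k, hk⟩ : ∃ k : K, ((k : C) : G) = c := ⟨eR.symm ⟨c, hc⟩, rfl⟩
  rw [hcard, ← hk]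
  show MemLocalIdeal M (F a k - _)
  have hexp := congrFun (CharCore.eq_sum_classInner hFclass) k
  simp only [Finset.sum_apply, Pi.smul_apply, smul_eq_mul] at hexp
  have hterm : ∀ ψ : IrrCharacter K, classInner (F a) (ψ : K → ℂ) =
      (Nat.card K : ℂ)⁻¹ * ((ψ : K → ℂ) 1 * omega ((⟨_, CharCore.isIrrCharacter_star ψ.2⟩ : IrrCharacter K) : K → ℂ) (F a)) := by
    intro ψ
    rw [classInner, omega_eq_sum]
    have hone : conj ((ψ : K → ℂ) 1) = (ψ : K → ℂ) 1 := by
      rw [BlocksCore.irr_one_eq]; simp
    simp only [hone]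
    rw [mul_div_cancel₀ _ (BlocksCore.irr_one_ne_zero ψ)]
  simp only [hterm] at hexp
  have hone : (Nat.card K : ℂ)⁻¹ = ∑ ψ : IrrCharacter K, (Nat.card K : ℂ)⁻¹ *
      ((ψ : K → ℂ) 1 * (if ψ = oneChar K then 1 else 0)) * (ψ : K → ℂ) k := by
    rw [Finset.sum_eq_single (oneChar K) (fun ψ _ hne => by rw [if_neg hne, mul_zero, mul_zero, zero_mul]) (by simp)]
    simp [oneChar]
  rw [hexp]
  refine (congrArg (fun z => MemLocalIdeal M (_ - z)) hone).mpr ?_
  rw [← Finset.sum_sub_distrib]
  refine memLocalIdeal_sum fun ψ _ => ?_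
  rw [← sub_mul, ← mul_sub, ← mul_sub]
  refine memLocalIdeal_mul_right (memLocalIdeal_mul_left (memLocalRing_natCast_inv hM hKp)
    (memLocalIdeal_mul_left (memLocalRing_of_isIntegral (isIntegral_irr ψ 1)) ?_))
    (memLocalRing_of_isIntegral (isIntegral_irr ψ k))
  have h := hphi ⟨_, CharCore.isIrrCharacter_star ψ.2⟩
  convert h using 3
  simp only [Subtype.ext_iff, oneChar, eq_iff_iff]
  constructor
  · intro h'; funext x; rw [h']; simp
  · intro h'; funext x; simpa using congrArg conj (congrFun h' x)

end Cfsg.Agent.BC84
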