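import Cfsg.Agent.BC84.PrincipalCoeff
import Cfsg.Agent.Lib.CharInd.Char
import Cfsg.Agent.Lib.CharCore.Virtual
import Cfsg.Agent.BC84.Extensions

/-!
# The principal block part of an induced character
-/

set_option autoImplicit false
set_option linter.unusedSectionVars false

namespace Cfsg.Agent.BC84

open BlocksCore BlocksDefect
open scoped ComplexConjugate

variable {G : Type*} [Group G] [Fintype G] {p : ℕ} {M : Ideal AlgInt}

theorem sum_blockCoeff_normal_not_mem [Fact p.Prime] (hM : IsPModular p M) (N : Subgroup G) [N.Normal]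
    [Fintype N] : ¬ MemLocalIdeal M (∑ n : N, blockCoeff (principalBlock M G) (n : G)) := by
  classical
  have := isPrime hM
  obtain ⟨P⟩ : Nonempty (Sylow p G) := inferInstance
  set a := blockCoeff (principalBlock M G) with hadef
  have ha : IsIntClassFun M a := isIntClassFun_blockCoeff hM (isPBlock_blockOf (oneChar G))
  have hsing : ∀ g, p ∣ orderOf g → a g = 0 := fun g hg =>
    blockCoeff_eq_zero_of_dvd_orderOf hM (isPBlock_blockOf (oneChar G)) hg
  intro hmem
  let f : G → ℂ := fun g => if g ∈ N then a g else 0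
  have hf : ∀ g, MemLocalRing M (f g) := fun g => by
    show MemLocalRing M (if g ∈ N then a g else 0)
    split_ifs
    · exact ha.2 g
    · exact (localRing M).zero_mem
  have hfinv : ∀ u ∈ (P : Subgroup G), ∀ z, f (u * z * u⁻¹) = f z := by
    intro u _ z
    show (if u * z * u⁻¹ ∈ N then a (u * z * u⁻¹) else 0) = if z ∈ N then a z else 0
    rw [ha.1 z u]
    have : u * z * u⁻¹ ∈ N ↔ z ∈ N := ⟨fun h => by
      simpa [mul_assoc] using (inferInstance : N.Normal).conj_mem _ h u⁻¹, fun h => (inferInstance : N.Normal).conj_mem z h u⟩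
    simp only [this]
  have h := sum_congr_regCent hM P.2 f hfinv hf (fun z hz => by
    show (if z ∈ N then a z else 0) = 0
    rw [hsing z hz]; simp)
  have hsum : ∑ z, f z = ∑ n : N, a n := by
    show ∑ z, (if z ∈ N then a z else 0) = _
    rw [← Finset.sum_filter]
    exact Finset.sum_subtype _ (by simp) a
  rw [hsum] at h
  have h2 := memLocalIdeal_sub hmem h
  rw [sub_sub_cancel] at h2
  -- the count of regular elements of `N` centralising `P`
  set R := Finset.univ.filter (fun z => z ∈ regCent p (P : Subgroup G)) with hR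
  set S := R.filter (fun z => z ∈ N) with hS
  have h3 : MemLocalIdeal M (∑ z ∈ S, a z) := by
    have e : ∑ z ∈ S, a z = ∑ z ∈ R, f z := by
      show _ = ∑ z ∈ R, (if z ∈ N then a z else 0)
      rw [← Finset.sum_filter]
    rwa [e]
  set r : ℂ := (Nat.card (regCent p (P : Subgroup G)) : ℂ)⁻¹ with hr
  have h4 : MemLocalIdeal M (∑ z ∈ S, (a z - r)) := memLocalIdeal_sum fun z hz =>
    (blockCoeff_principal_congr hM P (Finset.mem_filter.mp (Finset.mem_filter.mp hz).1).2).1
  have h5 := memLocalIdeal_sub h3 h4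
  rw [Finset.sum_sub_distrib, sub_sub_cancel, Finset.sum_const, nsmul_eq_mul] at h5
  have h1R : (1 : G) ∈ regCent p (P : Subgroup G) :=
    ⟨one_mem _, by rw [orderOf_one]; exact hM.1.not_dvd_one⟩
  have hnR := (blockCoeff_principal_congr hM P h1R).2
  have hne : (Nat.card (regCent p (P : Subgroup G)) : ℂ) ≠ 0 := by
    rw [Nat.cast_ne_zero]; intro h0; rw [h0] at hnR; exact hnR (dvd_zero p)
  have h6 := memLocalIdeal_mul_right h5 (memLocalRing_natCast (Nat.card (regCent p (P : Subgroup G))))
  rw [mul_assoc, hr, inv_mul_cancel₀ hne, mul_one, memLocalIdeal_natCast_iff hM] at h6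
  -- the count divides the order of a group of order prime to `p`
  set C := Subgroup.centralizer ((P : Subgroup G) : Set G) with hC
  obtain ⟨K, hK, hKp, -⟩ : ∃ K : Subgroup C, (∀ c, c ∈ K ↔ ¬ p ∣ orderOf c) ∧ ¬ p ∣ Nat.card K ∧
      ∃ π : C →* K, ∀ k : K, π (k : _) = k := exists_regular_centralizer P
  have hord : ∀ x : C, orderOf (x : G) = orderOf x := fun x =>
    orderOf_injective C.subtype (Subgroup.subtype_injective C) x
  set L := K ⊓ N.subgroupOf C with hL
  have hcard : S.card = Nat.card L := by
    rw [← Nat.card_eq_finsetCard]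
    refine Nat.card_congr
      { toFun := fun z => ⟨⟨z.1, (Finset.mem_filter.mp (Finset.mem_filter.mp z.2).1).2.1⟩,
          (hK _).mpr (by rw [← hord]; exact (Finset.mem_filter.mp (Finset.mem_filter.mp z.2).1).2.2),
          (Finset.mem_filter.mp z.2).2⟩
        invFun := fun l => ⟨((l : C) : G), Finset.mem_filter.mpr ⟨Finset.mem_filter.mpr
          ⟨Finset.mem_univ _, (l : C).2, by rw [hord]; exact (hK _).mp l.2.1⟩, l.2.2⟩⟩
        left_inv := fun _ => rfl
        right_inv := fun _ => rfl }
  rw [hcard] at h6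
  exact hKp (h6.trans (Subgroup.card_dvd_of_le inf_le_left))

/-- The degree of the principal block part of a character induced from a character of `H`, where
`H / N` is a `p`-group, `H` has index prime to `p` and the restriction to `N` is a character in
the principal block of degree prime to `p`, is prime to `p`. -/
theorem principalPart_indFun_not_mem [Fact p.Prime] (hM : IsPModular p M) (N : Subgroup G) [N.Normal]
    [Fintype N] (H : Subgroup G) (hNH : N ≤ H) (hHN : ∀ h ∈ H, ¬ p ∣ orderOf h → h ∈ N)
    (hidx : ¬ p ∣ H.index) (θ : IrrCharacter N) (hθ : θ ∈ principalBlock M N)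
    (hdeg : ¬ p ∣ charDegree (θ : N → ℂ)) (η : H → ℂ)
    (hη : ∀ n : N, η ⟨n, hNH n.2⟩ = (θ : N → ℂ) n) :
    ¬ MemLocalIdeal M (∑ χ : IrrCharacter G, (principalBlock M G).indicator 1 χ *
      (classInner (indFun H η) (χ : G → ℂ) * (χ : G → ℂ) 1)) := by
  classical
  have := isPrime hM
  set a := blockCoeff (principalBlock M G) with hadef
  have hB : IsPBlock M (principalBlock M G) := isPBlock_blockOf (oneChar G)
  have ha : IsIntClassFun M a := isIntClassFun_blockCoeff hM hB
  have hsing : ∀ g, p ∣ orderOf g → a g = 0 := fun g hg => blockCoeff_eq_zero_of_dvd_orderOf hM hB hg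
  set Φ := indFun H η with hΦ
  have e1 : ∑ χ : IrrCharacter G, (principalBlock M G).indicator 1 χ *
      (classInner Φ (χ : G → ℂ) * (χ : G → ℂ) 1) = ∑ g, a g * Φ g := by
    have hexp : Φ = _ := CharCore.eq_sum_classInner (CharInd.isClassFunction_indFun H η)
    conv_rhs => rw [hexp]
    simp only [Finset.sum_apply, Pi.smul_apply, smul_eq_mul, Finset.mul_sum]
    rw [Finset.sum_comm]
    refine Finset.sum_congr rfl fun χ _ => ?_
    have h := omega_blockCoeff (principalBlock M G) χ
    rw [omega_eq_sum, div_eq_iff (BlocksCore.irr_one_ne_zero χ)] at h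
    calc _ = classInner Φ (χ : G → ℂ) * ((principalBlock M G).indicator 1 χ * (χ : G → ℂ) 1) := by ring
      _ = _ := by rw [← h, Finset.mul_sum]; exact Finset.sum_congr rfl fun g _ => by ring
  have e2 : ∑ g, a g * Φ g = ∑ n : N, a n * Φ n := by
    rw [← Finset.sum_filter_add_sum_filter_not Finset.univ (fun g => g ∈ N),
      Finset.sum_eq_zero (s := Finset.univ.filter (fun g => ¬ g ∈ N)) (fun g hg => ?_), add_zero]
    · exact Finset.sum_subtype _ (by simp) (fun g => a g * Φ g)
    · by_cases hg' : p ∣ orderOf g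
      · rw [hsing g hg', zero_mul]
      · rw [hΦ, CharInd.indFun_eq_zero_of_forall_notMem H η fun x hx => (Finset.mem_filter.mp hg).2 ?_, mul_zero]
        have h1 : orderOf (x⁻¹ * g * x) = orderOf g := by
          have := (MulAut.conj x⁻¹).orderOf_eq g
          simpa using this
        have h2 := (inferInstance : N.Normal).conj_mem _ (hHN _ hx (by rw [h1]; exact hg')) x
        simpa [mul_assoc] using h2
  have hθ1 : (θ : N → ℂ) 1 ≠ 0 := BlocksCore.irr_one_ne_zero θ
  set T := ∑ n : N, a n * (θ : N → ℂ) n with hT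
  have e3 : ∑ n : N, a n * Φ n = (H.index : ℂ) * T := by
    have hΦn : ∀ n : N, Φ n = (Nat.card H : ℂ)⁻¹ * ∑ x : G, (θ : N → ℂ) ((MulAut.conjNormal x⁻¹ : MulAut N) n) := by
      intro n
      rw [hΦ, CharInd.indFun_apply]
      congr 1
      refine Finset.sum_congr rfl fun x _ => ?_
      have hmem : x⁻¹ * (n : G) * x ∈ N := by
        simpa using (inferInstance : N.Normal).conj_mem _ n.2 x⁻¹
      rw [CharInd.extendByZero_mem _ (hNH hmem)]
      refine (hη ⟨_, hmem⟩).trans ?_
      exact congrArg (θ : N → ℂ) (Subtype.ext (by rw [MulAut.conjNormal_apply, inv_inv]))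
    have hx : ∀ x : G, ∑ n : N, a n * (θ : N → ℂ) ((MulAut.conjNormal x⁻¹ : MulAut N) n) = T := by
      intro x
      refine Fintype.sum_equiv (MulAut.conjNormal x⁻¹ : MulAut N).toEquiv _ _ fun n => ?_
      show _ = a (((MulAut.conjNormal x⁻¹ : MulAut N) n : N) : G) * _
      congr 1
      rw [MulAut.conjNormal_apply, ha.1 (n : G) x⁻¹]
    calc ∑ n : N, a n * Φ n = ∑ n : N, a n * ((Nat.card H : ℂ)⁻¹ * ∑ x : G, (θ : N → ℂ) ((MulAut.conjNormal x⁻¹ : MulAut N) n)) := by
          simp only [hΦn]
      _ = (Nat.card H : ℂ)⁻¹ * ∑ x : G, ∑ n : N, a n * (θ : N → ℂ) ((MulAut.conjNormal x⁻¹ : MulAut N) n) := by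
          simp only [Finset.mul_sum]; rw [Finset.sum_comm]
          exact Finset.sum_congr rfl fun _ _ => Finset.sum_congr rfl fun _ _ => by ring
      _ = _ := by
          rw [Finset.sum_congr rfl fun x _ => hx x, Finset.sum_const, nsmul_eq_mul, ← mul_assoc,
            Finset.card_univ, ← Nat.card_eq_fintype_card, ← H.card_mul_index]
          push_cast
          field_simp
  rw [e1, e2, e3]
  have hA : IsIntClassFun M (fun n : N => a n) := ⟨isClassFunction_restrict ha.1, fun n => ha.2 n⟩
  have h1 : ¬ MemLocalIdeal M (omega (θ : N → ℂ) (fun n : N => a n)) := by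
    intro h
    have h2 := memLocalIdeal_sub h (omega_sub_memLocalIdeal ((mem_principalBlock_iff θ).mp hθ) hA)
    rw [sub_sub_cancel, omega_eq_sum] at h2
    refine sum_blockCoeff_normal_not_mem hM N ?_
    simpa [oneChar] using h2
  intro h
  have hT' : T = (charDegree (θ : N → ℂ) : ℂ) * omega (θ : N → ℂ) (fun n : N => a n) := by
    rw [omega_eq_sum, ← BlocksCore.irr_one_eq, mul_div_cancel₀ _ hθ1]
  rw [hT'] at h
  rcases memLocalIdeal_mem_or_mem (memLocalRing_natCast _)
    ((localRing M).mul_mem (memLocalRing_natCast _) (omega_memLocalRing θ hA)) h with h' | h'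
  · exact hidx ((memLocalIdeal_natCast_iff hM _).mp h')
  rcases memLocalIdeal_mem_or_mem (memLocalRing_natCast _) (omega_memLocalRing θ hA) h' with h'' | h''
  · exact hdeg ((memLocalIdeal_natCast_iff hM _).mp h'')
  · exact h1 h''

/-- A normal subgroup of order prime to `p` lies in the kernel of every character of the principal block. -/
theorem apply_eq_degree_of_mem_principalBlock (hM : IsPModular p M) (N : Subgroup G) [N.Normal]
    [Fintype N] (hN : ¬ p ∣ Nat.card N) (χ : IrrCharacter G) (hχ : χ ∈ principalBlock M G) :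
    ∀ n : N, (χ : G → ℂ) n = (χ : G → ℂ) 1 := by
  classical
  have := isPrime hM
  refine apply_eq_degree_of_sum_ne_zero χ N fun h0 => ?_
  let A : G → ℂ := fun g => if g ∈ N then (Nat.card N : ℂ)⁻¹ else 0
  have hA : IsIntClassFun M A := by
    refine ⟨fun g h => ?_, fun g => ?_⟩
    · have : h * g * h⁻¹ ∈ N ↔ g ∈ N := ⟨fun hh => by
        simpa [mul_assoc] using (inferInstance : N.Normal).conj_mem _ hh h⁻¹,
        fun hh => (inferInstance : N.Normal).conj_mem g hh h⟩
      simp only [A, this]
    · simp only [A]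
      split_ifs
      · exact memLocalRing_natCast_inv hM hN
      · exact (localRing M).zero_mem
  have h := omega_sub_memLocalIdeal ((mem_principalBlock_iff χ).mp hχ) hA
  have hs : ∀ φ : G → ℂ, ∑ g, A g * φ g = (Nat.card N : ℂ)⁻¹ * ∑ n : N, φ n := fun φ => by
    simp only [A, ite_mul, zero_mul]
    rw [← Finset.sum_filter, Finset.mul_sum]
    exact Finset.sum_subtype _ (by simp) (fun g => (Nat.card N : ℂ)⁻¹ * φ g)
  rw [omega_eq_sum, omega_eq_sum, hs, hs, h0] at h
  simp [oneChar, Nat.card_eq_fintype_card] at h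
  exact not_memLocalIdeal_one (by simpa using memLocalIdeal_neg h)

end Cfsg.Agent.BC84
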