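import Cfsg.Agent.BC84.Orbit
import Cfsg.Agent.Lib.CharCore.Basic
import Mathlib.Data.Nat.ModEq
import Mathlib.Data.Nat.Factorization.Basic

/-!
# Characters of odd degree that are real on elements of odd order lie in the principal 2-block
-/

set_option autoImplicit false
set_option linter.unusedSectionVars false

namespace Cfsg.Agent.BC84

open BlocksCore

variable {G : Type*} [Group G] [Fintype G] {M : Ideal AlgInt}

/-- The principal character. -/
noncomputable def oneChar (G : Type*) [Group G] : IrrCharacter G :=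
  ⟨fun _ => 1, CharCore.isIrrCharacter_one⟩

theorem centralChar_one (g : G) :
    centralChar ((oneChar G : IrrCharacter G) : G → ℂ) g =
      ((Subgroup.centralizer ({g} : Set G)).index : ℂ) := by
  simp [centralChar, oneChar]

theorem mem_principalBlock_iff [M.IsPrime] (χ : IrrCharacter G) :
    χ ∈ principalBlock M G ↔ SameBlock M (χ : G → ℂ) ((oneChar G : IrrCharacter G) : G → ℂ) :=
  ⟨fun h => sameBlock_symm h, fun h => sameBlock_symm h⟩

/-- Congruent powers have congruent character values. -/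
theorem congr_pow {p : ℕ} (hM : IsPModular p M) {χ : G → ℂ} (hχ : IsCharacter G χ) {g : G} {j a : ℕ}
    (h : j * p ^ a ≡ p ^ a [MOD orderOf g]) : MemLocalIdeal M (χ (g ^ j) - χ g) := by
  have := isPrime hM
  obtain ⟨n, ρ, rfl⟩ := hχ
  obtain ⟨b, μ, hμ, -, hchar⟩ :=
    CharClifford.exists_eigenvalues ρ g (orderOf_pos g).ne' (pow_orderOf_eq_one g)
  have h1 : ρ.character g = ∑ i, μ i := by
    have := hchar 1
    simpa only [pow_one] using this
  rw [hchar j, h1, ← Finset.sum_sub_distrib]
  refine memLocalIdeal_sum fun i _ => ?_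
  have hne : μ i ≠ 0 := fun h0 => by
    have := hμ i
    rw [h0, zero_pow (orderOf_pos g).ne'] at this
    exact zero_ne_one this
  have hint : IsIntegral ℤ (μ i) :=
    IsIntegral.of_pow (R := ℤ) (orderOf_pos g) (hμ i ▸ isIntegral_one)
  have hu : (μ i ^ j / μ i) ^ p ^ a = 1 := by
    have hmod : μ i ^ (j * p ^ a) = μ i ^ (p ^ a) := by
      have e : ∀ t : ℕ, μ i ^ t = μ i ^ (t % orderOf g) := fun t => by
        conv_lhs => rw [← Nat.mod_add_div t (orderOf g), pow_add, pow_mul, hμ, one_pow, mul_one]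
      rw [e (j * p ^ a), e (p ^ a)]
      rw [show j * p ^ a % orderOf g = p ^ a % orderOf g from h]
    rw [div_pow, ← pow_mul, hmod, div_self (pow_ne_zero _ hne)]
  have := memLocalIdeal_mul_left (memLocalRing_of_isIntegral (M := M) hint) (memLocalIdeal_sub_one_of_pow hM hu)
  convert this using 1
  field_simp

theorem isConj_conj_parts {g h : G} (hgh : IsConj g h) (j : ℕ) : IsConj (g ^ j) (h ^ j) := hgh.pow j

/-- A class inverse to itself, of a non-trivial element of odd order, has even size. -/
theorem two_dvd_index_of_real {v : G} (hodd : Odd (orderOf v)) (hv : v ≠ 1) (hr : IsConj v v⁻¹) :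
    2 ∣ (Subgroup.centralizer ({v} : Set G)).index := by
  classical
  rw [← BlocksDefect.natCard_isConj, Nat.card_eq_fintype_card]
  let f : Function.End {x : G // IsConj v x} := fun x => ⟨x.1⁻¹, by
    obtain ⟨c, hc⟩ := isConj_iff.mp x.2
    exact hr.trans (isConj_iff.mpr ⟨c, by rw [← hc]; group⟩)⟩
  have hf : (f ^ (2 ^ 1) : Function.End _) = 1 := funext fun x => Subtype.ext (inv_inv x.1)
  have := Fact.mk Nat.prime_two
  have hmod := Equiv.Perm.card_fixedPoints_modEq hf
  have hzero : Fintype.card (Function.fixedPoints f) = 0 :=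
    Fintype.card_eq_zero_iff.mpr ⟨fun x => by
      have h : (x.1.1)⁻¹ = x.1.1 := congrArg Subtype.val x.2
      have h2 : x.1.1 ^ 2 = 1 := by rw [pow_two]; nth_rw 1 [← h]; exact inv_mul_cancel _
      obtain ⟨c, hc⟩ := isConj_iff.mp x.1.2
      have h3 : v ^ 2 = 1 := by
        rw [← hc, conj_pow, conj_eq_one_iff] at h2
        exact h2
      have h4 := orderOf_dvd_of_pow_eq_one h3
      rcases (Nat.dvd_prime Nat.prime_two).mp h4 with h5 | h5
      · exact hv (orderOf_eq_one_iff.mp h5)
      · rw [h5] at hodd; exact absurd hodd (by decide)⟩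
  rw [hzero] at hmod
  exact Nat.modEq_zero_iff_dvd.mp hmod

/-- Exponents picking the odd part and inverting it. -/
theorem exists_exponents (G : Type*) [Group G] [Finite G] :
    ∃ j k : ℕ, k.Coprime (Nat.card G) ∧ (∀ g : G, g ^ k ^ 2 = g) ∧
      (∀ g : G, j * 2 ^ (Nat.card G).factorization 2 ≡ 2 ^ (Nat.card G).factorization 2 [MOD orderOf g]) ∧
      (∀ g : G, Odd (orderOf (g ^ j))) ∧ (∀ g : G, (g ^ k) ^ j = (g ^ j)⁻¹) ∧
      (∀ g : G, g ^ j = 1 → g ^ k = g) ∧
      (∀ g : G, Odd (orderOf g) → g ^ j = g) := by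
  set N := Nat.card G with hN
  have hN0 : N ≠ 0 := Nat.card_pos.ne'
  set A := 2 ^ N.factorization 2 with hA
  set m := N / A with hm
  have hAm : A * m = N := Nat.ordProj_mul_ordCompl_eq_self N 2
  have hodd : Odd m := Nat.odd_iff.mpr (Nat.two_dvd_ne_zero.mp (Nat.not_dvd_ordCompl Nat.prime_two hN0))
  have hcop : Nat.Coprime A m := (Nat.coprime_two_left.mpr hodd).pow_left _
  obtain ⟨k, hk1, hk2⟩ := Nat.chineseRemainder hcop 1 (m - 1)
  obtain ⟨j, hj1, hj2⟩ := Nat.chineseRemainder hcop 0 1
  have hmpos : 0 < m := Nat.pos_of_ne_zero fun h => by rw [h] at hAm; simp at hAm; exact hN0 hAm.symm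
  have hk2' : (k : ℕ) + 1 ≡ 0 [MOD m] := by
    have := hk2.add_right 1
    rw [Nat.sub_add_cancel hmpos] at this
    exact this.trans (Nat.modEq_zero_iff_dvd.mpr dvd_rfl)
  have hkk : k ^ 2 ≡ 1 [MOD N] := by
    rw [← hAm]
    refine (Nat.modEq_and_modEq_iff_modEq_mul hcop).mp ⟨by simpa using hk1.pow 2, ?_⟩
    have h1 : k ^ 2 + (k + 1) ≡ 1 + (k + 1) [MOD m] := by
      have e : k ^ 2 + (k + 1) = k * (k + 1) + 1 := by ring
      rw [e]
      have := ((hk2'.mul_left k).add_right 1).trans (hk2'.symm.add_left 1)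
      simpa using this
    exact Nat.ModEq.add_right_cancel' _ h1
  have hpow : ∀ (g : G) (a b : ℕ), a ≡ b [MOD N] → g ^ a = g ^ b := fun g a b h =>
    pow_eq_pow_iff_modEq.mpr (h.of_dvd (orderOf_dvd_natCard g))
  refine ⟨j, k, ?_, fun g => ?_, fun g => ?_, fun g => ?_, fun g => ?_, fun g hg => ?_, fun g hg => ?_⟩
  · have h := Nat.ModEq.gcd_eq hkk
    rw [Nat.gcd_one_left] at h
    exact (Nat.coprime_pow_left_iff (by norm_num) k N).mp (Nat.coprime_iff_gcd_eq_one.mpr h)
  · rw [hpow g _ 1 hkk, pow_one]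
  · have h := hj2.mul_right' A
    rw [one_mul, mul_comm m, hAm] at h
    exact h.of_dvd (orderOf_dvd_natCard g)
  · have h1 : orderOf (g ^ j) ∣ m := orderOf_dvd_of_pow_eq_one (by
      rw [← pow_mul, hpow g (j * m) 0 ?_, pow_zero]
      have h := hj1.mul_right' m
      rwa [zero_mul, hAm] at h)
    exact hodd.of_dvd_nat h1
  · rw [← pow_mul, eq_inv_iff_mul_eq_one, ← pow_add, hpow g _ 0 ?_, pow_zero]
    rw [← hAm]
    refine (Nat.modEq_and_modEq_iff_modEq_mul hcop).mp ⟨?_, ?_⟩
    · simpa using (hj1.mul_left k).add hj1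
    · rw [show k * j + j = (k + 1) * j by ring]
      simpa using hk2'.mul_right j
  · have hgA : orderOf g ∣ A := by
      have h1 : orderOf g ∣ N := orderOf_dvd_natCard g
      have h2 : orderOf g ∣ j := orderOf_dvd_of_pow_eq_one hg
      have h3 : Nat.Coprime (orderOf g) m := by
        refine Nat.coprime_of_dvd' fun r _ hr hrm => ?_
        have := (hj2.of_dvd hrm)
        exact Nat.modEq_zero_iff_dvd.mp (this.symm.trans (Nat.modEq_zero_iff_dvd.mpr (hr.trans h2)))
      exact h3.dvd_of_dvd_mul_right (hAm.symm ▸ h1)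
    rw [pow_eq_pow_iff_modEq.mpr (hk1.of_dvd hgA), pow_one]
  · have hgm : orderOf g ∣ m := by
      have h1 : orderOf g ∣ A * m := hAm.symm ▸ orderOf_dvd_natCard g
      exact ((Nat.coprime_two_left.mpr hg).pow_left _).symm.dvd_of_dvd_mul_left h1
    rw [pow_eq_pow_iff_modEq.mpr (hj2.of_dvd hgm), pow_one]

/-- An irreducible character of odd degree whose values on elements of odd order are, up to the
class sizes, invariant modulo `M` under inversion lies in the principal 2-block. -/
theorem mem_principalBlock_of_odd (hM : IsPModular 2 M) (χ : IrrCharacter G)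
    (hodd : Odd (charDegree (χ : G → ℂ)))
    (hreal : ∀ v : G, Odd (orderOf v) → MemLocalIdeal M
      (((Subgroup.centralizer ({v} : Set G)).index : ℂ) * ((χ : G → ℂ) v⁻¹ - (χ : G → ℂ) v))) :
    χ ∈ principalBlock M G := by
  have := isPrime hM
  rw [mem_principalBlock_iff]
  obtain ⟨j, k, hk, hkk, hj, hjodd, hkj, hj1, -⟩ := exists_exponents G
  have hχ := CharClifford.isCharacter_of_isIrrCharacter χ.2
  have hd : MemLocalRing M ((χ : G → ℂ) 1)⁻¹ := by
    rw [BlocksCore.irr_one_eq]
    exact memLocalRing_natCast_inv hM fun h => (Nat.not_even_iff_odd.mpr hodd) (even_iff_two_dvd.mpr h)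
  have hred : ∀ g : G, MemLocalIdeal M ((χ : G → ℂ) (g ^ j) - (χ : G → ℂ) g) := fun g =>
    congr_pow hM hχ (hj g)
  refine sameBlock_of_fixed_classes hM (s := 1) hk (fun g => ?_) χ (oneChar G) (fun g => ?_) (fun g => ?_) ?_
  · rw [pow_one, hkk]
  · -- invariance
    rw [centralChar, centralChar, centralizer_pow_of_coprime hk, ← sub_div, div_eq_mul_inv, ← mul_sub]
    refine memLocalIdeal_mul_right ?_ hd
    have hle : Subgroup.centralizer ({g} : Set G) ≤ Subgroup.centralizer ({g ^ j} : Set G) := fun x hx =>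
      Subgroup.mem_centralizer_singleton_iff.mpr
        (Commute.pow_right (Subgroup.mem_centralizer_singleton_iff.mp hx : Commute x g) j).eq
    obtain ⟨c, hc⟩ := Subgroup.index_dvd_of_le hle
    have h1 := memLocalIdeal_mul_left (memLocalRing_natCast (M := M) c) (hreal _ (hjodd g))
    rw [← mul_assoc, ← Nat.cast_mul, mul_comm c, ← hc] at h1
    have h2 := memLocalIdeal_mul_left (memLocalRing_natCast (M := M) (Subgroup.centralizer ({g} : Set G)).index)
      (memLocalIdeal_sub (hred g) (hred (g ^ k)))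
    rw [hkj] at h2
    convert memLocalIdeal_add h1 h2 using 1
    ring
  · rw [centralChar_one, centralChar_one, centralizer_pow_of_coprime hk, sub_self]
    exact memLocalIdeal_zero
  · intro g hg
    rw [centralChar_one, centralChar]
    by_cases hv : g ^ j = 1
    · have h := hred g
      rw [hv, ← neg_sub] at h
      have h2 := memLocalIdeal_mul_right (memLocalIdeal_mul_left
        (memLocalRing_natCast (M := M) (Subgroup.centralizer ({g} : Set G)).index) (memLocalIdeal_neg h)) hd
      convert h2 using 1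
      field_simp [BlocksCore.irr_one_ne_zero χ]
    · have hr : IsConj (g ^ j) (g ^ j)⁻¹ := hkj g ▸ hg.pow j
      have h2 := two_dvd_index_of_real (hjodd g) hv hr
      have hle : Subgroup.centralizer ({g} : Set G) ≤ Subgroup.centralizer ({g ^ j} : Set G) := fun x hx =>
        Subgroup.mem_centralizer_singleton_iff.mpr
          (Commute.pow_right (Subgroup.mem_centralizer_singleton_iff.mp hx : Commute x g) j).eq
      have hi : MemLocalIdeal M ((Subgroup.centralizer ({g} : Set G)).index : ℂ) :=
        (memLocalIdeal_natCast_iff hM _).mpr (h2.trans (Subgroup.index_dvd_of_le hle))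
      refine memLocalIdeal_sub ?_ hi
      rw [div_eq_mul_inv]
      exact memLocalIdeal_mul_right (memLocalIdeal_mul_right hi (memLocalRing_of_isIntegral (isIntegral_irr χ g))) hd

end Cfsg.Agent.BC84
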