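import Cfsg.Agent.BC84.TwoGalois
import Cfsg.Agent.BC84.PrincipalDegree

/-!
# Parity of the fixed points of the Galois action on the principal 2-block
-/

set_option autoImplicit false
set_option linter.unusedSectionVars false

namespace Cfsg.Agent.BC84

open BlocksCore

variable {G : Type*} [Group G] [Fintype G] {M : Ideal AlgInt}

theorem galIrr_mem_principalBlock [M.IsPrime] {k : ℕ} (hk : k.Coprime (Nat.card G)) {χ : IrrCharacter G}
    (hχ : χ ∈ principalBlock M G) : galIrr hk χ ∈ principalBlock M G := by
  rw [mem_principalBlock_iff] at hχ ⊢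
  intro g
  have h := hχ (g ^ k)
  rw [centralChar_one, centralizer_pow_of_coprime hk] at h
  have e : centralChar ((galIrr hk χ : IrrCharacter G) : G → ℂ) g = centralChar (χ : G → ℂ) (g ^ k) := by
    simp only [centralChar, galIrr_apply, one_pow, centralizer_pow_of_coprime hk]
  rw [e, centralChar_one]
  exact h

theorem galIrr_mem_principalBlock_iff [M.IsPrime] {k n : ℕ} (hk : k.Coprime (Nat.card G))
    (hn : ∀ g : G, g ^ k ^ (n + 1) = g) (χ : IrrCharacter G) :
    galIrr hk χ ∈ principalBlock M G ↔ χ ∈ principalBlock M G := by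
  refine ⟨fun h => ?_, galIrr_mem_principalBlock hk⟩
  have hall : ∀ m, (galIrr hk)^[m] (galIrr hk χ) ∈ principalBlock M G := by
    intro m
    induction m with
    | zero => exact h
    | succ m ih => rw [Function.iterate_succ_apply']; exact galIrr_mem_principalBlock hk ih
  have := hall n
  rwa [← Function.iterate_succ_apply, iterate_galIrr_eq_id hk hn, id_eq] at this

theorem charDegree_galIrr {k : ℕ} (hk : k.Coprime (Nat.card G)) (χ : IrrCharacter G) :
    charDegree ((galIrr hk χ : IrrCharacter G) : G → ℂ) = charDegree (χ : G → ℂ) := by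
  simp [charDegree, galIrr_apply]

/-- An invariant function on characters with unit sum takes a unit value at a fixed character. -/
theorem exists_fixed_not_mem (hM : IsPModular 2 M) {k s : ℕ} (hk : k.Coprime (Nat.card G))
    (hper : ∀ g : G, g ^ k ^ 2 ^ s = g) (d : IrrCharacter G → ℂ) (hd : ∀ χ, MemLocalRing M (d χ))
    (hinv : ∀ χ, d (galIrr hk χ) = d χ) (hsum : ¬ MemLocalIdeal M (∑ χ, d χ)) :
    ∃ χ : IrrCharacter G, (∀ g, (χ : G → ℂ) (g ^ k) = (χ : G → ℂ) g) ∧ ¬ MemLocalIdeal M (d χ) := by
  classical
  have := isPrime hM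
  have h := sum_congr_fixed hM (galIrr hk) (iterate_galIrr_eq_id hk hper) d hd
    (fun χ => by rw [hinv, sub_self]; exact memLocalIdeal_zero)
  by_contra hno
  push Not at hno
  refine hsum ?_
  have h2 : MemLocalIdeal M (∑ χ ∈ Finset.univ.filter (fun χ => galIrr hk χ = χ), d χ) :=
    memLocalIdeal_sum fun χ hχ => hno χ fun g =>
      congrFun (congrArg Subtype.val (Finset.mem_filter.mp hχ).2) g
  simpa using memLocalIdeal_add h h2

end Cfsg.Agent.BC84
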