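import Cfsg.Agent.BC84.Covering
import Cfsg.Agent.BC84.TwoGaloisBlock
import Cfsg.Agent.CharDeep.Ext.Wrap
import Cfsg.Agent.BlkChar.CoprimeDegree
import Cfsg.Agent.Lib.BlocksCore.WeakOrth
import Cfsg.Agent.Lib.BlocksDefect.LocalBlock
import Cfsg.Prelude.Def_Transfer

/-!
# Galois fixed characters over the residual of a cyclic quotient
-/

set_option autoImplicit false
set_option linter.unusedSectionVars false

namespace Cfsg.Agent.BC84.Residual

open BlocksCore BlocksDefect
open scoped ComplexConjugate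

variable {G : Type*} [Group G]

/-- The determinant commutes with power maps. -/
theorem detHom_comp_pow [Finite G] {χ : G → ℂ} (hχ : IsCharacter G χ) {k : ℕ}
    (hk : IsCharacter G (fun g => χ (g ^ k))) :
    CharDeep.Ext.detHom (fun g => χ (g ^ k)) = CharDeep.Ext.detHom χ ^ k := by
  obtain ⟨n, ρ, rfl⟩ := hχ
  obtain ⟨n', σ, hσ⟩ := hk
  rw [← hσ, CharDeep.Ext.detHom_eq σ, CharDeep.Ext.detHom_eq ρ]
  ext g
  obtain ⟨b, ω, hω, -, hb, hkω⟩ := CharCore.exists_eigenvalues ρ g
  obtain ⟨b', ν, hν, -, hb', hkν⟩ := CharCore.exists_eigenvalues σ g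
  show LinearMap.det (σ g) = ((CharDeep.Ext.detRep ρ g ^ k : ℂˣ) : ℂ)
  rw [Units.val_pow_eq_pow_val]
  show LinearMap.det (σ g) = LinearMap.det (ρ g) ^ k
  rw [CharDeep.Ext.det_eq_prod_eigen b ω _ hb, CharDeep.Ext.det_eq_prod_eigen b' ν _ hb', ← Finset.prod_pow]
  refine CharDeep.Ext.prod_eq_of_power_sums ν (fun i => ω i ^ k) (orderOf_pos g) hν
    (fun i => by rw [← pow_mul, mul_comm, pow_mul, hω, one_pow]) fun j => ?_
  rw [← hkν j, hσ]
  simp only [← pow_mul]
  rw [mul_comm j k, hkω]

variable {p : ℕ} [Fact p.Prime]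

theorem regular_mem {N : Subgroup G} (hN : N = pResidual p G) {g : G} (hg : ¬ p ∣ orderOf g) : g ∈ N := by
  rw [hN]
  exact Subgroup.subset_closure ((Nat.Prime.coprime_iff_not_dvd Fact.out).mpr hg).symm

variable [Finite G]

theorem exists_index_eq {N : Subgroup G} [N.Normal] (hN : N = pResidual p G) :
    IsPGroup p (G ⧸ N) := by
  intro q
  obtain ⟨g, rfl⟩ := QuotientGroup.mk_surjective q
  obtain ⟨y, hxy, -, ⟨j, hj⟩, hy⟩ := pp_spec (p := p) g
  refine ⟨j, ?_⟩
  have hy1 : (QuotientGroup.mk y : G ⧸ N) = 1 := (QuotientGroup.eq_one_iff _).mpr (regular_mem hN hy)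
  rw [show (QuotientGroup.mk g : G ⧸ N) = (QuotientGroup.mk (pp p g) : G ⧸ N) by
    conv_lhs => rw [← hxy]
    rw [QuotientGroup.mk_mul, hy1, mul_one],
    ← QuotientGroup.mk_pow, show pp p g ^ p ^ j = 1 by rw [← hj, pow_orderOf_eq_one], QuotientGroup.mk_one]

/-- A homomorphism of the residual into a commutative group has image of order prime to `p`. -/
theorem not_dvd_orderOf_hom {N : Subgroup G} (hN : N = pResidual p G) (φ : N →* ℂˣ) :
    ¬ p ∣ orderOf φ := by
  set m := Nat.card G / p ^ (Nat.card G).factorization p with hm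
  have hpm : ¬ p ∣ m := Nat.not_dvd_ordCompl Fact.out Nat.card_pos.ne'
  suffices h : φ ^ m = 1 from fun hd => hpm (hd.trans (orderOf_dvd_of_pow_eq_one h))
  ext n
  suffices h : φ n ^ m = 1 by simpa using congrArg Units.val h
  obtain ⟨x, hx⟩ := n
  have hx' : x ∈ Subgroup.closure {g : G | Nat.Coprime (orderOf g) p} := by rwa [hN] at hx
  have key : ∀ y ∈ Subgroup.closure {g : G | Nat.Coprime (orderOf g) p}, ∀ hy : y ∈ N, φ ⟨y, hy⟩ ^ m = 1 := by
    intro y hy
    induction hy using Subgroup.closure_induction with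
    | mem y hy =>
      intro hyN
      rw [← map_pow, show (⟨y, hyN⟩ : N) ^ m = 1 from ?_, map_one]
      refine Subtype.ext ?_
      show y ^ m = 1
      refine orderOf_dvd_iff_pow_eq_one.mp ?_
      refine (Nat.Coprime.pow_right ((Nat.card G).factorization p) hy).dvd_of_dvd_mul_left (k := orderOf y) ?_
      rw [hm, Nat.ordProj_mul_ordCompl_eq_self]
      exact orderOf_dvd_natCard y
    | one => intro h; rw [show (⟨1, h⟩ : N) = 1 from rfl, map_one, one_pow]
    | mul a b ha hb iha ihb =>
      intro h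
      have ha' : a ∈ N := hN ▸ ha
      have hb' : b ∈ N := hN ▸ hb
      rw [show (⟨a * b, h⟩ : N) = ⟨a, ha'⟩ * ⟨b, hb'⟩ from rfl, map_mul, mul_pow, iha, ihb, mul_one]
    | inv a ha iha =>
      intro h
      have ha' : a ∈ N := hN ▸ ha
      rw [show (⟨a⁻¹, h⟩ : N) = (⟨a, ha'⟩ : N)⁻¹ from rfl, map_inv, inv_pow, iha, inv_one]
  exact key x hx' hx

/-- Above a member of the principal block with a quotient of `p`-power order there are only members of it. -/
theorem mem_principalBlock_of_over [Fintype G] {M : Ideal AlgInt} (hM : IsPModular p M)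
    (N : Subgroup G) [N.Normal] [Fintype N] (hN : ∀ g : G, ¬ p ∣ orderOf g → g ∈ N)
    (χ : IrrCharacter G) (θ : IrrCharacter N)
    (hover : classInner (fun n : N => (χ : G → ℂ) n) (θ : N → ℂ) ≠ 0)
    (hθ : θ ∈ principalBlock M N) : χ ∈ principalBlock M G := by
  classical
  have := isPrime hM
  set B := principalBlock M G with hBdef
  have hB : IsPBlock M B := isPBlock_blockOf (oneChar G)
  set A := blockCoeff B with hAdef
  have hA := isIntClassFun_blockCoeff hM hB
  have hsupp : ∀ g ∉ N, A g = 0 := fun g hg =>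
    blockCoeff_eq_zero_of_dvd_orderOf hM hB (by_contra fun h => hg (hN g h))
  have hres : IsIntClassFun M (fun n : N => A n) := ⟨isClassFunction_restrict hA.1, fun n => hA.2 n⟩
  have hone : classInner (fun n : N => ((oneChar G : IrrCharacter G) : G → ℂ) n)
      ((oneChar N : IrrCharacter N) : N → ℂ) ≠ 0 := by
    have := CharCore.classInner_irr_self (oneChar N)
    show classInner ((oneChar N : IrrCharacter N) : N → ℂ) ((oneChar N : IrrCharacter N) : N → ℂ) ≠ 0
    rw [this]; exact one_ne_zero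
  have h := omega_sub_memLocalIdeal ((mem_principalBlock_iff θ).mp hθ) hres
  rw [← omega_eq_omega_constituent χ θ hover hA.1 hsupp,
    ← omega_eq_omega_constituent (oneChar G) (oneChar N) hone hA.1 hsupp, omega_blockCoeff,
    omega_blockCoeff, Set.indicator_of_mem (show oneChar G ∈ B from (mem_principalBlock_iff _).mpr (sameBlock_refl _))] at h
  by_contra hχ
  rw [Set.indicator_of_notMem hχ, Pi.one_apply, zero_sub] at h
  exact not_memLocalIdeal_one (by simpa using memLocalIdeal_neg h)

end Cfsg.Agent.BC84.Residual
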