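import Cfsg.Agent.BC84.WeightBound
import Cfsg.Agent.BC84.PrincipalTwo
import Cfsg.Agent.Lib.BlocksCore.CyclicPrincipal
import Cfsg.Agent.Lib.BlocksDefect.Quotient
import Cfsg.Agent.Lib.BlocksDefect.Kernel
import Cfsg.Agent.Lib.CharCore.Linear
import Mathlib.GroupTheory.Transfer
import Mathlib.GroupTheory.FiniteAbelian.Duality
import Mathlib.Analysis.Complex.Polynomial.Basic
import Mathlib.GroupTheory.SpecificGroups.Cyclic

/-!
# Principal blocks of centralizers with a small Sylow subgroup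
-/

set_option autoImplicit false
set_option linter.unusedSectionVars false

namespace Cfsg.Agent.BC84.SmallCent

open BlocksCore BlocksDefect
open scoped ComplexConjugate

variable {C : Type*} [Group C] [Finite C] {p : ℕ} [Fact p.Prime] {M : Ideal AlgInt}

theorem inflate_val {Q : Subgroup C} [Q.Normal] (ψ : IrrCharacter (C ⧸ Q)) (g : C) :
    (BlocksDefect.inflate Q ψ : C → ℂ) g = (ψ : C ⧸ Q → ℂ) (QuotientGroup.mk g) := rfl

theorem rank_le_one (hM : IsPModular p M) (S : Sylow p C) (hS : (S : Subgroup C) ≤ Subgroup.center C) :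
    blockRank p (principalBlock M C) ≤ 1 := by
  classical
  have := isPrime hM
  have := Fintype.ofFinite C
  have hN : Subgroup.normalizer ((S : Subgroup C) : Set C) ≤ Subgroup.centralizer ((S : Subgroup C) : Set C) :=
    fun n _ => Subgroup.mem_centralizer_iff.mpr fun s hs => (Subgroup.mem_center_iff.mp (hS hs) n).symm
  set f := MonoidHom.transferSylow S hN with hf
  set K := f.ker with hK
  have hcompl : Subgroup.IsComplement' K (S : Subgroup C) := MonoidHom.ker_transferSylow_isComplement' S hN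
  have hKp : ¬ p ∣ Nat.card K := by
    rw [← hcompl.index_eq_card]
    exact S.not_dvd_index
  have hreg : ∀ x : C, ¬ p ∣ orderOf x → x ∈ K := by
    intro x hx
    rw [hK, MonoidHom.mem_ker]
    obtain ⟨j, hj⟩ := orderOf_pow_of_mem S.isPGroup' (f x).2
    have h1 : orderOf ((f x : C)) ∣ orderOf x := by
      rw [Subgroup.orderOf_coe]; exact orderOf_map_dvd f x
    rw [hj] at h1
    rcases j with _ | j
    · exact Subtype.ext (orderOf_eq_one_iff.mp (by rw [hj, pow_zero]))
    · exact absurd ((dvd_pow_self p (Nat.succ_ne_zero j)).trans h1) hx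
  rw [blockRank_eq_finrank]
  refine le_trans (Submodule.finrank_mono (show regSpan p (principalBlock M C) ≤
    Submodule.span ℂ {pRegularPart p ((oneChar C : IrrCharacter C) : C → ℂ)} from ?_)) ?_
  · refine Submodule.span_le.mpr ?_
    rintro _ ⟨η, hη, rfl⟩
    refine Submodule.mem_span_singleton.mpr ⟨(η : C → ℂ) 1, ?_⟩
    have := Fintype.ofFinite K
    have hint : IsIntClassFun M (subInd K) := by
      refine ⟨isClassFunction_subInd K, fun g => ?_⟩
      by_cases hg : g ∈ K
      · rw [subInd_apply_of_mem hg]; exact memLocalRing_natCast_inv hM hKp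
      · rw [subInd_apply_of_notMem hg]; exact memLocalRing_of_mem (zero_mem _)
    have h1 : omega ((oneChar C : IrrCharacter C) : C → ℂ) (subInd K) = 1 :=
      (omega_subInd_eq_one_iff _ K).mpr fun n _ => rfl
    have h2 : omega (η : C → ℂ) (subInd K) = 1 := by
      rcases omega_subInd_zero_or_one η K with h | h
      · exfalso
        have h3 := omega_sub_memLocalIdeal ((mem_principalBlock_iff η).mp hη) hint
        rw [h, h1, zero_sub] at h3
        have h4 := memLocalIdeal_neg h3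
        rw [neg_neg] at h4
        exact not_memLocalIdeal_one h4
      · exact h
    funext g
    by_cases hg : p ∣ orderOf g
    · simp [BC85.pRegularPart_neg hg]
    · simp only [Pi.smul_apply, BC85.pRegularPart_pos hg]
      rw [(omega_subInd_eq_one_iff _ K).mp h2 g (hreg g hg)]
      simp [oneChar]
  · exact (finrank_span_le_card _).trans (by simp)

/-- The quadratic form of the principal block of a group with Sylow subgroup of order `p`. -/
theorem quad_bound {ι : Type*} [Fintype ι] {p e t : ℕ} (hp : p.Prime) (he : Fintype.card ι = e)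
    (het : e * t = p - 1) (d : ι → ℤ)
    (hne : (p : ℤ) * ∑ i, d i ^ 2 - t * (∑ i, d i) ^ 2 ≠ 0) :
    (e : ℤ) ≤ (p : ℤ) * ∑ i, d i ^ 2 - t * (∑ i, d i) ^ 2 := by
  classical
  have hp2 := hp.two_le
  have hep : (e : ℤ) * t = (p : ℤ) - 1 := by
    rw [← Nat.cast_mul, het, Nat.cast_sub hp.one_le]; rfl
  have he0 : 0 < e := Nat.pos_of_ne_zero fun h => by rw [h, zero_mul] at het; omega
  have he1 : (e : ℤ) + 1 ≤ p := by
    have : e ≤ p - 1 := Nat.le_of_dvd (by omega) ⟨t, het.symm⟩
    omega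
  set σ := ∑ i, d i with hσ
  set T := ∑ i, d i ^ 2 with hT
  have hid : (e : ℤ) * ((p : ℤ) * T - t * σ ^ 2) = (p : ℤ) * ((e : ℤ) * T - σ ^ 2) + σ ^ 2 := by
    linear_combination (-σ ^ 2) * hep
  by_cases hconst : ∀ i j, d i = d j
  · rcases Fintype.card_pos_iff.mp (he ▸ he0) with ⟨i₀⟩
    have hall : ∀ i, d i = d i₀ := fun i => hconst i i₀
    have hσ' : σ = (e : ℤ) * d i₀ := by
      rw [hσ, Finset.sum_congr rfl fun i _ => hall i, Finset.sum_const, Finset.card_univ, he, nsmul_eq_mul]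
    have hT' : T = (e : ℤ) * d i₀ ^ 2 := by
      rw [hT, Finset.sum_congr rfl fun i _ => by rw [hall i], Finset.sum_const, Finset.card_univ, he, nsmul_eq_mul]
    have e1 : (p : ℤ) * T - t * σ ^ 2 = (e : ℤ) * d i₀ ^ 2 := by
      rw [hσ', hT']; linear_combination (-(e : ℤ) * d i₀ ^ 2) * hep
    rw [e1] at hne ⊢
    have hd : d i₀ ≠ 0 := fun h => hne (by rw [h]; ring)
    have : (1 : ℤ) ≤ d i₀ ^ 2 := by
      have := pow_pos (abs_pos.mpr hd) 2
      rw [sq_abs] at this; omega
    exact le_mul_of_one_le_right (by positivity) this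
  · push Not at hconst
    obtain ⟨i, j, hij⟩ := hconst
    let eq := Fintype.equivFinOfCardEq he
    have h1 := RootSums.le_class (p := e) (AddMonoidHom.mul (R := ℤ)) (fun x y => mul_comm x y)
      (fun x => mul_self_nonneg x) (fun x hx y => by
        rw [show AddMonoidHom.mul x x = x * x from rfl, mul_self_eq_zero] at hx
        subst hx; simp)
      (μ := 1) (fun x hx => by
        rw [show AddMonoidHom.mul x x = x * x from rfl] at hx ⊢
        have := lt_of_le_of_ne (mul_self_nonneg x) (Ne.symm hx); omega)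
      zero_le_one (fun a => d (eq.symm a)) (t₀ := eq i) (t₁ := eq j) (by
        simp only [Equiv.symm_apply_apply]
        exact mul_ne_zero (sub_ne_zero.mpr hij) (sub_ne_zero.mpr hij))
    have h2 : ∑ a : Fin e, ∑ a' : Fin e, AddMonoidHom.mul (d (eq.symm a) - d (eq.symm a')) (d (eq.symm a) - d (eq.symm a')) =
        2 * ((e : ℤ) * T - σ ^ 2) := by
      rw [show ∑ a : Fin e, ∑ a' : Fin e, AddMonoidHom.mul (d (eq.symm a) - d (eq.symm a')) (d (eq.symm a) - d (eq.symm a')) =
        ∑ a : ι, ∑ a' : ι, (d a - d a') * (d a - d a') from Fintype.sum_equiv eq.symm _ _ fun a => Fintype.sum_equiv eq.symm _ _ fun a' => rfl]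
      simp only [mul_sub, sub_mul, Finset.sum_sub_distrib, Finset.sum_const, Finset.card_univ, he, nsmul_eq_mul,
        ← Finset.mul_sum, ← Finset.sum_mul, hσ, hT, sq]
      ring
    rw [h2] at h1
    have h3 : (e : ℤ) - 1 ≤ (e : ℤ) * T - σ ^ 2 := by linarith
    by_cases hσ0 : σ = 0
    · rw [hσ0] at hne ⊢
      have : (1 : ℤ) ≤ T := by
        have hT0 : T ≠ 0 := fun h => hne (by rw [h]; ring)
        have : 0 ≤ T := Finset.sum_nonneg fun i _ => sq_nonneg _
        omega
      nlinarith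
    · have hσ1 : (1 : ℤ) ≤ σ ^ 2 := by
        have := pow_pos (abs_pos.mpr hσ0) 2
        rw [sq_abs] at this; omega
      have h4 : (e : ℤ) * e ≤ (e : ℤ) * ((p : ℤ) * T - t * σ ^ 2) := by
        rw [hid]; nlinarith
      exact le_of_mul_le_mul_left h4 (by exact_mod_cast he0)

theorem index_dvd_of_prime (P : Subgroup C) (hP : Nat.card P = p) :
    (Subgroup.centralizer (P : Set C)).relIndex (Subgroup.normalizer (P : Set C)) ∣ p - 1 := by
  have : IsCyclic P := isCyclic_of_prime_card hP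
  have h : Nat.card (MulAut P) = p - 1 := by
    rw [IsCyclic.card_mulAut, hP, Nat.totient_prime Fact.out]
  rw [Subgroup.relIndex, ← Subgroup.normalizerMonoidHom_ker, Subgroup.index_ker, ← h]
  exact Subgroup.card_subgroup_dvd_card _

open scoped Classical in
/-- The regular contributions of the nonexceptional members. -/
theorem prj_nonexceptional (hM : IsPModular p M) (P : Sylow p C) (hP : Nat.card P = p) :
    ∃ (e t : ℕ) (X : Finset (IrrCharacter C)) (εX : IrrCharacter C → ℤ),
      e * t = p - 1 ∧ X.card = e ∧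
      (∀ η ∈ principalBlock M C, ∃ c : IrrCharacter C → ℤ, ∀ g, ¬ p ∣ orderOf g →
        (η : C → ℂ) g = ∑ χ ∈ X, (c χ : ℂ) * (χ : C → ℂ) g) ∧
      (∀ χ ∈ X, εX χ = 1 ∨ εX χ = -1) ∧
      ∀ χ ∈ X, ∀ χ' ∈ X, (p : ℂ) * BC85.prj p χ χ' =
        (p : ℂ) * (if χ = χ' then 1 else 0) - (t : ℂ) * (εX χ : ℂ) * (εX χ' : ℂ) := by
  classical
  have := isPrime hM
  have hp : p.Prime := Fact.out
  have := Fintype.ofFinite C
  have := finite_irr (G := C)
  have := Fintype.ofFinite (IrrCharacter C)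
  set e := (Subgroup.centralizer ((P : Subgroup C) : Set C)).relIndex (Subgroup.normalizer ((P : Subgroup C) : Set C)) with he
  obtain ⟨X, Y, εX, ε, hB, hdis, hXc, hYc, hε, hX, hY⟩ := BlocksCore.CyclicPrincipal.structure_thm hM P hP e rfl
  have hep : e ∣ p - 1 := index_dvd_of_prime (P : Subgroup C) hP
  set t := (p - 1) / e with ht
  have het : e * t = p - 1 := Nat.mul_div_cancel' hep
  have hεsq : (ε : ℂ) * ε = 1 := by rcases hε with h | h <;> simp [h]
  have hXsq : ∀ χ ∈ X, (εX χ : ℂ) * εX χ = 1 := fun χ hχ => by rcases (hX χ hχ).1 with h | h <;> simp [h]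
  refine ⟨e, t, X, εX, het, hXc, ?_, fun χ hχ => (hX χ hχ).1, ?_⟩
  · intro η hη
    rw [hB] at hη
    rcases hη with h | h
    · exact ⟨fun χ => if χ = η then 1 else 0, fun g _ => by simp [Finset.mem_coe.mp h]⟩
    · refine ⟨fun χ => ε * εX χ, fun g hg => ?_⟩
      have h1 := (hY η (Finset.mem_coe.mp h)).2 g hg
      calc (η : C → ℂ) g = (ε : ℂ) * ((ε : ℂ) * (η : C → ℂ) g) := by rw [← mul_assoc, hεsq, one_mul]
        _ = _ := by rw [h1, Finset.mul_sum]; exact Finset.sum_congr rfl fun χ _ => by push_cast; ring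
  · set γ : ℂ := ((Finset.univ.filter fun g : C => p ∣ orderOf g).card : ℂ) / Nat.card C with hγ
    have hval : ∀ g : C, p ∣ orderOf g → ∀ χ ∈ X, (χ : C → ℂ) g = (εX χ : ℂ) := by
      intro g hg χ hχ
      obtain ⟨y, hxy, hc, hxpow, hy⟩ := pp_spec (p := p) g
      obtain ⟨j, hj⟩ := hxpow
      have hx1 : pp p g ≠ 1 := fun h => by rw [h, one_mul] at hxy; exact hy (hxy ▸ hg)
      obtain ⟨Q, hQ⟩ := (IsPGroup.of_card (n := j) (by rw [Nat.card_zpowers, hj]) :
        IsPGroup p (Subgroup.zpowers (pp p g))).exists_le_sylow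
      obtain ⟨c, hc'⟩ := MulAction.exists_smul_eq C Q P
      have hxP : c * pp p g * c⁻¹ ∈ (P : Subgroup C) := by
        rw [← hc', Sylow.coe_subgroup_smul]
        exact Subgroup.smul_mem_pointwise_smul _ (MulAut.conj c) _ (hQ (Subgroup.mem_zpowers _))
      have hne : c * pp p g * c⁻¹ ≠ 1 := fun h => hx1 (by
        have := congrArg (fun z => c⁻¹ * z * c) h
        simpa [mul_assoc] using this)
      have hgen : Subgroup.zpowers (c * pp p g * c⁻¹) = (P : Subgroup C) := by
        refine Subgroup.eq_of_le_of_card_ge (Subgroup.zpowers_le.mpr hxP) ?_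
        rw [Nat.card_zpowers, hP]
        have h1 : orderOf (c * pp p g * c⁻¹) ∣ p := by
          have h0 := Subgroup.orderOf_dvd_natCard _ hxP
          rwa [hP] at h0
        rcases (Nat.dvd_prime hp).mp h1 with h | h
        · exact absurd (orderOf_eq_one_iff.mp h) hne
        · rw [h]
      have hy' : c * y * c⁻¹ ∈ Subgroup.centralizer ((P : Subgroup C) : Set C) := by
        rw [← hgen, BlocksCore.centralizer_zpowers]
        exact Subgroup.mem_centralizer_singleton_iff.mpr (by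
          have h1 : c * y * c⁻¹ * (c * pp p g * c⁻¹) = c * (y * pp p g) * c⁻¹ := by group
          rw [h1, ← hc.eq]; group)
      have h2 := (hX χ hχ).2.2 _ hxP hne _ hy' (by rwa [orderOf_conjugate])
      rwa [show c * pp p g * c⁻¹ * (c * y * c⁻¹) = c * (pp p g * y) * c⁻¹ by group, hxy,
        CharCore.irr_isClassFunction χ g c] at h2
    have hP' : ∀ χ ∈ X, ∀ χ' ∈ X, BC85.prj p χ χ' =
        (if χ = χ' then 1 else 0) - γ * (εX χ : ℂ) * (εX χ' : ℂ) := by
      intro χ hχ χ' hχ'
      have h1 : classInner (χ : C → ℂ) (χ' : C → ℂ) = if χ = χ' then 1 else 0 := by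
        split_ifs with h
        · rw [h]; exact CharCore.classInner_irr_self χ'
        · exact CharCore.classInner_irr_of_ne h
      rw [← h1, BC85.prj_def, classInner, classInner, hγ, div_eq_inv_mul, eq_sub_iff_add_eq, Finset.card_filter,
        Nat.cast_sum, mul_assoc, mul_assoc, Finset.sum_mul, ← mul_add, ← Finset.sum_add_distrib]
      congr 1
      refine Finset.sum_congr rfl fun g _ => ?_
      by_cases hg : p ∣ orderOf g
      · rw [BC85.pRegularPart_neg hg, if_pos hg, hval g hg χ hχ, hval g hg χ' hχ', map_intCast]; push_cast; ring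
      · rw [BC85.pRegularPart_pos hg, if_neg hg]; push_cast; ring
    have hθ : ∀ θ ∈ Y, ∀ η : IrrCharacter C, BC85.prj p θ η = (ε : ℂ) * ∑ χ ∈ X, (εX χ : ℂ) * BC85.prj p χ η := by
      intro θ hθY η
      simp only [BC85.prj_def, classInner, Finset.mul_sum]
      rw [Finset.sum_comm]
      refine Finset.sum_congr rfl fun g _ => ?_
      by_cases hg : p ∣ orderOf g
      · rw [BC85.pRegularPart_neg hg, zero_mul, mul_zero]
        exact (Finset.sum_eq_zero fun χ _ => by rw [BC85.pRegularPart_neg hg]; ring).symm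
      · have h1 := (hY θ hθY).2 g hg
        rw [BC85.pRegularPart_pos hg, show (θ : C → ℂ) g = (ε : ℂ) * ∑ χ ∈ X, (εX χ : ℂ) * (χ : C → ℂ) g by
          rw [← h1, ← mul_assoc, hεsq, one_mul]]
        simp only [Finset.mul_sum, Finset.sum_mul]
        refine Finset.sum_congr rfl fun χ _ => ?_
        rw [BC85.pRegularPart_pos hg]; ring
    have he0 : 0 < e := Nat.pos_of_ne_zero fun h => by
      rw [h, zero_mul] at het; have := hp.two_le; omega
    have hθX : ∀ θ ∈ Y, ∀ χ ∈ X, BC85.prj p θ χ = (ε : ℂ) * (εX χ : ℂ) * (1 - (e : ℂ) * γ) := by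
      intro θ hθY χ hχ
      rw [hθ θ hθY, Finset.sum_congr rfl fun χ' hχ' => show (εX χ' : ℂ) * BC85.prj p χ' χ =
        (if χ' = χ then (εX χ' : ℂ) else 0) - γ * (εX χ : ℂ) by
          rw [hP' χ' hχ' χ hχ]
          have := hXsq χ' hχ'
          split_ifs <;> linear_combination (-γ * (εX χ : ℂ)) * this,
        Finset.sum_sub_distrib, Finset.sum_ite_eq' X χ, if_pos hχ, Finset.sum_const, hXc, nsmul_eq_mul]
      ring
    have hne1 : 1 - (e : ℂ) * γ ≠ 0 := by
      intro h0
      obtain ⟨θ, hθY⟩ : Y.Nonempty := by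
        rw [← Finset.card_pos, hYc]
        exact Nat.div_pos (Nat.le_of_dvd (by have := hp.two_le; omega) hep) he0
      have h1 : BC85.prj p θ θ = 0 := by
        rw [hθ θ hθY, Finset.sum_congr rfl fun χ hχ => show (εX χ : ℂ) * BC85.prj p χ θ = 0 by
          rw [BC85.prj_comm, hθX θ hθY χ hχ, h0]; ring, Finset.sum_const_zero, mul_zero]
      rw [BC85.prj_def, classInner, mul_eq_zero] at h1
      have h2 := h1.resolve_left (inv_ne_zero (Nat.cast_ne_zero.mpr Nat.card_pos.ne'))
      have h3 : ∑ g : C, Complex.normSq (pRegularPart p (θ : C → ℂ) g) = 0 := by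
        apply Complex.ofReal_injective
        push_cast
        rw [← h2]
        refine Finset.sum_congr rfl fun g _ => ?_
        by_cases hg : p ∣ orderOf g
        · simp [BC85.pRegularPart_neg hg]
        · rw [BC85.pRegularPart_pos hg, Complex.mul_conj]
      have h4 := (Finset.sum_eq_zero_iff_of_nonneg fun g _ => Complex.normSq_nonneg _).mp h3 1 (Finset.mem_univ _)
      rw [Complex.normSq_eq_zero, BC85.pRegularPart_pos (by rw [orderOf_one]; exact hp.not_dvd_one)] at h4
      exact irr_one_ne_zero θ h4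
    obtain ⟨χ₁, hχ₁⟩ : X.Nonempty := by rw [← Finset.card_pos, hXc]; exact he0
    have hid := BC85.sum_prj_mul_prj (p := p) χ₁ χ₁
    rw [← Finset.sum_subset (Finset.subset_univ (X ∪ Y)) (fun ψ _ hψ => by
      rw [BC85.prj_eq_zero_of_notMem hM isPBlock_principal (by rw [hB]; exact Or.inl hχ₁)
        (by rw [hB]; simpa using hψ), zero_mul]), Finset.sum_union hdis] at hid
    have hXsum : ∑ ψ ∈ X, BC85.prj p χ₁ ψ * BC85.prj p ψ χ₁ = 1 - 2 * γ + (e : ℂ) * (γ * γ) := by
      rw [Finset.sum_congr rfl fun ψ hψ => show BC85.prj p χ₁ ψ * BC85.prj p ψ χ₁ =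
        (if ψ = χ₁ then (1 - 2 * γ) else 0) + γ * γ by
          rw [BC85.prj_comm χ₁ ψ, hP' ψ hψ χ₁ hχ₁]
          by_cases h : ψ = χ₁
          · rw [if_pos h, if_pos h, h]
            linear_combination ((εX χ₁ : ℂ) * εX χ₁ * γ * γ + γ * γ - 2 * γ) * hXsq χ₁ hχ₁
          · rw [if_neg h, if_neg h]
            linear_combination ((εX χ₁ : ℂ) * εX χ₁ * γ * γ) * hXsq ψ hψ + γ * γ * hXsq χ₁ hχ₁,
        Finset.sum_add_distrib, Finset.sum_ite_eq' X χ₁, if_pos hχ₁, Finset.sum_const, hXc, nsmul_eq_mul]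
    have hYsum : ∑ ψ ∈ Y, BC85.prj p χ₁ ψ * BC85.prj p ψ χ₁ = (t : ℂ) * ((1 - (e : ℂ) * γ) * (1 - (e : ℂ) * γ)) := by
      rw [Finset.sum_congr rfl fun ψ hψ => show BC85.prj p χ₁ ψ * BC85.prj p ψ χ₁ =
        (1 - (e : ℂ) * γ) * (1 - (e : ℂ) * γ) by
          rw [BC85.prj_comm χ₁ ψ, hθX ψ hψ χ₁ hχ₁]
          linear_combination ((1 - (e : ℂ) * γ) * (1 - (e : ℂ) * γ) * (εX χ₁ : ℂ) * εX χ₁) * hεsq +
            (1 - (e : ℂ) * γ) * (1 - (e : ℂ) * γ) * hXsq χ₁ hχ₁,
        Finset.sum_const, hYc, nsmul_eq_mul]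
    have hcc : BC85.prj p χ₁ χ₁ = 1 - γ := by
      rw [hP' χ₁ hχ₁ χ₁ hχ₁, if_pos rfl]; linear_combination (-γ) * hXsq χ₁ hχ₁
    rw [hXsum, hYsum, hcc] at hid
    have hpe : (e : ℂ) * (t : ℂ) = (p : ℂ) - 1 := by
      rw [← Nat.cast_mul, het, Nat.cast_sub hp.one_le, Nat.cast_one]
    have hlin : (p : ℂ) * γ = (t : ℂ) := by
      have h1 : (1 - (e : ℂ) * γ) * ((e : ℂ) * ((p : ℂ) * γ - (t : ℂ))) = 0 := by
        linear_combination (-(e : ℂ)) * hid + ((-1 : ℂ) * (e : ℂ) * γ * (1 - (e : ℂ) * γ)) * hpe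
      rcases mul_eq_zero.mp h1 with h | h
      · exact absurd h hne1
      · exact sub_eq_zero.mp ((mul_eq_zero.mp h).resolve_left (Nat.cast_ne_zero.mpr he0.ne'))
    intro χ hχ χ' hχ'
    rw [hP' χ hχ χ' hχ']
    split_ifs <;> linear_combination (-(εX χ : ℂ) * (εX χ' : ℂ)) * hlin

/-- A twist removing a central element of order `p` from a member of the principal block. -/
theorem exists_twist (hM : IsPModular p M) (S : Sylow p C) (hexp : ∀ a ∈ (S : Subgroup C), a ^ p = 1)
    (hcomm : ∀ a ∈ (S : Subgroup C), ∀ a' ∈ (S : Subgroup C), a * a' = a' * a)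
    {x : C} (hx : x ∈ Subgroup.center C) (hxS : x ∈ (S : Subgroup C)) (hx1 : x ≠ 1)
    {η : IrrCharacter C} (hη : η ∈ principalBlock M C) :
    ∃ η' : IrrCharacter C, η' ∈ principalBlock M C ∧ (∀ n ∈ Subgroup.zpowers x, (η' : C → ℂ) n = (η' : C → ℂ) 1) ∧
      ∀ g, ¬ p ∣ orderOf g → (η' : C → ℂ) g = (η : C → ℂ) g := by
  classical
  have := isPrime hM
  have := Fintype.ofFinite C
  have hp : p.Prime := Fact.out
  let cgS : CommGroup (S : Subgroup C) :=
    { (inferInstance : Group (S : Subgroup C)) with mul_comm := fun a a' => Subtype.ext (hcomm a a.2 a' a'.2) }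
  set n := (S : Subgroup C).index with hn
  have hn' : ¬ p ∣ n := S.not_dvd_index
  have hxp : orderOf x = p := orderOf_eq_prime (hexp x hxS) hx1
  have hxn : (⟨x ^ n, Subgroup.pow_mem _ hxS n⟩ : (S : Subgroup C)) ≠ 1 := fun h => hn' (by
    rw [← hxp]; exact orderOf_dvd_of_pow_eq_one (congrArg Subtype.val h))
  obtain ⟨φ, hφ⟩ := CommGroup.exists_apply_ne_one_of_hasEnoughRootsOfUnity (S : Subgroup C) ℂ hxn
  set ν : C →* ℂˣ := MonoidHom.transfer φ with hν
  have key : ∀ (k : ℕ) (g₀ : C), g₀⁻¹ * x ^ k * g₀ ∈ (S : Subgroup C) → g₀⁻¹ * x ^ k * g₀ = x ^ k := fun k g₀ _ => by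
    rw [mul_assoc, ← Subgroup.mem_center_iff.mp (Subgroup.pow_mem _ hx k) g₀, ← mul_assoc, inv_mul_cancel, one_mul]
  have hνx : ν x ≠ 1 := by
    rw [hν, MonoidHom.transfer_eq_pow φ x key]
    exact hφ
  have hνp : ∀ g, ν g ^ p = 1 := by
    intro g
    rw [hν, MonoidHom.transfer_def φ default, Subgroup.leftTransversals.diff, ← Finset.prod_pow]
    refine Finset.prod_eq_one fun q _ => ?_
    rw [← map_pow, show ∀ a : (S : Subgroup C), a ^ p = 1 from fun a => Subtype.ext (hexp a a.2), map_one]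
  have hω : IsPrimitiveRoot ((ν x : ℂˣ) : ℂ) p := by
    have h1 : orderOf ((ν x : ℂˣ) : ℂ) = p := orderOf_eq_prime
      (by rw [← Units.val_pow_eq_pow_val, hνp, Units.val_one]) (fun h => hνx (Units.val_eq_one.mp h))
    exact h1 ▸ IsPrimitiveRoot.orderOf _
  have hs : cval η x ^ p = 1 := by rw [← cval_pow η hx, hexp x hxS, cval_one]
  have : NeZero p := ⟨hp.ne_zero⟩
  obtain ⟨i, -, hi⟩ := hω.eq_pow_of_pow_eq_one hs
  set f : C →* ℂˣ := (ν⁻¹) ^ i with hf
  have hfp : ∀ g, ((f g : ℂˣ) : ℂ) ^ p = 1 := fun g => by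
    rw [← Units.val_pow_eq_pow_val, hf]
    simp only [MonoidHom.pow_apply, MonoidHom.inv_apply]
    rw [← pow_mul, mul_comm, pow_mul, inv_pow, hνp, inv_one, one_pow, Units.val_one]
  have hfx : ((f x : ℂˣ) : ℂ) * cval η x = 1 := by
    rw [← hi, hf]
    simp only [MonoidHom.pow_apply, MonoidHom.inv_apply, Units.val_pow_eq_pow_val, Units.val_inv_eq_inv_val]
    rw [← mul_pow, inv_mul_cancel₀ (Units.ne_zero _), one_pow]
  let η' : IrrCharacter C := ⟨fun g => ((f g : ℂˣ) : ℂ) * (η : C → ℂ) g,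
    CharCore.isIrrCharacter_hom_mul f η.2⟩
  have hreg : ∀ g, ¬ p ∣ orderOf g → (η' : C → ℂ) g = (η : C → ℂ) g := by
    intro g hg
    show ((f g : ℂˣ) : ℂ) * _ = _
    have h1 : orderOf (f g) ∣ p := orderOf_dvd_of_pow_eq_one (Units.ext (by
      rw [Units.val_pow_eq_pow_val, hfp, Units.val_one]))
    rcases (Nat.dvd_prime hp).mp h1 with h | h
    · rw [orderOf_eq_one_iff.mp h, Units.val_one, one_mul]
    · exact absurd (h ▸ orderOf_map_dvd f g) hg
  refine ⟨η', ?_, ?_, hreg⟩
  · rw [mem_principalBlock_iff] at hη ⊢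
    refine sameBlock_trans (fun g => ?_) hη
    have e : centralChar (η' : C → ℂ) g - centralChar (η : C → ℂ) g =
        (((f g : ℂˣ) : ℂ) - 1) * centralChar (η : C → ℂ) g := by
      have h1 : (η' : C → ℂ) 1 = (η : C → ℂ) 1 := hreg 1 (by rw [orderOf_one]; exact hp.not_dvd_one)
      simp only [centralChar, h1]
      show _ * (((f g : ℂˣ) : ℂ) * _) / _ - _ = _
      ring
    rw [e]
    exact memLocalIdeal_mul_right (memLocalIdeal_sub_one_of_pow hM (k := 1) (by rw [pow_one, hfp]))
      (centralChar_memLocalRing η g)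
  · intro m hm
    obtain ⟨j, rfl⟩ := (isOfFinOrder_of_finite x).mem_powers_iff_mem_zpowers.mpr hm
    show ((f (x ^ j) : ℂˣ) : ℂ) * (η : C → ℂ) (x ^ j) = ((f 1 : ℂˣ) : ℂ) * (η : C → ℂ) 1
    have h1 : (η : C → ℂ) (x ^ j) = cval η x ^ j * (η : C → ℂ) 1 := by
      rw [← cval_pow η hx, cval, div_mul_cancel₀ _ (irr_one_ne_zero η)]
    rw [h1, map_pow, Units.val_pow_eq_pow_val, ← mul_assoc, ← mul_pow, hfx, one_pow, map_one, Units.val_one]

/-- The lattice bound for a central element of order `p` in an elementary Sylow subgroup of order `p²`. -/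
theorem elementary_bound (hM : IsPModular p M) (S : Sylow p C) (hS : Nat.card S = p ^ 2)
    (hexp : ∀ a ∈ (S : Subgroup C), a ^ p = 1)
    {x : C} (hx : x ∈ Subgroup.center C) (hxS : x ∈ (S : Subgroup C)) (hx1 : x ≠ 1)
    [Fintype (principalBlock M C)] {m : principalBlock M C → principalBlock M C → ℤ}
    (hm : ∀ η η' : principalBlock M C, (m η η' : ℂ) = (p : ℂ) ^ 2 * BC85.prj p (η : IrrCharacter C) η') :
    ∃ e : ℕ, 0 < e ∧ blockRank p (principalBlock M C) ≤ e ∧
      ∀ z, RankTwo.form m z z ≠ 0 → (e : ℤ) ≤ RankTwo.form m z z := by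
  classical
  have := isPrime hM
  have := Fintype.ofFinite C
  have hp : p.Prime := Fact.out
  have hxp : orderOf x = p := orderOf_eq_prime (hexp x hxS) hx1
  have hcomm : ∀ a ∈ (S : Subgroup C), ∀ a' ∈ (S : Subgroup C), a * a' = a' * a := fun a ha a' ha' => by
    have := (IsPGroup.isMulCommutative_of_card_eq_prime_sq (G := (S : Subgroup C)) hS).is_comm.comm ⟨a, ha⟩ ⟨a', ha'⟩
    exact congrArg Subtype.val this
  set Q := Subgroup.zpowers x with hQ
  have hQn : Q.Normal := ⟨fun a ha c => by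
    rw [Subgroup.mem_center_iff.mp ((Subgroup.zpowers_le.mpr hx) ha) c, mul_inv_cancel_right]; exact ha⟩
  have hQp : IsPGroup p Q := IsPGroup.of_card (n := 1) (by rw [pow_one, hQ, Nat.card_zpowers, hxp])
  have hQC : Subgroup.centralizer (Q : Set C) = ⊤ := eq_top_iff.mpr fun c _ =>
    Subgroup.mem_centralizer_iff.mpr fun a ha => (Subgroup.mem_center_iff.mp ((Subgroup.zpowers_le.mpr hx) ha) c).symm
  have hidx : ∃ j : ℕ, (Subgroup.centralizer (Q : Set C)).index = p ^ j := ⟨0, by rw [hQC, Subgroup.index_top, pow_zero]⟩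
  have := Fintype.ofFinite (C ⧸ Q)
  obtain ⟨P'⟩ : Nonempty (Sylow p (C ⧸ Q)) := inferInstance
  have hcard : Nat.card C = Nat.card (C ⧸ Q) * p := by
    rw [Subgroup.card_eq_card_quotient_mul_card_subgroup Q, hQ, Nat.card_zpowers, hxp]
  have hP' : Nat.card P' = p := by
    rw [P'.card_eq_multiplicity]
    have h1 : (Nat.card C).factorization p = 2 := by
      have := S.card_eq_multiplicity
      rw [hS] at this
      exact (Nat.pow_right_injective hp.two_le this).symm
    rw [hcard, Nat.factorization_mul Nat.card_pos.ne' hp.ne_zero, Finsupp.add_apply, hp.factorization_self] at h1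
    rw [show (Nat.card (C ⧸ Q)).factorization p = 1 by omega, pow_one]
  obtain ⟨e, t, X, εX, het, hXc, hspan, hεX, hprj⟩ := prj_nonexceptional hM P' hP'
  have he0 : 0 < e := Nat.pos_of_ne_zero fun h => by rw [h, zero_mul] at het; have := hp.two_le; omega
  have hinflB : ∀ η : IrrCharacter (C ⧸ Q), BlocksDefect.inflate Q η ∈ principalBlock M C → η ∈ principalBlock M (C ⧸ Q) := by
    intro η h
    have e : BlocksDefect.inflate Q (oneChar (C ⧸ Q)) = oneChar C := Subtype.ext rfl
    rw [mem_principalBlock_iff, ← e] at h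
    rw [mem_principalBlock_iff]
    exact sameBlock_of_inflate_pGroup hM hQp hidx h
  have hco : ∀ η : principalBlock M C, ∃ c : IrrCharacter (C ⧸ Q) → ℤ, ∀ g, ¬ p ∣ orderOf g →
      ((η : IrrCharacter C) : C → ℂ) g = ∑ χ ∈ X, (c χ : ℂ) * (χ : C ⧸ Q → ℂ) (QuotientGroup.mk g) := by
    intro η
    obtain ⟨η', hη', hker, hreg⟩ := exists_twist hM S hexp hcomm hx hxS hx1 η.2
    obtain ⟨ψ, hψ⟩ := exists_inflate_eq (N := Q) η' hker
    obtain ⟨c, hc⟩ := hspan ψ (hinflB ψ (hψ ▸ hη'))
    refine ⟨c, fun g hg => ?_⟩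
    rw [← hreg g hg, ← hψ, inflate_val]
    exact hc _ fun h => hg (h.trans (orderOf_map_dvd (QuotientGroup.mk' Q) g))
  choose c hc using hco
  refine ⟨e, he0, ?_, fun z hz => ?_⟩
  · rw [blockRank_eq_finrank]
    let F : IrrCharacter (C ⧸ Q) → (C → ℂ) := fun χ => pRegularPart p (BlocksDefect.inflate Q χ : C → ℂ)
    refine le_trans (Submodule.finrank_mono (show regSpan p (principalBlock M C) ≤
      Submodule.span ℂ (↑(X.image F) : Set (C → ℂ)) from ?_)) ((finrank_span_finset_le_card _).trans (Finset.card_image_le.trans hXc.le))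
    refine Submodule.span_le.mpr ?_
    rintro _ ⟨η, hη, rfl⟩
    have e : pRegularPart p (η : C → ℂ) = ∑ χ ∈ X, (c ⟨η, hη⟩ χ : ℂ) • F χ := by
      funext g
      rw [Finset.sum_apply]
      by_cases hg : p ∣ orderOf g
      · rw [BC85.pRegularPart_neg hg]
        exact (Finset.sum_eq_zero fun χ _ => by simp [F, BC85.pRegularPart_neg hg]).symm
      · rw [BC85.pRegularPart_pos hg, hc ⟨η, hη⟩ g hg]
        refine Finset.sum_congr rfl fun χ _ => ?_
        simp only [F, Pi.smul_apply, smul_eq_mul, BC85.pRegularPart_pos hg, inflate_val]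
    show pRegularPart p (η : C → ℂ) ∈ Submodule.span ℂ (↑(X.image F) : Set (C → ℂ))
    rw [e]
    exact Submodule.sum_mem _ fun χ hχ => Submodule.smul_mem _ _
      (Submodule.subset_span (Finset.mem_coe.mpr (Finset.mem_image_of_mem F hχ)))
  · have hinf : ∀ χ χ' : IrrCharacter (C ⧸ Q),
        (p : ℂ) * BC85.prj p (BlocksDefect.inflate Q χ) (BlocksDefect.inflate Q χ') = BC85.prj p χ χ' := by
      intro χ χ'
      rw [BC85.prj_def, BC85.prj_def, classInner, classInner, hcard, ← mul_assoc,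
        show (p : ℂ) * (((Nat.card (C ⧸ Q) * p : ℕ) : ℂ))⁻¹ = ((Nat.card (C ⧸ Q) : ℕ) : ℂ)⁻¹ by
          push_cast; field_simp [Nat.cast_ne_zero.mpr hp.ne_zero]]
      congr 1
      rw [← Finset.sum_subset (Finset.subset_univ (Finset.univ.filter fun g : C => ¬ p ∣ orderOf g)) (fun g _ hg => by
          rw [BC85.pRegularPart_neg (by simpa using hg), zero_mul]),
        ← Finset.sum_subset (Finset.subset_univ (Finset.univ.filter fun q : C ⧸ Q => ¬ p ∣ orderOf q)) (fun q _ hq => by
          rw [BC85.pRegularPart_neg (by simpa using hq), zero_mul])]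
      refine Finset.sum_bij (fun g _ => (QuotientGroup.mk g : C ⧸ Q)) (fun g hg => ?_) (fun g hg g' hg' h => ?_)
        (fun q hq => ?_) (fun g hg => ?_)
      · refine Finset.mem_filter.mpr ⟨Finset.mem_univ _, fun h => (Finset.mem_filter.mp hg).2 ?_⟩
        exact h.trans (orderOf_map_dvd (QuotientGroup.mk' Q) g)
      · exact eq_of_regular_of_coset hQp (Finset.mem_filter.mp hg).2 (Finset.mem_filter.mp hg').2
          (regular_mem_centralizer hidx (Finset.mem_filter.mp hg).2) h
      · obtain ⟨g0, rfl⟩ := QuotientGroup.mk'_surjective Q q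
        obtain ⟨g, hg, hgq⟩ := exists_regular_in_coset (N := Q) (Finset.mem_filter.mp hq).2
        exact ⟨g, Finset.mem_filter.mpr ⟨Finset.mem_univ _, hg⟩, hgq⟩
      · have hg' : ¬ p ∣ orderOf g := (Finset.mem_filter.mp hg).2
        rw [BC85.pRegularPart_pos hg', BC85.pRegularPart_pos (show ¬ p ∣ orderOf (g : C ⧸ Q) from fun h => hg' (h.trans (orderOf_map_dvd (QuotientGroup.mk' Q) g))),
          inflate_val, inflate_val]
    have hm' : ∀ η η' : principalBlock M C, (m η η' : ℂ) = ∑ χ ∈ X, ∑ χ' ∈ X,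
        (c η χ : ℂ) * (c η' χ' : ℂ) * ((p : ℂ) * BC85.prj p χ χ') := by
      intro η η'
      rw [hm, BC85.prj_def, classInner, Finset.sum_congr rfl (g := fun g : C => ∑ χ ∈ X, ∑ χ' ∈ X,
        (c η χ : ℂ) * (c η' χ' : ℂ) * (pRegularPart p (BlocksDefect.inflate Q χ : C → ℂ) g * conj ((BlocksDefect.inflate Q χ' : C → ℂ) g)))
        (fun g _ => by
          by_cases hg : p ∣ orderOf g
          · rw [BC85.pRegularPart_neg hg, zero_mul]
            exact (Finset.sum_eq_zero fun χ _ => Finset.sum_eq_zero fun χ' _ => by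
              rw [BC85.pRegularPart_neg hg]; ring).symm
          · rw [BC85.pRegularPart_pos hg, hc η g hg, hc η' g hg, map_sum, Finset.sum_mul_sum]
            refine Finset.sum_congr rfl fun χ _ => Finset.sum_congr rfl fun χ' _ => ?_
            rw [map_mul, map_intCast, BC85.pRegularPart_pos hg, inflate_val, inflate_val]; ring),
        Finset.sum_comm, Finset.mul_sum, Finset.mul_sum]
      refine Finset.sum_congr rfl fun χ _ => ?_
      rw [Finset.sum_comm, Finset.mul_sum, Finset.mul_sum]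
      refine Finset.sum_congr rfl fun χ' _ => ?_
      rw [← hinf, BC85.prj_def, classInner]
      simp only [Finset.mul_sum]
      exact Finset.sum_congr rfl fun g _ => by ring
    let d : X → ℤ := fun χ => εX χ * ∑ η : principalBlock M C, z η * c η χ
    have hform : RankTwo.form m z z = (p : ℤ) * ∑ χ : X, d χ ^ 2 - t * (∑ χ : X, d χ) ^ 2 := by
      apply Int.cast_injective (α := ℂ)
      have hz' : ∀ χ : IrrCharacter (C ⧸ Q), χ ∈ X →
          ((∑ η : principalBlock M C, z η * c η χ : ℤ) : ℂ) = ∑ η : principalBlock M C, (z η : ℂ) * (c η χ : ℂ) :=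
        fun χ _ => by push_cast; rfl
      obtain ⟨a, ha⟩ : ∃ a : IrrCharacter (C ⧸ Q) → ℂ, ∀ χ, a χ = ∑ η : principalBlock M C, (z η : ℂ) * (c η χ : ℂ) :=
        ⟨_, fun _ => rfl⟩
      have h1 : ((RankTwo.form m z z : ℤ) : ℂ) = ∑ χ ∈ X, ∑ χ' ∈ X, a χ * a χ' * ((p : ℂ) * BC85.prj p χ χ') := by
        calc ((RankTwo.form m z z : ℤ) : ℂ) = ∑ η, ∑ η', ∑ χ ∈ X, ∑ χ' ∈ X,
              ((z η : ℂ) * (c η χ : ℂ)) * ((z η' : ℂ) * (c η' χ' : ℂ)) * ((p : ℂ) * BC85.prj p χ χ') := by
              simp only [RankTwo.form_apply, Int.cast_sum, Int.cast_mul]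
              refine Finset.sum_congr rfl fun η _ => Finset.sum_congr rfl fun η' _ => ?_
              rw [hm']
              simp only [Finset.mul_sum, Finset.sum_mul]
              exact Finset.sum_congr rfl fun χ _ => Finset.sum_congr rfl fun χ' _ => by ring
          _ = ∑ χ ∈ X, ∑ χ' ∈ X, ∑ η, ∑ η',
              ((z η : ℂ) * (c η χ : ℂ)) * ((z η' : ℂ) * (c η' χ' : ℂ)) * ((p : ℂ) * BC85.prj p χ χ') := by
              rw [Finset.sum_congr rfl fun η _ => Finset.sum_comm, Finset.sum_comm]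
              refine Finset.sum_congr rfl fun χ _ => ?_
              rw [Finset.sum_congr rfl fun η _ => Finset.sum_comm, Finset.sum_comm]
          _ = _ := by
              refine Finset.sum_congr rfl fun χ _ => Finset.sum_congr rfl fun χ' _ => ?_
              rw [ha, ha, Finset.sum_mul_sum, Finset.sum_mul]
              exact Finset.sum_congr rfl fun η _ => (Finset.sum_mul _ _ _).symm
      have hd : ∀ χ : X, ((d χ : ℤ) : ℂ) = (εX χ : ℂ) * a χ := fun χ => by
        show ((εX χ * ∑ η : principalBlock M C, z η * c η χ : ℤ) : ℂ) = _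
        rw [Int.cast_mul, hz' χ χ.2, ha]
      clear_value d
      rw [h1, Int.cast_sub, Int.cast_mul, Int.cast_mul, Int.cast_pow, Int.cast_sum, Int.cast_sum,
        Int.cast_natCast, Int.cast_natCast]
      simp only [Int.cast_pow, hd]
      rw [Finset.sum_coe_sort X (fun χ => ((εX χ : ℂ) * a χ) ^ 2), Finset.sum_coe_sort X (fun χ => (εX χ : ℂ) * a χ),
        sq (Finset.sum _ _), Finset.sum_mul_sum, Finset.mul_sum, Finset.mul_sum, ← Finset.sum_sub_distrib]
      refine Finset.sum_congr rfl fun χ hχ => ?_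
      rw [Finset.mul_sum]
      have h2 : (p : ℂ) * ((εX χ : ℂ) * a χ) ^ 2 = ∑ χ' ∈ X, (if χ = χ' then (p : ℂ) * a χ * a χ' else 0) := by
        rw [Finset.sum_ite_eq X χ, if_pos hχ]
        rcases hεX χ hχ with h | h <;> simp [h] <;> ring
      rw [h2, ← Finset.sum_sub_distrib]
      refine Finset.sum_congr rfl fun χ' hχ' => ?_
      rw [hprj χ hχ χ' hχ']
      split_ifs <;> ring
    rw [hform] at hz ⊢
    exact quad_bound hp (by rw [Fintype.card_coe, hXc]) het d hz

end Cfsg.Agent.BC84.SmallCent
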