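import Cfsg.Agent.BC84.SolvRealTools
import Cfsg.Agent.Lib.Solvable.Basic
import Cfsg.Agent.Lib.PComplement.Stability
import Mathlib.GroupTheory.Sylow

/-!
# Counting real characters of odd degree of a solvable group
-/

set_option autoImplicit false
set_option linter.unusedSectionVars false

namespace Cfsg.Agent.BC84.SolvReal

open BlocksCore
open scoped ComplexConjugate

variable {G : Type*} [Group G]

/-- Linear characters with values `±1`. -/
def Sgn (P : Subgroup G) : Type _ := {μ : P →* ℂˣ // ∀ x, μ x ^ 2 = 1}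

/-- Conjugacy under the normalizer. -/
def Rel (P : Subgroup G) (μ μ' : Sgn P) : Prop :=
  ∃ n ∈ Subgroup.normalizer (P : Set G), ∀ x y : P, (y : G) = n * x * n⁻¹ → μ'.1 x = μ.1 y

/-- Conjugacy under the normalizer as a setoid. -/
def orbSetoid (P : Subgroup G) : Setoid (Sgn P) where
  r := Rel P
  iseqv :=
    { refl := fun μ => ⟨1, one_mem _, fun x y h => by rw [show y = x from Subtype.ext (by simpa using h)]⟩
      symm := fun {μ μ'} ⟨n, hn, h⟩ => ⟨n⁻¹, inv_mem hn, fun x y e => (h y x (by rw [e]; group)).symm⟩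
      trans := fun {μ μ' μ''} ⟨n, hn, h⟩ ⟨n', hn', h'⟩ => ⟨n * n', mul_mem hn hn', fun x y e => by
        have hz : n' * x * n'⁻¹ ∈ P := (Subgroup.mem_normalizer_iff.mp hn' x).mp x.2
        rw [h' x ⟨_, hz⟩ rfl, h ⟨_, hz⟩ y (by rw [e]; group)]⟩ }

/-- The orbits of the normalizer. -/
def Orb (P : Subgroup G) : Type _ := Quotient (orbSetoid P)

theorem card_orb_congr {G' : Type*} [Group G'] {P : Subgroup G} {P' : Subgroup G'} (ε : P ≃* P')
    (f : G →* G') (hf : ∀ x : P, ((ε x : P') : G') = f x)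
    (hN : (Subgroup.normalizer (P : Set G)).map f = Subgroup.normalizer (P' : Set G')) :
    Nat.card (Orb P) = Nat.card (Orb P') := by
  let φ : Sgn P ≃ Sgn P' :=
    { toFun := fun μ => ⟨μ.1.comp ε.symm.toMonoidHom, fun x => μ.2 _⟩
      invFun := fun μ => ⟨μ.1.comp ε.toMonoidHom, fun x => μ.2 _⟩
      left_inv := fun μ => Subtype.ext (MonoidHom.ext fun x => congrArg μ.1 (ε.symm_apply_apply x))
      right_inv := fun μ => Subtype.ext (MonoidHom.ext fun x => congrArg μ.1 (ε.apply_symm_apply x)) }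
  refine Nat.card_congr (Quotient.congr φ fun μ μ' => ⟨?_, ?_⟩)
  · rintro ⟨n, hn, h⟩
    refine ⟨f n, hN ▸ Subgroup.mem_map_of_mem f hn, fun x y e => ?_⟩
    obtain ⟨x, rfl⟩ := ε.surjective x
    have hz : n * x * n⁻¹ ∈ P := (Subgroup.mem_normalizer_iff.mp hn x).mp x.2
    have hy : y = ε ⟨_, hz⟩ := Subtype.ext (by rw [e, hf, hf]; simp)
    subst hy
    show μ'.1 (ε.symm (ε x)) = μ.1 (ε.symm (ε ⟨_, hz⟩))
    rw [ε.symm_apply_apply, ε.symm_apply_apply]
    exact h x _ rfl
  · rintro ⟨n', hn', h⟩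
    rw [← hN] at hn'
    obtain ⟨n, hn, rfl⟩ := hn'
    refine ⟨n, hn, fun x y e => ?_⟩
    have := h (ε x) (ε y) (by rw [hf, hf, e]; simp)
    change μ'.1 (ε.symm (ε x)) = μ.1 (ε.symm (ε y)) at this
    rwa [ε.symm_apply_apply, ε.symm_apply_apply] at this

variable [Finite G]

theorem normal_le_sylow (P : Sylow 2 G) (M : Subgroup G) [M.Normal] (hM : IsPGroup 2 M) :
    M ≤ (P : Subgroup G) := by
  have := Fact.mk Nat.prime_two
  obtain ⟨Q, hQ⟩ := hM.exists_le_sylow
  obtain ⟨g, hg⟩ := MulAction.exists_smul_eq G Q P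
  intro m hm
  rw [← hg, Sylow.coe_subgroup_smul, Subgroup.mem_pointwise_smul_iff_inv_smul_mem, ← map_inv, MulAut.smul_def,
    MulAut.conj_apply]
  exact hQ ((inferInstance : M.Normal).conj_mem m hm g⁻¹)

theorem sylow_odd_index (P : Sylow 2 G) : Odd (P : Subgroup G).index := by
  have := Fact.mk Nat.prime_two
  rw [← Nat.not_even_iff_odd, even_iff_two_dvd]
  exact P.not_dvd_index

section Over

variable {H : Type*} [Group H] [Fintype H] {M : Subgroup H} [M.Normal] [Fintype M]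

/-- Over an invariant linear character, a real linear extension reduces to the quotient. -/
theorem card_over_eq (P : Sylow 2 H) (hMP : M ≤ (P : Subgroup H)) (lam : M →* ℂˣ)
    (hlam : ∀ (g : H) (m : M), lam (MulAut.conjNormal g m) = lam m) (hsq : ∀ m, lam m ^ 2 = 1)
    (hIH : ∀ P' : Sylow 2 (H ⧸ M), Nat.card (realOdd (H ⧸ M)) = Nat.card (Orb (P' : Subgroup (H ⧸ M)))) :
    Nat.card {χ : IrrCharacter H // χ ∈ realOdd H ∧ mult M (χ : H → ℂ) (linIrr lam) ≠ 0} =
      Nat.card {o : Orb (P : Subgroup H) // ∃ μ : Sgn (P : Subgroup H), (⟦μ⟧ : Quotient (orbSetoid _)) = o ∧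
        ∀ m : M, μ.1 ⟨m, hMP m.2⟩ = lam m} := by
  classical
  have := Fact.mk Nat.prime_two
  have hoddP := sylow_odd_index P
  by_cases hex : ∃ μ : Sgn (P : Subgroup H), ∀ m : M, μ.1 ⟨m, hMP m.2⟩ = lam m
  · obtain ⟨μ₀, hμ₀⟩ := hex
    set f : H →* ℂˣ := MonoidHom.transfer μ₀.1 with hf
    have hfM : ∀ m : M, f (m : H) = lam m := fun m => by
      rw [hf, transfer_apply (P : Subgroup H) hoddP hMP μ₀.1 (fun g a => by rw [hμ₀, hμ₀, hlam])
        (fun a => μ₀.2 _) m, hμ₀]
    have hf2 : ∀ g, f g ^ 2 = 1 := fun g => by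
      rw [hf, MonoidHom.transfer_def μ₀.1 default, Subgroup.leftTransversals.diff, ← Finset.prod_pow]
      exact Finset.prod_eq_one fun q _ => μ₀.2 _
    have hfr : IsReal (fun g => (f g : ℂ)) := (isReal_hom_iff f).mpr hf2
    -- twisting
    let tw : IrrCharacter H → IrrCharacter H := fun χ =>
      ⟨_, CharCore.isIrrCharacter_hom_mul f χ.2⟩
    have htwtw : ∀ χ, tw (tw χ) = χ := fun χ => Subtype.ext (funext fun g => by
      show (f g : ℂ) * ((f g : ℂ) * (χ : H → ℂ) g) = _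
      rw [← mul_assoc, ← Units.val_mul, ← sq, hf2, Units.val_one, one_mul])
    have htwdeg : ∀ χ, charDegree ((tw χ : IrrCharacter H) : H → ℂ) = charDegree (χ : H → ℂ) := fun χ => by
      show ⌊((f (1 : H) : ℂ) * (χ : H → ℂ) 1).re⌋₊ = _
      rw [map_one, Units.val_one, one_mul]
      rfl
    have htwreal : ∀ χ, χ ∈ realOdd H → tw χ ∈ realOdd H := fun χ hχ =>
      ⟨isReal_mul hfr hχ.1, by rw [htwdeg]; exact hχ.2⟩
    have htwker : ∀ χ : IrrCharacter H, mult M (χ : H → ℂ) (linIrr lam) ≠ 0 → M ≤ BC87.kerChar (tw χ) := by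
      intro χ hχ m hm
      rw [BC87.mem_kerChar]
      show (f m : ℂ) * (χ : H → ℂ) m = (f 1 : ℂ) * (χ : H → ℂ) 1
      rw [map_one, Units.val_one, one_mul, restrict_eq χ lam hlam hχ ⟨m, hm⟩, hfM ⟨m, hm⟩, ← mul_assoc,
        ← Units.val_mul, ← sq, hsq, Units.val_one, one_mul, irr_one_eq]
    have htwover : ∀ χ : IrrCharacter H, M ≤ BC87.kerChar χ → mult M ((tw χ : IrrCharacter H) : H → ℂ) (linIrr lam) ≠ 0 := by
      intro χ hχ
      have e : (fun m : M => ((tw χ : IrrCharacter H) : H → ℂ) m) =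
          ((χ : H → ℂ) 1) • ((linIrr lam : IrrCharacter M) : M → ℂ) := funext fun m => by
        show (f (m : H) : ℂ) * (χ : H → ℂ) m = (χ : H → ℂ) 1 * (lam m : ℂ)
        rw [BC87.mem_kerChar.mp (hχ m.2), hfM, mul_comm]
      rw [mult, e, CharCore.classInner_smul_left, CharCore.classInner_irr_self, mul_one]
      exact CharCore.irr_apply_one_ne_zero χ
    have hleft : Nat.card {χ : IrrCharacter H // χ ∈ realOdd H ∧ mult M (χ : H → ℂ) (linIrr lam) ≠ 0} =
        Nat.card (realOdd (H ⧸ M)) := by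
      rw [← card_realOdd_quotient]
      exact Nat.card_congr
        { toFun := fun χ => ⟨tw χ.1, htwreal _ χ.2.1, htwker _ χ.2.2⟩
          invFun := fun χ => ⟨tw χ.1, htwreal _ χ.2.1, htwover _ χ.2.2⟩
          left_inv := fun χ => Subtype.ext (htwtw _)
          right_inv := fun χ => Subtype.ext (htwtw _) }
    set π := QuotientGroup.mk' M with hπ
    let P' : Sylow 2 (H ⧸ M) := P.mapSurjective (QuotientGroup.mk'_surjective M)
    rw [hleft, hIH P']
    let πP : (P : Subgroup H) →* (P' : Subgroup (H ⧸ M)) := π.subgroupMap (P : Subgroup H)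
    have hπP : Function.Surjective πP := π.subgroupMap_surjective _
    let up : Sgn (P' : Subgroup (H ⧸ M)) → Sgn (P : Subgroup H) := fun ν =>
      ⟨ν.1.comp πP * f.comp (P : Subgroup H).subtype, fun x => by
        show (ν.1 (πP x) * f (x : H)) ^ 2 = 1
        rw [mul_pow, ν.2, hf2, one_mul]⟩
    have hupM : ∀ ν (m : M), (up ν).1 ⟨m, hMP m.2⟩ = lam m := fun ν m => by
      show ν.1 (πP ⟨m, hMP m.2⟩) * f (m : H) = lam m
      rw [show πP ⟨m, hMP m.2⟩ = 1 from Subtype.ext ((QuotientGroup.eq_one_iff _).mpr m.2), map_one, one_mul, hfM]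
    have hconjf : ∀ (n : H) (x : H), f (n * x * n⁻¹) = f x := fun n x => by
      rw [map_mul, map_mul, map_inv, mul_inv_eq_iff_eq_mul, mul_comm]
    have hiff : ∀ ν ν', Rel (P' : Subgroup (H ⧸ M)) ν ν' ↔ Rel (P : Subgroup H) (up ν) (up ν') := by
      intro ν ν'
      constructor
      · rintro ⟨q, hq, h⟩
        obtain ⟨n, rfl⟩ := QuotientGroup.mk'_surjective M q
        refine ⟨n, ?_, fun x y e => ?_⟩
        · have : Finite H := inferInstance
          refine Subgroup.mem_normalizer_iff_map_conj_eq.mpr (Subgroup.eq_of_le_of_card_ge ?_ ?_)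
          · rintro _ ⟨x, hx, rfl⟩
            have h1 : π n * π x * (π n)⁻¹ ∈ (P' : Subgroup (H ⧸ M)) :=
              (Subgroup.mem_normalizer_iff.mp hq _).mp (Subgroup.mem_map_of_mem π hx)
            rw [← map_inv, ← map_mul, ← map_mul] at h1
            have h2 : n * x * n⁻¹ ∈ ((P : Subgroup H).map π).comap π := h1
            rw [Subgroup.comap_map_eq, QuotientGroup.ker_mk', sup_eq_left.mpr hMP] at h2
            exact h2
          · exact (Nat.card_congr ((P : Subgroup H).equivMapOfInjective _ (MulAut.conj n).injective).toEquiv).le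
        · show ν'.1 (πP x) * f (x : H) = ν.1 (πP y) * f (y : H)
          rw [h (πP x) (πP y) (by show π (y : H) = π n * π x * (π n)⁻¹; rw [e]; simp), e, hconjf]
      · rintro ⟨n, hn, h⟩
        refine ⟨π n, Subgroup.le_normalizer_map π (Subgroup.mem_map_of_mem π hn), fun x y e => ?_⟩
        obtain ⟨x, rfl⟩ := hπP x
        have hz : n * x * n⁻¹ ∈ (P : Subgroup H) := (Subgroup.mem_normalizer_iff.mp hn x).mp x.2
        have hy : y = πP ⟨_, hz⟩ := Subtype.ext (e.trans (by show π n * π x * (π n)⁻¹ = π (n * x * n⁻¹); simp))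
        subst hy
        have h1 := h x ⟨_, hz⟩ rfl
        change ν'.1 (πP x) * f (x : H) = ν.1 (πP ⟨_, hz⟩) * f (n * x * n⁻¹) at h1
        rw [hconjf] at h1
        exact mul_right_cancel h1
    let Φ : Orb (P' : Subgroup (H ⧸ M)) → {o : Orb (P : Subgroup H) // ∃ μ : Sgn (P : Subgroup H),
        (⟦μ⟧ : Quotient (orbSetoid _)) = o ∧ ∀ m : M, μ.1 ⟨m, hMP m.2⟩ = lam m} :=
      Quotient.lift (fun ν => ⟨(⟦up ν⟧ : Quotient (orbSetoid _)), up ν, rfl, hupM ν⟩)
        fun ν ν' h => Subtype.ext (Quotient.sound ((hiff ν ν').mp h))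
    refine Nat.card_eq_of_bijective Φ ⟨fun o o' => ?_, ?_⟩
    · induction o, o' using Quotient.inductionOn₂ with
      | h ν ν' => exact fun h => Quotient.sound ((hiff ν ν').mpr (Quotient.exact (congrArg Subtype.val h)))
    · rintro ⟨o, μ, rfl, hμ⟩
      let g : (P : Subgroup H) →* ℂˣ := μ.1 * f.comp (P : Subgroup H).subtype
      have hg : πP.ker ≤ g.ker := by
        intro x hx
        have hxM : (x : H) ∈ M := (QuotientGroup.eq_one_iff _).mp (congrArg Subtype.val (MonoidHom.mem_ker.mp hx))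
        rw [MonoidHom.mem_ker]
        show μ.1 ⟨(x : H), hMP (⟨x, hxM⟩ : M).2⟩ * f ((⟨x, hxM⟩ : M) : H) = 1
        rw [hμ ⟨x, hxM⟩, hfM, ← sq, hsq]
      let ν : Sgn (P' : Subgroup (H ⧸ M)) := ⟨MonoidHom.liftOfSurjective πP hπP ⟨g, hg⟩, fun y => by
        obtain ⟨x, rfl⟩ := hπP y
        rw [MonoidHom.liftOfRightInverse_comp_apply]
        show (μ.1 x * f (x : H)) ^ 2 = 1
        rw [mul_pow, μ.2, hf2, one_mul]⟩
      refine ⟨(⟦ν⟧ : Quotient (orbSetoid _)), Subtype.ext (congrArg (Quotient.mk (orbSetoid (P : Subgroup H))) (Subtype.ext (MonoidHom.ext fun x => ?_)))⟩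
      show MonoidHom.liftOfSurjective πP hπP ⟨g, hg⟩ (πP x) * f (x : H) = μ.1 x
      rw [MonoidHom.liftOfRightInverse_comp_apply]
      show μ.1 x * f (x : H) * f (x : H) = μ.1 x
      rw [mul_assoc, ← sq, hf2, mul_one]
  · have h1 : IsEmpty {χ : IrrCharacter H // χ ∈ realOdd H ∧ mult M (χ : H → ℂ) (linIrr lam) ≠ 0} := by
      refine ⟨fun χ => hex ⟨⟨(CharDeep.Ext.detHom ((χ.1 : IrrCharacter H) : H → ℂ)).comp (P : Subgroup H).subtype,
        fun x => det_sq χ.1 χ.2.1.1 _⟩, fun m => ?_⟩⟩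
      show CharDeep.Ext.detHom ((χ.1 : IrrCharacter H) : H → ℂ) (m : H) = lam m
      obtain ⟨r, hr⟩ := χ.2.1.2
      rw [det_restrict χ.1 lam hlam χ.2.2, hr, pow_succ, pow_mul, hsq, one_pow, one_mul]
    have h2 : IsEmpty {o : Orb (P : Subgroup H) // ∃ μ : Sgn (P : Subgroup H), (⟦μ⟧ : Quotient (orbSetoid _)) = o ∧
        ∀ m : M, μ.1 ⟨m, hMP m.2⟩ = lam m} := ⟨fun o => by
      obtain ⟨o, μ, -, hμ⟩ := o
      exact hex ⟨μ, hμ⟩⟩
    rw [Nat.card_of_isEmpty, Nat.card_of_isEmpty]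

end Over

section Stab

variable {M : Subgroup G} [M.Normal]

/-- The stabilizer of a linear character of a normal subgroup. -/
def stab (lam : M →* ℂˣ) : Subgroup G where
  carrier := {g | ∀ m, lam (MulAut.conjNormal g m) = lam m}
  one_mem' m := by simp
  mul_mem' {a b} ha hb m := by rw [map_mul, MulAut.mul_apply, ha, hb]
  inv_mem' {a} ha m := by
    have h := ha (MulAut.conjNormal a⁻¹ m)
    rw [← MulAut.mul_apply, ← map_mul, mul_inv_cancel, map_one, MulAut.one_apply] at h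
    exact h.symm

theorem mem_stab {lam : M →* ℂˣ} {g : G} : g ∈ stab lam ↔ ∀ m, lam (MulAut.conjNormal g m) = lam m := Iff.rfl

theorem le_stab_of_comm (hab : ∀ a b : M, a * b = b * a) (lam : M →* ℂˣ) : M ≤ stab lam := fun g hg m => by
  refine congrArg lam (Subtype.ext ?_)
  rw [MulAut.conjNormal_apply]
  have h : g * (m : G) = (m : G) * g := congrArg Subtype.val (hab ⟨g, hg⟩ m)
  rw [h, mul_inv_cancel_right]

/-- Fixed linear characters in one orbit are conjugate under the normalizer. -/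
theorem exists_normalizer_conj (P : Sylow 2 G) (lam lam' : M →* ℂˣ) (hP : (P : Subgroup G) ≤ stab lam)
    (hP' : (P : Subgroup G) ≤ stab lam') (g : G) (hg : ∀ m, lam' m = lam (MulAut.conjNormal g m)) :
    ∃ n ∈ Subgroup.normalizer ((P : Subgroup G) : Set G), ∀ m, lam' m = lam (MulAut.conjNormal n m) := by
  have := Fact.mk Nat.prime_two
  have hQ : ((g • P : Sylow 2 G) : Subgroup G) ≤ stab lam := by
    intro z hz
    rw [Sylow.coe_subgroup_smul] at hz
    obtain ⟨x, hx, rfl⟩ := hz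
    intro m
    have h := hP' hx (MulAut.conjNormal g⁻¹ m)
    rw [hg, hg, ← MulAut.mul_apply, ← map_mul, ← MulAut.mul_apply, ← map_mul, ← MulAut.mul_apply, ← map_mul,
      mul_inv_cancel, map_one, MulAut.one_apply] at h
    change lam (MulAut.conjNormal (g * x * g⁻¹) m) = lam m
    first | exact h | (rw [← mul_assoc] at h; exact h)
  obtain ⟨t, ht⟩ := MulAction.exists_smul_eq (stab lam) ((g • P).subtype hQ) (P.subtype hP)
  refine ⟨(t : G) * g, ?_, fun m => ?_⟩
  · rw [Sylow.smul_subtype] at ht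
    exact Sylow.smul_eq_iff_mem_normalizer.mp ((mul_smul _ g P).trans (Sylow.subtype_injective ht))
  · rw [hg, map_mul, MulAut.mul_apply, t.2]

end Stab

universe u

variable {K : Type u} [Group K] [Fintype K]

/-- The step at a normal elementary two-subgroup. -/
theorem count_two (P : Sylow 2 K) (M : Subgroup K) [M.Normal] (hM : IsPGroup 2 M)
    (hab : ∀ a b : M, a * b = b * a) (hexp : ∀ x ∈ M, x ^ 2 = 1)
    (hIH : ∀ (T : Subgroup K) (_ : M ≤ T) (Q : Sylow 2 (T ⧸ M.subgroupOf T)),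
      Nat.card (realOdd (T ⧸ M.subgroupOf T)) = Nat.card (Orb (Q : Subgroup (T ⧸ M.subgroupOf T)))) :
    Nat.card (realOdd K) = Nat.card (Orb (P : Subgroup K)) := by
  classical
  have := Fact.mk Nat.prime_two
  have := Fintype.ofFinite M
  have hMP := normal_le_sylow P M hM
  have hsq : ∀ (lam : M →* ℂˣ) (m : M), lam m ^ 2 = 1 := fun lam m => by
    rw [← map_pow, show m ^ 2 = 1 from Subtype.ext (hexp m m.2), map_one]
  let PF := {lam : M →* ℂˣ // (P : Subgroup K) ≤ stab lam}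
  let rPF : Setoid PF :=
    { r := fun a b => ∃ n ∈ Subgroup.normalizer ((P : Subgroup K) : Set K), ∀ m, b.1 m = a.1 (MulAut.conjNormal n m)
      iseqv :=
        { refl := fun a => ⟨1, one_mem _, fun m => by simp⟩
          symm := fun {a b} ⟨n, hn, h⟩ => ⟨n⁻¹, inv_mem hn, fun m => by
            rw [h, ← MulAut.mul_apply, ← map_mul, mul_inv_cancel, map_one, MulAut.one_apply]⟩
          trans := fun {a b c} ⟨n, hn, h⟩ ⟨n', hn', h'⟩ => ⟨n * n', mul_mem hn hn', fun m => by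
            rw [h', h, map_mul, MulAut.mul_apply]⟩ } }
  -- constituents
  have hconst : ∀ χ : realOdd K, ∃ lam : PF, mult M ((χ.1 : IrrCharacter K) : K → ℂ) (linIrr lam.1) ≠ 0 := by
    intro χ
    obtain ⟨θ, hθ, -, hfix⟩ := exists_fixed_constituent (M := M) χ.1 χ.2.2 (P : Subgroup K) P.2
    obtain ⟨lam, hlam⟩ := exists_hom_of_comm hab θ
    refine ⟨⟨lam, fun x hx m => Units.ext ?_⟩, ?_⟩
    · have := hfix x hx m
      rwa [hlam] at this
    · rwa [show linIrr lam = θ from Subtype.ext hlam.symm]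
  choose c hc using hconst
  have hsame : ∀ (χ : IrrCharacter K) (a b : PF), mult M (χ : K → ℂ) (linIrr a.1) ≠ 0 →
      mult M (χ : K → ℂ) (linIrr b.1) ≠ 0 → rPF.r a b := by
    intro χ a b ha hb
    obtain ⟨x, hx⟩ := CharClifford.exists_conjFun_eq_of_constituents M χ.2 (linIrr a.1).2 (linIrr b.1).2 ha hb
    have hex : ∃ g : K, ∀ m, b.1 m = a.1 (MulAut.conjNormal g m) := by
      first
        | refine ⟨x, fun m => Units.ext ?_⟩
          have h := congrFun hx m
          rw [CharClifford.conjFun_apply] at h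
          exact h.trans (congrArg (fun z : ℂˣ => (z : ℂ)) (congrArg a.1 (Subtype.ext (by simp))))
        | refine ⟨x⁻¹, fun m => Units.ext ?_⟩
          have h := congrFun hx m
          rw [CharClifford.conjFun_apply] at h
          exact h.trans (congrArg (fun z : ℂˣ => (z : ℂ)) (congrArg a.1 (Subtype.ext (by simp))))
    obtain ⟨g, hg⟩ := hex
    exact exists_normalizer_conj P a.1 b.1 a.2 b.2 g hg
  let F : realOdd K → Quotient rPF := fun χ => ⟦c χ⟧
  let res : Sgn (P : Subgroup K) → PF := fun μ => ⟨μ.1.comp (Subgroup.inclusion hMP), fun x hx m => by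
    show μ.1 ⟨_, _⟩ = μ.1 ⟨_, _⟩
    rw [show (⟨((MulAut.conjNormal x m : M) : K), hMP (MulAut.conjNormal x m).2⟩ : (P : Subgroup K)) =
        ⟨x, hx⟩ * ⟨m, hMP m.2⟩ * (⟨x, hx⟩ : (P : Subgroup K))⁻¹ from Subtype.ext (MulAut.conjNormal_apply x m),
      map_mul, map_mul, map_inv, mul_inv_eq_iff_eq_mul, mul_comm]⟩
  have hres : ∀ μ μ', (orbSetoid (P : Subgroup K)).r μ μ' → rPF.r (res μ) (res μ') := by
    rintro μ μ' ⟨n, hn, h⟩
    exact ⟨n, hn, fun m => h ⟨m, hMP m.2⟩ ⟨_, hMP (MulAut.conjNormal n m).2⟩ (MulAut.conjNormal_apply n m)⟩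
  let R : Orb (P : Subgroup K) → Quotient rPF :=
    Quotient.lift (fun μ => (⟦res μ⟧ : Quotient rPF)) fun μ μ' h => Quotient.sound (hres μ μ' h)
  have : Finite (Orb (P : Subgroup K)) := by
    have : Finite (Sgn (P : Subgroup K)) :=
      inferInstanceAs (Finite {μ : (P : Subgroup K) →* ℂˣ // ∀ x, μ x ^ 2 = 1})
    exact Quotient.finite (orbSetoid (P : Subgroup K))
  have := Fintype.ofFinite (Quotient rPF)
  rw [← Nat.card_congr (Equiv.sigmaFiberEquiv F), ← Nat.card_congr (Equiv.sigmaFiberEquiv R),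
    Nat.card_sigma, Nat.card_sigma]
  refine Finset.sum_congr rfl fun cls _ => ?_
  obtain ⟨lam, hlamcls⟩ := Quotient.exists_rep cls
  set T := stab lam.1 with hT
  have hMT : M ≤ T := le_stab_of_comm hab lam.1
  have hPT : (P : Subgroup K) ≤ T := lam.2
  have := Fintype.ofFinite T
  have := Fintype.ofFinite (M.subgroupOf T)
  set e := Subgroup.subgroupOfEquivOfLe hMT with he
  let lamT : (M.subgroupOf T) →* ℂˣ := lam.1.comp e.toMonoidHom
  have hlamT : ∀ (g : T) (m : M.subgroupOf T), lamT (MulAut.conjNormal g m) = lamT m := fun g m => by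
    show lam.1 (e _) = lam.1 (e m)
    rw [← g.2 (e m)]
    exact congrArg lam.1 (Subtype.ext (by simp [e]))
  let PT : Sylow 2 T := P.subtype hPT
  have hMPT : M.subgroupOf T ≤ (PT : Subgroup T) := fun m hm => hMP hm
  have hB := card_over_eq PT hMPT lamT hlamT (fun m => hsq lam.1 _) (fun P' => hIH T hMT P')
  -- the characters
  have hTdef : ∀ g : K, g ∈ T ↔ ∀ m : M, ((linIrr lam.1 : IrrCharacter M) : M → ℂ)
      ⟨g * m * g⁻¹, (inferInstance : M.Normal).conj_mem (m : K) m.2 g⟩ = ((linIrr lam.1 : IrrCharacter M) : M → ℂ) m := by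
    intro g
    refine forall_congr' fun m => ?_
    show _ ↔ (lam.1 _ : ℂ) = (lam.1 m : ℂ)
    rw [Units.val_inj]
    exact iff_of_eq (congrArg (fun z => lam.1 z = lam.1 m) (Subtype.ext (MulAut.conjNormal_apply g m)))
  have htrans : ∀ ψ : IrrCharacter T, mult (M.subgroupOf T) (ψ : T → ℂ) (linIrr lamT) =
      classInner (fun n : M => (ψ : T → ℂ) ⟨(n : K), hMT n.2⟩) ((linIrr lam.1 : IrrCharacter M) : M → ℂ) := by
    intro ψ
    rw [mult, classInner, classInner, Nat.card_congr e.toEquiv]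
    congr 1
    exact Fintype.sum_equiv e.toEquiv _ _ fun x => rfl
  have hidx : Odd T.index := Odd.of_dvd_nat (sylow_odd_index P) (Subgroup.index_dvd_of_le hPT)
  have hindeg : ∀ ψ : IrrCharacter T, ∀ χ : IrrCharacter K, indFun T (ψ : T → ℂ) = (χ : K → ℂ) →
      charDegree (χ : K → ℂ) = T.index * charDegree (ψ : T → ℂ) := by
    intro ψ χ h
    apply Nat.cast_injective (R := ℂ)
    rw [← irr_one_eq, ← h, CharInd.indFun_apply_one, irr_one_eq, Nat.cast_mul]
  have hindconj : ∀ ψ : IrrCharacter T, ∀ g, indFun T ((conjC ψ : IrrCharacter T) : T → ℂ) g = conj (indFun T (ψ : T → ℂ) g) := by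
    intro ψ g
    rw [CharInd.indFun_apply, CharInd.indFun_apply, map_mul, map_inv₀, map_natCast, map_sum]
    congr 1
    refine Finset.sum_congr rfl fun x _ => ?_
    by_cases hx : x⁻¹ * g * x ∈ T
    · rw [CharInd.extendByZero_mem _ hx, CharInd.extendByZero_mem _ hx]; rfl
    · rw [CharInd.extendByZero_notMem _ hx, CharInd.extendByZero_notMem _ hx, map_zero]
  have hconjover : ∀ ψ : IrrCharacter T, mult (M.subgroupOf T) (ψ : T → ℂ) (linIrr lamT) ≠ 0 →
      mult (M.subgroupOf T) ((conjC ψ : IrrCharacter T) : T → ℂ) (linIrr lamT) ≠ 0 := by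
    intro ψ h h0
    apply h
    have h1 := congrArg conj h0
    rw [map_zero, mult, classInner, map_mul, map_inv₀, map_natCast, map_sum] at h1
    rw [mult, classInner, ← h1]
    congr 1
    refine Finset.sum_congr rfl fun m _ => ?_
    rw [map_mul, conjC_apply, Complex.conj_conj]
    exact congrArg ((ψ : T → ℂ) (m : T) * ·) ((((isReal_hom_iff lamT).mpr fun a => hsq lam.1 _).conj_eq m).trans (Complex.conj_conj _).symm)
  have hfib : ∀ χ : realOdd K, F χ = cls ↔ mult M ((χ.1 : IrrCharacter K) : K → ℂ) (linIrr lam.1) ≠ 0 := by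
    intro χ
    constructor
    · intro h
      obtain ⟨n, -, hn⟩ := Quotient.exact (h.trans hlamcls.symm)
      refine fun h0 => hc χ ?_
      rw [← h0, mult, mult, classInner, classInner]
      congr 1
      rw [← Equiv.sum_comp (MulAut.conjNormal n : MulAut M).toEquiv
        (fun m : M => ((χ.1 : IrrCharacter K) : K → ℂ) (m : K) * conj (((linIrr (c χ).1 : IrrCharacter M) : M → ℂ) m))]
      refine Finset.sum_congr rfl fun m _ => ?_
      show ((χ.1 : IrrCharacter K) : K → ℂ) ((MulAut.conjNormal n m : M) : K) * conj ((c χ).1 (MulAut.conjNormal n m) : ℂ) = _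
      rw [← hn, MulAut.conjNormal_apply, CharCore.irr_isClassFunction χ.1 (m : K) n]
      rfl
    · intro h
      exact (Quotient.sound (hsame χ.1 _ _ (hc χ) h)).trans hlamcls
  have hleft : Nat.card {χ : realOdd K // F χ = cls} =
      Nat.card {ψ : IrrCharacter T // ψ ∈ realOdd T ∧ mult (M.subgroupOf T) (ψ : T → ℂ) (linIrr lamT) ≠ 0} := by
    refine (Nat.card_congr (Equiv.ofBijective (fun ψ : {ψ : IrrCharacter T // ψ ∈ realOdd T ∧
        mult (M.subgroupOf T) (ψ : T → ℂ) (linIrr lamT) ≠ 0} =>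
      (⟨⟨⟨_, BC87.isIrrCharacter_indFun_inertia (linIrr lam.1).2 hTdef hMT ψ.1 ((htrans ψ.1) ▸ ψ.2.2)⟩, ?_⟩, ?_⟩ :
        {χ : realOdd K // F χ = cls})) ⟨?_, ?_⟩)).symm
    · refine ⟨isReal_of_conj fun g => ?_, ?_⟩
      · rw [← hindconj, (conjC_eq_iff ψ.1).mpr ψ.2.1.1]
      · rw [hindeg ψ.1 _ rfl]
        exact Nat.odd_mul.mpr ⟨hidx, ψ.2.1.2⟩
    · rw [hfib]
      obtain ⟨ψ', hψ', hind, hmul⟩ : ∃ ψ' : T → ℂ, True ∧ indFun T ψ' = indFun T (ψ.1 : T → ℂ) ∧ ψ' = (ψ.1 : T → ℂ) :=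
        ⟨_, trivial, rfl, rfl⟩
      intro h0
      have hM : mult M (indFun T (ψ.1 : T → ℂ)) (linIrr lam.1) = 0 := h0
      let χ : IrrCharacter K :=
        ⟨_, BC87.isIrrCharacter_indFun_inertia (linIrr lam.1).2 hTdef hMT ψ.1 ((htrans ψ.1) ▸ ψ.2.2)⟩
      have h1 : classInner (fun t : T => (χ : K → ℂ) t) (ψ.1 : T → ℂ) ≠ 0 := by
        rw [← CharInd.classInner_swap, ← CharInd.classInner_indFun_left T _ (CharCore.irr_isClassFunction χ),
          CharCore.classInner_irr_self χ, map_one]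
        exact one_ne_zero
      exact CharCore.classInner_comp_ne_zero T.subtype (Subgroup.inclusion hMT) (CharCore.irr_isCharacter χ)
        ψ.1 (linIrr lam.1) h1 ((htrans ψ.1) ▸ ψ.2.2) hM
    · intro ψ ψ' h
      refine Subtype.ext (BC87.indFun_inertia_injective (linIrr lam.1).2 hTdef hMT ψ.1 ψ'.1
        ((htrans ψ.1) ▸ ψ.2.2) ((htrans ψ'.1) ▸ ψ'.2.2) ?_)
      exact congrArg (fun χ : {χ : realOdd K // F χ = cls} => ((χ.1.1 : IrrCharacter K) : K → ℂ)) h
    · rintro ⟨χ, hχ⟩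
      have hover := (hfib χ).mp hχ
      obtain ⟨ψ, hψ, hind, hmul⟩ := CharDeep.Ext.exists_inertia_induced M (linIrr lam.1).2 T hTdef hMT χ.1.2 hover
      let ψ' : IrrCharacter T := ⟨ψ, hψ⟩
      have hov : mult (M.subgroupOf T) (ψ' : T → ℂ) (linIrr lamT) ≠ 0 := by
        rw [htrans]; show classInner (fun n : M => ψ ⟨(n : K), hMT n.2⟩) _ ≠ 0
        rw [hmul]; exact hover
      have hreal : conjC ψ' = ψ' := by
        refine BC87.indFun_inertia_injective (linIrr lam.1).2 hTdef hMT _ _ ((htrans _) ▸ hconjover _ hov)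
          ((htrans _) ▸ hov) (funext fun g => ?_)
        rw [hindconj]
        show conj (indFun T ψ g) = indFun T ψ g
        rw [hind]
        exact χ.2.1.conj_eq g
      have hdeg : Odd (charDegree (ψ' : T → ℂ)) :=
        Odd.of_dvd_nat χ.2.2 ⟨T.index, by rw [hindeg ψ' χ.1 hind, mul_comm]⟩
      exact ⟨⟨ψ', ⟨(conjC_eq_iff ψ').mp hreal, hdeg⟩, hov⟩, Subtype.ext (Subtype.ext (Subtype.ext hind))⟩
  rw [hleft, hB]
  -- the orbits
  let εT : (PT : Subgroup T) →* (P : Subgroup K) :=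
    { toFun := fun x => ⟨((x : T) : K), x.2⟩, map_one' := rfl, map_mul' := fun _ _ => rfl }
  let δT : (P : Subgroup K) →* (PT : Subgroup T) :=
    { toFun := fun x => ⟨⟨(x : K), hPT x.2⟩, x.2⟩, map_one' := rfl, map_mul' := fun _ _ => rfl }
  let dn : Sgn (P : Subgroup K) → Sgn (PT : Subgroup T) := fun μ => ⟨μ.1.comp εT, fun x => μ.2 _⟩
  let upT : Sgn (PT : Subgroup T) → Sgn (P : Subgroup K) := fun μ => ⟨μ.1.comp δT, fun x => μ.2 _⟩
  have hupT : ∀ μ μ', Rel (PT : Subgroup T) μ μ' → Rel (P : Subgroup K) (upT μ) (upT μ') := by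
    rintro μ μ' ⟨n, hn, h⟩
    refine ⟨(n : K), Subgroup.mem_normalizer_iff.mpr fun z => ⟨fun hz => ?_, fun hz => ?_⟩, fun x y e' => ?_⟩
    · exact (Subgroup.mem_normalizer_iff.mp hn ⟨z, hPT hz⟩).mp hz
    · have hzT : z ∈ T := by
        have := T.mul_mem (T.mul_mem (T.inv_mem n.2) (hPT hz)) n.2
        simpa [mul_assoc] using this
      exact (Subgroup.mem_normalizer_iff.mp hn ⟨z, hzT⟩).mpr hz
    · exact h (δT x) (δT y) (Subtype.ext e')
  let Φ : {o : Orb (PT : Subgroup T) // ∃ μ : Sgn (PT : Subgroup T), (⟦μ⟧ : Quotient (orbSetoid _)) = o ∧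
      ∀ m : M.subgroupOf T, μ.1 ⟨m, hMPT m.2⟩ = lamT m} → {o : Orb (P : Subgroup K) // R o = cls} := fun o =>
    ⟨Quotient.lift (fun μ => (⟦upT μ⟧ : Quotient (orbSetoid (P : Subgroup K))))
      (fun μ μ' h => Quotient.sound (hupT μ μ' h)) o.1, by
      obtain ⟨o, μ, rfl, hμ⟩ := o
      show (⟦res (upT μ)⟧ : Quotient rPF) = cls
      rw [← hlamcls]
      refine congrArg _ (Subtype.ext (MonoidHom.ext fun m => ?_))
      exact hμ (e.symm m)⟩
  refine Nat.card_eq_of_bijective Φ ⟨?_, ?_⟩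
  · rintro ⟨o, μ, rfl, hμ⟩ ⟨o', μ', rfl, hμ'⟩ h
    obtain ⟨n, hn, hn'⟩ := Quotient.exact (congrArg Subtype.val h)
    have hnT : n ∈ T := by
      intro m
      have h1 := hn' ⟨m, hMP m.2⟩ ⟨_, hMP (MulAut.conjNormal n m).2⟩ (MulAut.conjNormal_apply n m)
      have a1 := hμ (e.symm (MulAut.conjNormal n m))
      have a2 := hμ' (e.symm m)
      exact (a1.symm.trans (h1.symm.trans a2))
    refine Subtype.ext (Quotient.sound ⟨⟨n, hnT⟩, Subgroup.mem_normalizer_iff.mpr fun z => ?_, fun x y e' => ?_⟩)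
    · exact Subgroup.mem_normalizer_iff.mp hn (z : K)
    · exact hn' (εT x) (εT y) (congrArg Subtype.val e')
  · rintro ⟨o, ho⟩
    induction o using Quotient.inductionOn with
    | h μ =>
      obtain ⟨n, hn, hnl⟩ := Quotient.exact (ho.trans hlamcls.symm)
      have hcn : ∀ x : (P : Subgroup K), n * x * n⁻¹ ∈ (P : Subgroup K) := fun x =>
        (Subgroup.mem_normalizer_iff.mp hn x).mp x.2
      let cn : (P : Subgroup K) →* (P : Subgroup K) :=
        { toFun := fun x => ⟨_, hcn x⟩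
          map_one' := Subtype.ext (by simp)
          map_mul' := fun x y => Subtype.ext (by simp [mul_assoc]) }
      let μ' : Sgn (P : Subgroup K) := ⟨μ.1.comp cn, fun x => μ.2 _⟩
      refine ⟨⟨(⟦dn μ'⟧ : Quotient (orbSetoid _)), dn μ', rfl, fun m => ?_⟩, Subtype.ext (Quotient.sound ?_)⟩
      · show μ.1 (cn ⟨((m : T) : K), _⟩) = lam.1 (e m)
        rw [hnl (e m)]
        exact congrArg μ.1 (Subtype.ext (MulAut.conjNormal_apply n (e m)).symm)
      · refine (orbSetoid (P : Subgroup K)).iseqv.symm ⟨n, hn, fun x y e' => ?_⟩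
        exact congrArg μ.1 (Subtype.ext e'.symm)

end Cfsg.Agent.BC84.SolvReal
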