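import Cfsg.Agent.BC84.SolvRealCount
import Cfsg.Agent.CharDeep.Ext.LinExt
import Cfsg.Agent.Lib.PGroup.Basic
import Mathlib.GroupTheory.FiniteAbelian.Duality
import Mathlib.Analysis.Complex.Polynomial.Basic

/-!
# Real characters of odd degree of solvable groups: the induction
-/

set_option autoImplicit false
set_option linter.unusedSectionVars false

namespace Cfsg.Agent.BC84.SolvReal

open BlocksCore
open scoped ComplexConjugate

universe u

variable {K : Type u} [Group K]

/-- The condition on a Sylow two-subgroup. -/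
def SylProp (P : Subgroup K) : Prop :=
  (∀ μ : P →* ℂˣ, ∀ x, μ x ^ 2 = 1) ∧ Subgroup.normalizer (P : Set K) = P

theorem sq_eq_one_of_odd {A : Type*} [Monoid A] {a : A} {n : ℕ} (hn : Odd n) (h2 : a ^ 2 = 1) (hn' : a ^ n = 1) :
    a = 1 := by
  obtain ⟨r, rfl⟩ := hn
  rwa [pow_succ, pow_mul, h2, one_pow, one_mul] at hn'

section Odd

variable [Fintype K] {M : Subgroup K} [M.Normal] [Fintype M] (P : Sylow 2 K)
  (hodd : Odd (Nat.card M)) (hab : ∀ a b : M, a * b = b * a)

include hodd

theorem inf_eq_bot_of_odd : M ⊓ (P : Subgroup K) = ⊥ := by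
  refine Subgroup.inf_eq_bot_of_coprime ?_
  obtain ⟨a, ha⟩ := IsPGroup.iff_card.mp P.2
  rw [ha]
  exact Nat.Coprime.pow_right a (Nat.coprime_two_right.mpr hodd)

theorem exists_equiv_map :
    ∃ ε : (P : Subgroup K) ≃* ((P : Subgroup K).map (QuotientGroup.mk' M)),
      (∀ x : (P : Subgroup K), ((ε x : (P : Subgroup K).map (QuotientGroup.mk' M)) : K ⧸ M) = QuotientGroup.mk' M (x : K)) ∧
      (Subgroup.normalizer ((P : Subgroup K) : Set K)).map (QuotientGroup.mk' M) =
        Subgroup.normalizer (((P : Subgroup K).map (QuotientGroup.mk' M) : Subgroup (K ⧸ M)) : Set (K ⧸ M)) := by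
  have := Fact.mk Nat.prime_two
  refine ⟨MulEquiv.ofBijective ((QuotientGroup.mk' M).subgroupMap (P : Subgroup K))
    ⟨(injective_iff_map_eq_one _).mpr fun x hx => ?_, MonoidHom.subgroupMap_surjective _ _⟩, fun x => rfl, ?_⟩
  · refine Subtype.ext (Subgroup.mem_bot.mp (inf_eq_bot_of_odd P hodd ▸ ⟨?_, x.2⟩))
    exact (QuotientGroup.eq_one_iff _).mp (congrArg Subtype.val hx)
  · refine le_antisymm (Subgroup.le_normalizer_map _) fun q hq => ?_
    obtain ⟨g, rfl⟩ := QuotientGroup.mk'_surjective M q
    obtain ⟨k, hk, hkg⟩ := PComplement.exists_mul_mem_normalizer_of_map P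
      (Nat.coprime_two_right.mpr hodd) le_rfl hq
    refine ⟨k * g, hkg, ?_⟩
    rw [map_mul, show QuotientGroup.mk' M k = 1 from (QuotientGroup.eq_one_iff k).mpr hk, one_mul]

theorem trivial_of_real (θ : M →* ℂˣ) (h : IsReal (fun m => (θ m : ℂ))) : θ = 1 := by
  refine MonoidHom.ext fun m => sq_eq_one_of_odd hodd ((isReal_hom_iff θ).mp h m) ?_
  rw [← map_pow, pow_card_eq_one', map_one]

include hab

theorem le_kerChar_of_realOdd (χ : IrrCharacter K) (hχ : χ ∈ realOdd K) : M ≤ BC87.kerChar χ := by
  obtain ⟨θ, hθ, hr, -⟩ := exists_real_constituent (M := M) χ hχ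
  obtain ⟨l, hl⟩ := exists_hom_of_comm hab θ
  rw [hl] at hr
  have h1 := trivial_of_real hodd l hr
  exact le_kerChar_of_trivial χ θ (fun m => by rw [hl, h1]; rfl) hθ

/-- A fixed point of the Sylow subgroup gives a nonreal character of odd degree. -/
theorem fixed_eq_one_of_allReal (hA : AllReal K) (z : M)
    (hz : ∀ x ∈ (P : Subgroup K), MulAut.conjNormal x z = z) : z = 1 := by
  classical
  by_contra hne
  letI : CommGroup M := { (inferInstance : Group M) with mul_comm := hab }
  obtain ⟨ψ, hψ⟩ := CommGroup.exists_apply_ne_one_of_hasEnoughRootsOfUnity M ℂ hne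
  have := Fintype.ofFinite (P : Subgroup K)
  let l : M →* ℂˣ := ∏ x : (P : Subgroup K), ψ.comp (MulAut.conjNormal (x : K) : MulAut M).toMonoidHom
  have hlv : ∀ m, l m = ∏ x : (P : Subgroup K), ψ (MulAut.conjNormal (x : K) m) := fun m => by
    simp [l, MonoidHom.finsetProd_apply]
  have hlz : l z ≠ 1 := by
    intro h
    rw [hlv, Finset.prod_congr rfl fun (x : (P : Subgroup K)) _ => congrArg ψ (hz (x : K) x.2), Finset.prod_const, Finset.card_univ,
      ← Nat.card_eq_fintype_card] at h
    obtain ⟨a, ha⟩ := IsPGroup.iff_card.mp P.2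
    rw [ha] at h
    refine hψ ?_
    have h2 : ψ z ^ Nat.card M = 1 := by rw [← map_pow, pow_card_eq_one', map_one]
    have h3 := pow_gcd_eq_one.mpr ⟨h, h2⟩
    rwa [Nat.Coprime.pow_left a (Nat.coprime_two_left.mpr hodd), pow_one] at h3
  have hlP : ∀ x ∈ (P : Subgroup K), ∀ m, l (MulAut.conjNormal x m) = l m := by
    intro x hx m
    rw [hlv, hlv]
    exact Fintype.prod_equiv (Equiv.mulRight (⟨x, hx⟩ : (P : Subgroup K))) _ _ fun y => by
      rw [Equiv.coe_mulRight, Subgroup.coe_mul, map_mul, MulAut.mul_apply]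
  set H := M ⊔ (P : Subgroup K) with hH
  have hMH : M ≤ H := le_sup_left
  have hHstab : H ≤ stab l := sup_le (le_stab_of_comm hab l) fun x hx m => hlP x hx m
  have := Fintype.ofFinite H
  set e := Subgroup.subgroupOfEquivOfLe hMH with he
  have hcop : Nat.Coprime (M.subgroupOf H).index (orderOf (l.comp e.toMonoidHom)) := by
    have h1 : (M.subgroupOf H).index ∣ Nat.card (P : Subgroup K) := by
      show M.relIndex H ∣ _
      rw [hH, sup_comm, Subgroup.relIndex_sup_right]
      exact Subgroup.relIndex_dvd_card M _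
    have h2 : orderOf (l.comp e.toMonoidHom) ∣ Nat.card M := by
      refine orderOf_dvd_of_pow_eq_one (MonoidHom.ext fun m => ?_)
      rw [MonoidHom.pow_apply]
      show l (e m) ^ Nat.card M = 1
      rw [← map_pow, pow_card_eq_one', map_one]
    obtain ⟨a, ha⟩ := IsPGroup.iff_card.mp P.2
    rw [ha] at h1
    exact Nat.Coprime.coprime_dvd_left h1 (Nat.Coprime.coprime_dvd_right h2
      (Nat.Coprime.pow_left a (Nat.coprime_two_left.mpr hodd)))
  obtain ⟨ν, ⟨hν, -⟩, -⟩ := CharDeep.Ext.exists_unique_extend_coprime (M.subgroupOf H) (l.comp e.toMonoidHom)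
    (fun g n => by
      show l (e _) = l (e n)
      rw [← hHstab g.2 (e n)]
      exact congrArg l (Subtype.ext (by simp [e]))) hcop
  obtain ⟨c, hc⟩ := CharCore.IsCharacter.exists_sum
    (CharInd.isCharacter_indFun H (CharCore.irr_isCharacter (linIrr ν)))
  have hdeg : ((∑ χ : IrrCharacter K, c χ * charDegree (χ : K → ℂ) : ℕ) : ℂ) = (H.index : ℂ) := by
    have h1 := congrFun hc 1
    rw [CharInd.indFun_apply_one] at h1
    simp only [Finset.sum_apply, Pi.smul_apply, smul_eq_mul, irr_one_eq] at h1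
    rw [charDegree_linIrr, Nat.cast_one, mul_one] at h1
    rw [h1]
    push_cast
    rfl
  have hHodd : Odd H.index := Odd.of_dvd_nat (sylow_odd_index P) (Subgroup.index_dvd_of_le le_sup_right)
  obtain ⟨χ, hχc, hχd⟩ : ∃ χ : IrrCharacter K, c χ ≠ 0 ∧ Odd (charDegree (χ : K → ℂ)) := by
    rw [Nat.cast_inj] at hdeg
    by_contra hcon
    push Not at hcon
    refine Nat.not_even_iff_odd.mpr hHodd (hdeg ▸ Finset.even_sum _ fun χ _ => ?_)
    rcases Nat.eq_zero_or_pos (c χ) with h | h
    · simp [h]
    · exact (Nat.not_odd_iff_even.mp (hcon χ h.ne')).mul_left _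
  have h1 : classInner (fun t : H => (χ : K → ℂ) t) ((linIrr ν : IrrCharacter H) : H → ℂ) ≠ 0 := by
    rw [← CharInd.classInner_swap, ← CharInd.classInner_indFun_left H _ (CharCore.irr_isClassFunction χ), hc,
      CharCore.classInner_sum_all, map_natCast]
    exact Nat.cast_ne_zero.mpr hχc
  have h2 : classInner (fun m : M => ((linIrr ν : IrrCharacter H) : H → ℂ) (Subgroup.inclusion hMH m))
      ((linIrr l : IrrCharacter M) : M → ℂ) ≠ 0 := by
    rw [show (fun m : M => ((linIrr ν : IrrCharacter H) : H → ℂ) (Subgroup.inclusion hMH m)) =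
        ((linIrr l : IrrCharacter M) : M → ℂ) from funext fun m => congrArg Units.val (hν (e.symm m)),
      CharCore.classInner_irr_self]
    exact one_ne_zero
  have h3 : mult M (χ : K → ℂ) (linIrr l) ≠ 0 :=
    CharCore.classInner_comp_ne_zero H.subtype (Subgroup.inclusion hMH) (CharCore.irr_isCharacter χ)
      (linIrr ν) (linIrr l) h1 h2
  have hker := le_kerChar_of_realOdd hodd hab χ ⟨hA χ hχd, hχd⟩
  have e1 : (fun m : M => (χ : K → ℂ) m) = ((χ : K → ℂ) 1) • ((linIrr (1 : M →* ℂˣ) : IrrCharacter M) : M → ℂ) :=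
    funext fun m => by
      show (χ : K → ℂ) m = (χ : K → ℂ) 1 * ((1 : ℂˣ) : ℂ)
      rw [BC87.mem_kerChar.mp (hker m.2), Units.val_one, mul_one]
  refine h3 ?_
  rw [mult, e1, CharCore.classInner_smul_left, CharCore.classInner_irr_of_ne ?_, mul_zero]
  intro h
  exact hlz (Units.ext (congrFun (congrArg Subtype.val h) z)).symm

theorem fixed_eq_one_of_normalizer (hN : Subgroup.normalizer ((P : Subgroup K) : Set K) = (P : Subgroup K)) (z : M)
    (hz : ∀ x ∈ (P : Subgroup K), MulAut.conjNormal x z = z) : z = 1 := by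
  have h1 : (z : K) ∈ Subgroup.normalizer ((P : Subgroup K) : Set K) := by
    refine Subgroup.mem_normalizer_iff.mpr fun x => ?_
    have key : ∀ x ∈ (P : Subgroup K), (z : K) * x * (z : K)⁻¹ = x := fun x hx => by
      have := congrArg Subtype.val (hz x hx)
      rw [MulAut.conjNormal_apply] at this
      calc (z : K) * x * (z : K)⁻¹ = x * (z : K) * x⁻¹ * x * (z : K)⁻¹ := by rw [this]
        _ = x := by group
    refine ⟨fun hx => by rw [key x hx]; exact hx, fun hx => ?_⟩
    have h := key _ hx
    have : (z : K) * x * (z : K)⁻¹ = x := by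
      have h' := congrArg (fun y => (z : K)⁻¹ * y * (z : K)) h
      simpa [mul_assoc] using h'
    rwa [this] at hx
  rw [hN] at h1
  exact Subtype.ext (Subgroup.mem_bot.mp (inf_eq_bot_of_odd P hodd ▸ ⟨z.2, h1⟩))

/-- With trivial fixed points every odd degree character is trivial on `M`. -/
theorem le_kerChar_of_fixed (hfix : ∀ z : M, (∀ x ∈ (P : Subgroup K), MulAut.conjNormal x z = z) → z = 1)
    (χ : IrrCharacter K) (hχ : Odd (charDegree (χ : K → ℂ))) : M ≤ BC87.kerChar χ := by
  classical
  obtain ⟨θ, hθ, -, hinv⟩ := exists_fixed_constituent (M := M) χ hχ (P : Subgroup K) P.2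
  obtain ⟨l, hl⟩ := exists_hom_of_comm hab θ
  refine le_kerChar_of_trivial χ θ (fun m => ?_) hθ
  rw [hl]
  show (l m : ℂ) = 1
  rw [← Units.val_one, Units.val_inj]
  letI : CommGroup M := { (inferInstance : Group M) with mul_comm := hab }
  have := Fintype.ofFinite (P : Subgroup K)
  have hl' : ∀ x ∈ (P : Subgroup K), ∀ a, l (MulAut.conjNormal x a) = l a := fun x hx a => Units.ext (by
    have := hinv x hx a
    rwa [hl] at this)
  set y : M := ∏ x : (P : Subgroup K), MulAut.conjNormal (x : K) m with hy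
  have hy1 : y = 1 := by
    refine hfix y fun x hx => ?_
    rw [hy, map_prod]
    exact Fintype.prod_equiv (Equiv.mulLeft (⟨x, hx⟩ : (P : Subgroup K))) _ _ fun a => by
      rw [Equiv.coe_mulLeft, Subgroup.coe_mul, map_mul, MulAut.mul_apply]
  have h1 := congrArg l hy1
  rw [map_one, hy, map_prod, Finset.prod_congr rfl fun (x : (P : Subgroup K)) _ => hl' (x : K) x.2 m, Finset.prod_const, Finset.card_univ,
    ← Nat.card_eq_fintype_card] at h1
  obtain ⟨a, ha⟩ := IsPGroup.iff_card.mp P.2
  rw [ha] at h1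
  have h2 : l m ^ Nat.card M = 1 := by rw [← map_pow, pow_card_eq_one', map_one]
  have h3 := pow_gcd_eq_one.mpr ⟨h1, h2⟩
  rwa [Nat.Coprime.pow_left a (Nat.coprime_two_left.mpr hodd), pow_one] at h3

end Odd

section Two

variable [Fintype K] {M : Subgroup K} [M.Normal] [Fintype M]

/-- Reality over a linear character and over its stabilizer. -/
theorem clifford_real (P : Sylow 2 K) (hab : ∀ a b : M, a * b = b * a) (lam : M →* ℂˣ) (hsq : ∀ m, lam m ^ 2 = 1)
    (hP : (P : Subgroup K) ≤ stab lam) [Fintype (stab lam)] [Fintype (M.subgroupOf (stab lam))]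
    (lamT : M.subgroupOf (stab lam) →* ℂˣ)
    (hlamT : ∀ m, lamT m = lam (Subgroup.subgroupOfEquivOfLe (le_stab_of_comm hab lam) m)) :
    (AllReal K → ∀ ψ : IrrCharacter (stab lam), Odd (charDegree (ψ : stab lam → ℂ)) →
      mult (M.subgroupOf (stab lam)) (ψ : stab lam → ℂ) (linIrr lamT) ≠ 0 → IsReal (ψ : stab lam → ℂ)) ∧
    ∀ χ : IrrCharacter K, Odd (charDegree (χ : K → ℂ)) → mult M (χ : K → ℂ) (linIrr lam) ≠ 0 →
      (∀ ψ : IrrCharacter (stab lam), Odd (charDegree (ψ : stab lam → ℂ)) →
        mult (M.subgroupOf (stab lam)) (ψ : stab lam → ℂ) (linIrr lamT) ≠ 0 → IsReal (ψ : stab lam → ℂ)) →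
      IsReal (χ : K → ℂ) := by
  classical
  have hMT : M ≤ (stab lam) := le_stab_of_comm hab lam
  set e := Subgroup.subgroupOfEquivOfLe hMT with he
  have hTdef : ∀ g : K, g ∈ (stab lam) ↔ ∀ m : M, ((linIrr lam : IrrCharacter M) : M → ℂ)
      ⟨g * m * g⁻¹, (inferInstance : M.Normal).conj_mem (m : K) m.2 g⟩ = ((linIrr lam : IrrCharacter M) : M → ℂ) m := by
    intro g
    refine forall_congr' fun m => ?_
    show _ ↔ (lam _ : ℂ) = (lam m : ℂ)
    rw [Units.val_inj]
    exact iff_of_eq (congrArg (fun z => lam z = lam m) (Subtype.ext (MulAut.conjNormal_apply g m)))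
  have htrans : ∀ ψ : IrrCharacter (stab lam), mult (M.subgroupOf (stab lam)) (ψ : (stab lam) → ℂ) (linIrr lamT) =
      classInner (fun n : M => (ψ : (stab lam) → ℂ) ⟨(n : K), hMT n.2⟩) ((linIrr lam : IrrCharacter M) : M → ℂ) := by
    intro ψ
    rw [mult, classInner, classInner, Nat.card_congr e.toEquiv]
    congr 1
    refine Fintype.sum_equiv e.toEquiv _ _ fun x => ?_
    show (ψ : (stab lam) → ℂ) (x : (stab lam)) * conj (lamT x : ℂ) = _
    rw [hlamT]
    rfl
  have hidx : Odd (stab lam).index := Odd.of_dvd_nat (sylow_odd_index P) (Subgroup.index_dvd_of_le hP)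
  have hindeg : ∀ ψ : IrrCharacter (stab lam), ∀ χ : IrrCharacter K, indFun (stab lam) (ψ : (stab lam) → ℂ) = (χ : K → ℂ) →
      charDegree (χ : K → ℂ) = (stab lam).index * charDegree (ψ : (stab lam) → ℂ) := by
    intro ψ χ h
    apply Nat.cast_injective (R := ℂ)
    rw [← irr_one_eq, ← h, CharInd.indFun_apply_one, irr_one_eq, Nat.cast_mul]
  have hindconj : ∀ ψ : IrrCharacter (stab lam), ∀ g, indFun (stab lam) ((conjC ψ : IrrCharacter (stab lam)) : (stab lam) → ℂ) g = conj (indFun (stab lam) (ψ : (stab lam) → ℂ) g) := by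
    intro ψ g
    rw [CharInd.indFun_apply, CharInd.indFun_apply, map_mul, map_inv₀, map_natCast, map_sum]
    congr 1
    refine Finset.sum_congr rfl fun x _ => ?_
    by_cases hx : x⁻¹ * g * x ∈ (stab lam)
    · rw [CharInd.extendByZero_mem _ hx, CharInd.extendByZero_mem _ hx]; rfl
    · rw [CharInd.extendByZero_notMem _ hx, CharInd.extendByZero_notMem _ hx, map_zero]
  have hrl : ∀ m, conj (lamT m : ℂ) = (lamT m : ℂ) := fun m =>
    ((isReal_hom_iff lamT).mpr fun a => by rw [hlamT]; exact hsq _).conj_eq m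
  have hconjover : ∀ ψ : IrrCharacter (stab lam), mult (M.subgroupOf (stab lam)) (ψ : (stab lam) → ℂ) (linIrr lamT) ≠ 0 →
      mult (M.subgroupOf (stab lam)) ((conjC ψ : IrrCharacter (stab lam)) : (stab lam) → ℂ) (linIrr lamT) ≠ 0 := by
    intro ψ h h0
    apply h
    have h1 := congrArg conj h0
    rw [map_zero, mult, classInner, map_mul, map_inv₀, map_natCast, map_sum] at h1
    rw [mult, classInner, ← h1]
    congr 1
    refine Finset.sum_congr rfl fun m _ => ?_
    rw [map_mul, conjC_apply, Complex.conj_conj, Complex.conj_conj]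
    exact congrArg ((ψ : (stab lam) → ℂ) (m : (stab lam)) * ·) (hrl m)
  refine ⟨fun hA ψ hψ hov => ?_, fun χ hχ hover hT' => ?_⟩
  · let χ : IrrCharacter K :=
      ⟨_, BC87.isIrrCharacter_indFun_inertia (linIrr lam).2 hTdef hMT ψ ((htrans ψ) ▸ hov)⟩
    have hr := hA χ (by rw [hindeg ψ χ rfl]; exact Nat.odd_mul.mpr ⟨hidx, hψ⟩)
    refine (conjC_eq_iff ψ).mp (BC87.indFun_inertia_injective (linIrr lam).2 hTdef hMT _ _
      ((htrans _) ▸ hconjover _ hov) ((htrans _) ▸ hov) (funext fun g => ?_))
    rw [hindconj]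
    exact hr.conj_eq g
  · obtain ⟨ψ, hψ, hind, hmul⟩ := CharDeep.Ext.exists_inertia_induced M (linIrr lam).2 (stab lam) hTdef hMT χ.2 hover
    let ψ' : IrrCharacter (stab lam) := ⟨ψ, hψ⟩
    have hov : mult (M.subgroupOf (stab lam)) (ψ' : (stab lam) → ℂ) (linIrr lamT) ≠ 0 := by
      rw [htrans]; show classInner (fun n : M => ψ ⟨(n : K), hMT n.2⟩) _ ≠ 0
      rw [hmul]; exact hover
    have hr := hT' ψ' (Odd.of_dvd_nat hχ ⟨(stab lam).index, by rw [hindeg ψ' χ hind, mul_comm]⟩) hov
    refine isReal_of_conj fun g => ?_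
    rw [← hind]
    refine (hindconj ψ' g).symm.trans ?_
    rw [(conjC_eq_iff ψ').mpr hr]

/-- A twist by a real linear character exchanges the characters over it and those trivial on `M`. -/
theorem twist_iff (f : K →* ℂˣ) (lam : M →* ℂˣ) (hlam : ∀ (g : K) (m : M), lam (MulAut.conjNormal g m) = lam m)
    (hsq : ∀ m, lam m ^ 2 = 1) (hf : ∀ m : M, f (m : K) = lam m) (χ : IrrCharacter K) :
    ∃ ξ : IrrCharacter K, (∀ g, (ξ : K → ℂ) g = (f g : ℂ) * (χ : K → ℂ) g) ∧
      charDegree (ξ : K → ℂ) = charDegree (χ : K → ℂ) ∧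
      (mult M (χ : K → ℂ) (linIrr lam) ≠ 0 → M ≤ BC87.kerChar ξ) ∧
      (M ≤ BC87.kerChar χ → mult M (ξ : K → ℂ) (linIrr lam) ≠ 0) := by
  refine ⟨⟨_, CharCore.isIrrCharacter_hom_mul f χ.2⟩, fun g => rfl, ?_, fun hχ m hm => ?_, fun hχ => ?_⟩
  · show ⌊((f (1 : K) : ℂ) * (χ : K → ℂ) 1).re⌋₊ = _
    rw [map_one, Units.val_one, one_mul]
    rfl
  · rw [BC87.mem_kerChar]
    show (f m : ℂ) * (χ : K → ℂ) m = (f 1 : ℂ) * (χ : K → ℂ) 1
    rw [map_one, Units.val_one, one_mul, restrict_eq χ lam hlam hχ ⟨m, hm⟩, hf ⟨m, hm⟩, ← mul_assoc,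
      ← Units.val_mul, ← sq, hsq, Units.val_one, one_mul, irr_one_eq]
  · have e : (fun m : M => (f (m : K) : ℂ) * (χ : K → ℂ) m) =
        ((χ : K → ℂ) 1) • ((linIrr lam : IrrCharacter M) : M → ℂ) := funext fun m => by
      show (f (m : K) : ℂ) * (χ : K → ℂ) m = (χ : K → ℂ) 1 * (lam m : ℂ)
      rw [BC87.mem_kerChar.mp (hχ m.2), hf, mul_comm]
    show classInner (fun m : M => (f (m : K) : ℂ) * (χ : K → ℂ) m) ((linIrr lam : IrrCharacter M) : M → ℂ) ≠ 0
    rw [e, CharCore.classInner_smul_left, CharCore.classInner_irr_self, mul_one]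
    exact CharCore.irr_apply_one_ne_zero χ

end Two

theorem card_quotient_lt {G : Type*} [Group G] [Finite G] {M : Subgroup G} (hM : M ≠ ⊥) (T : Subgroup G)
    (hMT : M ≤ T) : Nat.card (T ⧸ M.subgroupOf T) < Nat.card G := by
  have h1 : 1 < Nat.card (M.subgroupOf T) := by
    rw [Nat.card_congr (Subgroup.subgroupOfEquivOfLe hMT).toEquiv]
    exact (Subgroup.one_lt_card_iff_ne_bot _).mpr hM
  refine lt_of_lt_of_le ?_ (Subgroup.card_le_card_group T)
  rw [(M.subgroupOf T).card_eq_card_quotient_mul_card_subgroup]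
  exact lt_mul_of_one_lt_right Nat.card_pos h1

theorem base_case [Finite K] [Subsingleton K] (P : Sylow 2 K) :
    Nat.card (realOdd K) = Nat.card (Orb (P : Subgroup K)) ∧ (AllReal K ↔ SylProp (P : Subgroup K)) := by
  have := Fintype.ofFinite K
  have hall : ∀ χ : IrrCharacter K, χ = linIrr 1 := fun χ => by
    obtain ⟨l, hl⟩ := exists_hom_of_comm (fun a b => Subsingleton.elim _ _) χ
    refine Subtype.ext (hl.trans (funext fun g => ?_))
    show (l g : ℂ) = ((1 : ℂˣ) : ℂ)
    rw [Subsingleton.elim g 1, map_one]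
  have hr : IsReal ((linIrr (1 : K →* ℂˣ) : IrrCharacter K) : K → ℂ) := fun g => by
    show ((1 : ℂˣ) : ℂ).im = 0
    simp
  refine ⟨?_, ⟨fun _ => ⟨fun μ x => by rw [Subsingleton.elim x 1, map_one, one_pow],
    SetLike.ext fun x => by rw [Subsingleton.elim x 1]; simp [one_mem]⟩, fun _ χ _ => hall χ ▸ hr⟩⟩
  have h1 : Nat.card (realOdd K) = 1 := Nat.card_eq_one_iff_unique.mpr
    ⟨⟨fun a b => Subtype.ext ((hall a.1).trans (hall b.1).symm)⟩,
      ⟨⟨linIrr 1, hr, by rw [charDegree_linIrr]; decide⟩⟩⟩
  rw [h1]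
  refine (Nat.card_eq_one_iff_unique.mpr ⟨⟨fun a b => ?_⟩, ⟨Quotient.mk (orbSetoid _) ⟨1, fun _ => one_pow 2⟩⟩⟩).symm
  induction a, b using Quotient.inductionOn₂ with
  | h μ μ' =>
    exact congrArg (Quotient.mk (orbSetoid _)) (Subtype.ext (MonoidHom.ext fun x => by
      rw [Subsingleton.elim x 1, map_one, map_one]))

/-- The count. -/
theorem count_aux : ∀ (n : ℕ) (K : Type u) [Group K] [Finite K] [Group.IsSolvable K] (P : Sylow 2 K),
    Nat.card K ≤ n → Nat.card (realOdd K) = Nat.card (Orb (P : Subgroup K)) := by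
  intro n
  induction n with
  | zero => intro K _ _ _ P h; exact absurd h (Nat.not_le.mpr Nat.card_pos)
  | succ n ih =>
    intro K _ _ _ P hcard
    classical
    have := Fintype.ofFinite K
    have := Fact.mk Nat.prime_two
    rcases subsingleton_or_nontrivial K with hs | hs
    · exact (base_case P).1
    obtain ⟨M, q, hMn, hne, -, hq, hqM, hcomm, hexp, -⟩ := Solvable.exists_minimal_normal_elementary K
    have := Fintype.ofFinite M
    have hab : ∀ a b : M, a * b = b * a := fun a b => hcomm.is_comm.comm a b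
    by_cases hq2 : q = 2
    · subst hq2
      refine count_two P M hqM hab hexp fun T hMT Q => ?_
      exact ih _ Q (Nat.lt_succ_iff.mp ((card_quotient_lt hne T hMT).trans_le hcard))
    · have hodd : Odd (Nat.card M) := by
        have := Fact.mk hq
        obtain ⟨a, ha⟩ := IsPGroup.iff_card.mp hqM
        rw [ha]; exact (hq.odd_of_ne_two hq2).pow
      have hlt : Nat.card (K ⧸ M) ≤ n := by
        refine Nat.lt_succ_iff.mp (lt_of_lt_of_le ?_ hcard)
        rw [M.card_eq_card_quotient_mul_card_subgroup]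
        exact lt_mul_of_one_lt_right Nat.card_pos ((Subgroup.one_lt_card_iff_ne_bot _).mpr hne)
      obtain ⟨ε, hε, hN⟩ := exists_equiv_map (M := M) P hodd
      refine (Eq.trans ?_ (ih (K ⧸ M) (P.mapSurjective (QuotientGroup.mk'_surjective M)) hlt)).trans
        (card_orb_congr ε (QuotientGroup.mk' M) hε hN).symm
      rw [← card_realOdd_quotient (M := M)]
      exact Nat.card_congr (Equiv.subtypeEquivRight fun χ => ⟨fun h => ⟨h, le_kerChar_of_realOdd hodd hab χ h⟩, fun h => h.1⟩)

/-- The characterization. -/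
theorem allReal_aux : ∀ (n : ℕ) (K : Type u) [Group K] [Finite K] [Group.IsSolvable K] (P : Sylow 2 K),
    Nat.card K ≤ n → (AllReal K ↔ SylProp (P : Subgroup K)) := by
  intro n
  induction n with
  | zero => intro K _ _ _ P h; exact absurd h (Nat.not_le.mpr Nat.card_pos)
  | succ n ih =>
    intro K _ _ _ P hcard
    classical
    have := Fintype.ofFinite K
    have := Fact.mk Nat.prime_two
    rcases subsingleton_or_nontrivial K with hs | hs
    · exact (base_case P).2
    obtain ⟨M, q, hMn, hne, -, hq, hqM, hcomm, hexp, -⟩ := Solvable.exists_minimal_normal_elementary K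
    have := Fintype.ofFinite M
    have hab : ∀ a b : M, a * b = b * a := fun a b => hcomm.is_comm.comm a b
    have hlt : Nat.card (K ⧸ M) ≤ n := by
      refine Nat.lt_succ_iff.mp (lt_of_lt_of_le ?_ hcard)
      rw [M.card_eq_card_quotient_mul_card_subgroup]
      exact lt_mul_of_one_lt_right Nat.card_pos ((Subgroup.one_lt_card_iff_ne_bot _).mpr hne)
    let P' : Sylow 2 (K ⧸ M) := P.mapSurjective (QuotientGroup.mk'_surjective M)
    have hIH : AllReal (K ⧸ M) ↔ SylProp ((P : Subgroup K).map (QuotientGroup.mk' M)) := ih (K ⧸ M) P' hlt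
    by_cases hq2 : q = 2
    · subst hq2
      have hMP := normal_le_sylow P M hqM
      have hcomap : ((P : Subgroup K).map (QuotientGroup.mk' M)).comap (QuotientGroup.mk' M) = (P : Subgroup K) := by
        rw [Subgroup.comap_map_eq, QuotientGroup.ker_mk', sup_eq_left.mpr hMP]
      have hres : ∀ (μ : (P : Subgroup K) →* ℂˣ) (x : K) (hx : x ∈ (P : Subgroup K)) (m : M),
          μ ⟨_, hMP (MulAut.conjNormal x m).2⟩ = μ ⟨m, hMP m.2⟩ := fun μ x hx m => by
        rw [show (⟨((MulAut.conjNormal x m : M) : K), hMP (MulAut.conjNormal x m).2⟩ : (P : Subgroup K)) =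
            ⟨x, hx⟩ * ⟨m, hMP m.2⟩ * (⟨x, hx⟩ : (P : Subgroup K))⁻¹ from Subtype.ext (MulAut.conjNormal_apply x m),
          map_mul, map_mul, map_inv, mul_inv_eq_iff_eq_mul, mul_comm]
      have hsqM : ∀ (l : M →* ℂˣ) (m : M), l m ^ 2 = 1 := fun l m => by
        rw [← map_pow, show m ^ 2 = 1 from Subtype.ext (hexp m m.2), map_one]
      constructor
      · intro hA
        have hP' := hIH.mp hA.quotient
        have hN : Subgroup.normalizer ((P : Subgroup K) : Set K) = (P : Subgroup K) := by
          refine le_antisymm (fun g hg => ?_) Subgroup.le_normalizer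
          have h1 := Subgroup.le_normalizer_map (QuotientGroup.mk' M) (Subgroup.mem_map_of_mem _ hg)
          rw [hP'.2] at h1
          exact hcomap ▸ h1
        refine ⟨fun μ x => ?_, hN⟩
        let lam : M →* ℂˣ := μ.comp (Subgroup.inclusion hMP)
        have hPT : (P : Subgroup K) ≤ stab lam := fun y hy m => hres μ y hy m
        set T := stab lam with hT
        have hMT : M ≤ T := le_stab_of_comm hab lam
        have := Fintype.ofFinite T
        have := Fintype.ofFinite (M.subgroupOf T)
        let lamT : M.subgroupOf T →* ℂˣ := lam.comp (Subgroup.subgroupOfEquivOfLe hMT).toMonoidHom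
        have hlamT : ∀ (g : T) (m : M.subgroupOf T), lamT (MulAut.conjNormal g m) = lamT m := fun g m => by
          show lam (Subgroup.subgroupOfEquivOfLe hMT _) = lam (Subgroup.subgroupOfEquivOfLe hMT m)
          rw [← g.2 (Subgroup.subgroupOfEquivOfLe hMT m)]
          exact congrArg lam (Subtype.ext (by simp))
        let PT : Sylow 2 T := P.subtype hPT
        have hMPT : M.subgroupOf T ≤ (PT : Subgroup T) := fun m hm => hMP hm
        let μT : (PT : Subgroup T) →* ℂˣ :=
          μ.comp { toFun := fun y => ⟨((y : T) : K), y.2⟩, map_one' := rfl, map_mul' := fun _ _ => rfl }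
        set f : T →* ℂˣ := MonoidHom.transfer μT with hf
        have hfM : ∀ m : M.subgroupOf T, f (m : T) = lamT m := fun m => by
          rw [hf, transfer_apply (M := M.subgroupOf T) (PT : Subgroup T) (sylow_odd_index PT) hMPT μT
            (fun g a => hlamT g a) (fun a => hsqM lam (Subgroup.subgroupOfEquivOfLe hMT a)) m]
          rfl
        have hover := (clifford_real P hab lam (hsqM lam) hPT lamT fun m => rfl).1 hA
        have hfr : IsReal (fun g => (f g : ℂ)) := by
          refine hover (linIrr f) (by rw [charDegree_linIrr]; decide) ?_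
          rw [mult, show (fun m : M.subgroupOf T => ((linIrr f : IrrCharacter T) : T → ℂ) m) =
            ((linIrr lamT : IrrCharacter (M.subgroupOf T)) : _ → ℂ) from funext fun m => congrArg Units.val (hfM m),
            CharCore.classInner_irr_self]
          exact one_ne_zero
        have hf2 := (isReal_hom_iff f).mp hfr
        have hA' : AllReal (T ⧸ M.subgroupOf T) := by
          intro θ hθ q'
          obtain ⟨g, rfl⟩ := QuotientGroup.mk_surjective q'
          set χ := (BC87.inflEquiv (M.subgroupOf T) θ).1 with hχ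
          obtain ⟨ξ, hξ, hξd, -, hξo⟩ := twist_iff f lamT hlamT (fun m => hsqM lam _) hfM χ
          have hdeg : charDegree (χ : T → ℂ) = charDegree (θ : T ⧸ M.subgroupOf T → ℂ) := by
            unfold charDegree
            rw [hχ, BC87.inflEquiv_apply, QuotientGroup.mk_one]
          have hr := hover ξ (by rw [hξd, hdeg]; exact hθ) (hξo (BC87.inflEquiv (M.subgroupOf T) θ).2)
          have h2 : (χ : T → ℂ) g = (f g : ℂ) * (ξ : T → ℂ) g := by
            rw [hξ, ← mul_assoc, ← Units.val_mul, ← sq, hf2, Units.val_one, one_mul]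
          rw [← BC87.inflEquiv_apply, ← hχ, h2]
          exact isReal_mul hfr hr g
        let PT' : Sylow 2 (T ⧸ M.subgroupOf T) := PT.mapSurjective (QuotientGroup.mk'_surjective _)
        have hB : SylProp (PT' : Subgroup (T ⧸ M.subgroupOf T)) :=
          (ih _ PT' (Nat.lt_succ_iff.mp ((card_quotient_lt hne T hMT).trans_le hcard))).mp hA'
        let πP : (PT : Subgroup T) →* (PT' : Subgroup (T ⧸ M.subgroupOf T)) :=
          (QuotientGroup.mk' (M.subgroupOf T)).subgroupMap (PT : Subgroup T)
        have hπP : Function.Surjective πP := (QuotientGroup.mk' (M.subgroupOf T)).subgroupMap_surjective _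
        let g : (PT : Subgroup T) →* ℂˣ := μT * f.comp (PT : Subgroup T).subtype
        have hg : πP.ker ≤ g.ker := by
          intro y hy
          have hyM : (y : T) ∈ M.subgroupOf T :=
            (QuotientGroup.eq_one_iff _).mp (congrArg Subtype.val (MonoidHom.mem_ker.mp hy))
          rw [MonoidHom.mem_ker]
          show lamT ⟨(y : T), hyM⟩ * f ((⟨(y : T), hyM⟩ : M.subgroupOf T) : T) = 1
          rw [hfM, ← sq]
          exact hsqM lam _
        have h3 := hB.1 (MonoidHom.liftOfSurjective πP hπP ⟨g, hg⟩) (πP ⟨⟨(x : K), hPT x.2⟩, x.2⟩)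
        rw [MonoidHom.liftOfRightInverse_comp_apply] at h3
        change (μ x * f _) ^ 2 = 1 at h3
        rwa [mul_pow, hf2, mul_one] at h3
      · rintro ⟨hμ, hN⟩ χ hχ
        obtain ⟨θ, hθ, -, hfix⟩ := exists_fixed_constituent (M := M) χ hχ (P : Subgroup K) P.2
        obtain ⟨lam, hl⟩ := exists_hom_of_comm hab θ
        have hmult : mult M (χ : K → ℂ) (linIrr lam) ≠ 0 := by
          rwa [show linIrr lam = θ from Subtype.ext hl.symm]
        have hPT : (P : Subgroup K) ≤ stab lam := fun y hy m => Units.ext (by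
          have := hfix y hy m
          rwa [hl] at this)
        set T := stab lam with hT
        have hMT : M ≤ T := le_stab_of_comm hab lam
        have := Fintype.ofFinite T
        have := Fintype.ofFinite (M.subgroupOf T)
        let lamT : M.subgroupOf T →* ℂˣ := lam.comp (Subgroup.subgroupOfEquivOfLe hMT).toMonoidHom
        have hlamT : ∀ (g : T) (m : M.subgroupOf T), lamT (MulAut.conjNormal g m) = lamT m := fun g m => by
          show lam (Subgroup.subgroupOfEquivOfLe hMT _) = lam (Subgroup.subgroupOfEquivOfLe hMT m)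
          rw [← g.2 (Subgroup.subgroupOfEquivOfLe hMT m)]
          exact congrArg lam (Subtype.ext (by simp))
        let PT : Sylow 2 T := P.subtype hPT
        have hMPT : M.subgroupOf T ≤ (PT : Subgroup T) := fun m hm => hMP hm
        let PT' : Sylow 2 (T ⧸ M.subgroupOf T) := PT.mapSurjective (QuotientGroup.mk'_surjective _)
        have hμT : ∀ (ν : (PT : Subgroup T) →* ℂˣ) y, ν y ^ 2 = 1 := by
          intro ν y
          exact hμ (ν.comp { toFun := fun z => ⟨⟨(z : K), hPT z.2⟩, z.2⟩, map_one' := rfl, map_mul' := fun _ _ => rfl })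
            ⟨((y : T) : K), y.2⟩
        have hA' : AllReal (T ⧸ M.subgroupOf T) := by
          refine (ih _ PT' (Nat.lt_succ_iff.mp ((card_quotient_lt hne T hMT).trans_le hcard))).mpr ⟨fun ν y => ?_, ?_⟩
          · obtain ⟨z, rfl⟩ := (QuotientGroup.mk' (M.subgroupOf T)).subgroupMap_surjective (PT : Subgroup T) y
            exact hμT (ν.comp ((QuotientGroup.mk' (M.subgroupOf T)).subgroupMap (PT : Subgroup T))) z
          · refine le_antisymm (fun q' hq' => ?_) Subgroup.le_normalizer
            obtain ⟨t, rfl⟩ := QuotientGroup.mk'_surjective (M.subgroupOf T) q'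
            refine Subgroup.mem_map_of_mem _ (show (t : K) ∈ (P : Subgroup K) from hN ▸ ?_)
            refine Subgroup.mem_normalizer_iff_map_conj_eq.mpr (Subgroup.eq_of_le_of_card_ge ?_ ?_)
            · rintro _ ⟨x, hx, rfl⟩
              have hy : (⟨x, hPT hx⟩ : T) ∈ (PT : Subgroup T) := hx
              have h1 := (Subgroup.mem_normalizer_iff.mp hq' _).mp (Subgroup.mem_map_of_mem (QuotientGroup.mk' (M.subgroupOf T)) hy)
              rw [← map_inv, ← map_mul, ← map_mul] at h1
              have h2 : t * ⟨x, hPT hx⟩ * t⁻¹ ∈ ((PT : Subgroup T).map (QuotientGroup.mk' (M.subgroupOf T))).comap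
                  (QuotientGroup.mk' (M.subgroupOf T)) := h1
              rw [Subgroup.comap_map_eq, QuotientGroup.ker_mk', sup_eq_left.mpr hMPT] at h2
              exact h2
            · exact (Nat.card_congr ((P : Subgroup K).equivMapOfInjective _ (MulAut.conj (t : K)).injective).toEquiv).le
        refine (clifford_real P hab lam (hsqM lam) hPT lamT fun m => rfl).2 χ hχ hmult fun ψ hψ hov => ?_
        set f : T →* ℂˣ := CharDeep.Ext.detHom (ψ : T → ℂ) with hf
        have hfM : ∀ m : M.subgroupOf T, f (m : T) = lamT m := fun m => by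
          obtain ⟨r, hr⟩ := hψ
          rw [hf, det_restrict ψ lamT hlamT hov, hr, pow_succ, pow_mul,
            show lamT m ^ 2 = 1 from hsqM lam _, one_pow, one_mul]
        have hf2 : ∀ t, f t ^ 2 = 1 := by
          intro t
          set g : T →* ℂˣ := f ^ 2 with hg
          have hgM : ∀ m : M.subgroupOf T, g (m : T) = 1 := fun m => by
            rw [hg, MonoidHom.pow_apply, hfM]; exact hsqM lam _
          have hgr : IsReal (fun s => (g s : ℂ)) := isReal_of_le_kerChar hA' (linIrr g)
            (by rw [charDegree_linIrr]; decide) (fun m hm => by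
              rw [BC87.mem_kerChar]
              show (g m : ℂ) = (g 1 : ℂ)
              rw [hgM ⟨m, hm⟩, map_one])
          have hg2 := (isReal_hom_iff g).mp hgr
          have hPg : (PT : Subgroup T) ≤ g.ker := fun y hy => by
            rw [MonoidHom.mem_ker, hg, MonoidHom.pow_apply]
            exact hμT (f.comp (PT : Subgroup T).subtype) ⟨y, hy⟩
          have hodd : Odd g.ker.index := Odd.of_dvd_nat (sylow_odd_index PT) (Subgroup.index_dvd_of_le hPg)
          have h4 : g t ^ g.ker.index = 1 := by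
            rw [← map_pow]
            exact MonoidHom.mem_ker.mp (Subgroup.pow_index_mem g.ker t)
          have h5 := sq_eq_one_of_odd hodd (hg2 t) h4
          rwa [hg, MonoidHom.pow_apply] at h5
        have hfr : IsReal (fun s => (f s : ℂ)) := (isReal_hom_iff f).mpr hf2
        obtain ⟨ξ, hξ, hξd, hξk, -⟩ := twist_iff f lamT hlamT (fun m => hsqM lam _) hfM ψ
        have hr := isReal_of_le_kerChar hA' ξ (by rw [hξd]; exact hψ) (hξk hov)
        intro t
        rw [show (ψ : T → ℂ) t = (f t : ℂ) * (ξ : T → ℂ) t by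
          rw [hξ, ← mul_assoc, ← Units.val_mul, ← sq, hf2, Units.val_one, one_mul]]
        exact isReal_mul hfr hr t
    · have hodd : Odd (Nat.card M) := by
        have := Fact.mk hq
        obtain ⟨a, ha⟩ := IsPGroup.iff_card.mp hqM
        rw [ha]; exact (hq.odd_of_ne_two hq2).pow
      obtain ⟨ε, hε, hNmap⟩ := exists_equiv_map (M := M) P hodd
      constructor
      · intro hA
        have hP' := hIH.mp hA.quotient
        refine ⟨fun μ x => ?_, le_antisymm (fun g hg => ?_) Subgroup.le_normalizer⟩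
        · have := hP'.1 (μ.comp ε.symm.toMonoidHom) (ε x)
          change μ (ε.symm (ε x)) ^ 2 = 1 at this
          rwa [ε.symm_apply_apply] at this
        · have h1 : QuotientGroup.mk' M g ∈ (P : Subgroup K).map (QuotientGroup.mk' M) := by
            rw [← hP'.2, ← hNmap]; exact Subgroup.mem_map_of_mem _ hg
          obtain ⟨x, hx, hxg⟩ := h1
          have hm : x⁻¹ * g ∈ M := QuotientGroup.eq.mp hxg
          have hz : (⟨x⁻¹ * g, hm⟩ : M) = 1 := by
            refine fixed_eq_one_of_allReal P hodd hab hA _ fun y hy => Subtype.ext ?_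
            have hn : x⁻¹ * g ∈ Subgroup.normalizer ((P : Subgroup K) : Set K) :=
              mul_mem (inv_mem (Subgroup.le_normalizer hx)) hg
            rw [MulAut.conjNormal_apply]
            show y * (x⁻¹ * g) * y⁻¹ = x⁻¹ * g
            have h2 : (x⁻¹ * g) * y * (x⁻¹ * g)⁻¹ * y⁻¹ ∈ M ⊓ (P : Subgroup K) :=
              ⟨by
                have := M.mul_mem hm (hMn.conj_mem _ (inv_mem hm) y)
                simpa [mul_assoc] using this,
               (P : Subgroup K).mul_mem ((Subgroup.mem_normalizer_iff.mp hn y).mp hy) (inv_mem hy)⟩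
            rw [inf_eq_bot_of_odd P hodd, Subgroup.mem_bot] at h2
            rw [mul_inv_eq_one, mul_inv_eq_iff_eq_mul] at h2
            rw [mul_inv_eq_iff_eq_mul]
            exact h2.symm
          have : g = x := by
            have := congrArg Subtype.val hz
            exact (inv_mul_eq_one.mp this).symm
          rw [this]; exact hx
      · rintro ⟨hμ, hN⟩ χ hχ
        have hker := le_kerChar_of_fixed P hodd hab (fixed_eq_one_of_normalizer P hodd hab hN) χ hχ
        refine isReal_of_le_kerChar (hIH.mpr ⟨fun ν y => ?_, ?_⟩) χ hχ hker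
        · obtain ⟨x, rfl⟩ := ε.surjective y
          exact hμ (ν.comp ε.toMonoidHom) x
        · rw [← hNmap, hN]

/-- The Frattini subgroup of a two-group is the derived subgroup when all linear characters are real. -/
theorem commutator_eq_frattini_iff {P : Type*} [Group P] [Finite P] (hP : IsPGroup 2 P) :
    commutator P = frattini P ↔ ∀ μ : P →* ℂˣ, ∀ x, μ x ^ 2 = 1 := by
  have hΦ := PGroup.frattini_eq_closure_sq hP
  have hle : commutator P ≤ frattini P := by
    have := Fact.mk Nat.prime_two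
    exact PGroup.commutator_le_frattini hP
  constructor
  · intro h μ x
    have h1 : x ^ 2 ∈ commutator P := h ▸ hΦ ▸ Subgroup.subset_closure ⟨x, rfl⟩
    rw [← map_pow]
    exact MonoidHom.mem_ker.mp (Abelianization.commutator_subset_ker μ h1)
  · intro h
    refine le_antisymm hle ?_
    rw [hΦ, Subgroup.closure_le]
    rintro _ ⟨x, rfl⟩
    by_contra hx
    have hne : Abelianization.of (x ^ 2) ≠ 1 := fun h0 =>
      hx ((Abelianization.ker_of P).le (MonoidHom.mem_ker.mpr h0))
    have : Finite (Abelianization P) := Quotient.finite _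
    obtain ⟨φ, hφ⟩ := CommGroup.exists_apply_ne_one_of_hasEnoughRootsOfUnity (Abelianization P) ℂ hne
    refine hφ ?_
    rw [map_pow, map_pow]
    exact h (φ.comp Abelianization.of) x

end Cfsg.Agent.BC84.SolvReal
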