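import Cfsg.Agent.BC87.Basic
import Cfsg.Agent.BC87.CliffordCorr
import Cfsg.Agent.BC84.Covering
import Cfsg.Agent.BC84.Extensions
import Cfsg.Agent.BC84.Constituent
import Cfsg.Agent.BC84.ResidualExtension
import Cfsg.Agent.CharDeep.Ext.Wrap
import Cfsg.Agent.Lib.CharCore.InvariantOver
import Cfsg.Agent.Lib.CharClifford.Clifford
import Mathlib.GroupTheory.Transfer
import Mathlib.GroupTheory.Perm.Cycle.Type

/-!
# Real characters of odd degree over a normal subgroup
-/

set_option autoImplicit false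
set_option linter.unusedSectionVars false

namespace Cfsg.Agent.BC84.SolvReal

open BlocksCore
open scoped ComplexConjugate

/-- A real valued function. -/
def IsReal {G : Type*} (f : G → ℂ) : Prop := ∀ g, (f g).im = 0

theorem IsReal.conj_eq {G : Type*} {f : G → ℂ} (h : IsReal f) (g : G) : conj (f g) = f g :=
  Complex.conj_eq_iff_im.mpr (h g)

theorem isReal_of_conj {G : Type*} {f : G → ℂ} (h : ∀ g, conj (f g) = f g) : IsReal f :=
  fun g => Complex.conj_eq_iff_im.mp (h g)

/-- The real irreducible characters of odd degree. -/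
def realOdd (G : Type*) [Group G] : Set (IrrCharacter G) :=
  {χ | IsReal (χ : G → ℂ) ∧ Odd (charDegree (χ : G → ℂ))}

/-- All irreducible characters of odd degree are real. -/
def AllReal (G : Type*) [Group G] : Prop :=
  ∀ χ : IrrCharacter G, Odd (charDegree (χ : G → ℂ)) → IsReal (χ : G → ℂ)

section Hom

variable {G : Type*} [Group G]

theorem isReal_hom_iff [Finite G] (f : G →* ℂˣ) : IsReal (fun g => (f g : ℂ)) ↔ ∀ g, f g ^ 2 = 1 := by
  have hnorm : ∀ g, conj (f g : ℂ) * (f g : ℂ) = 1 := fun g => by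
    rw [Complex.conj_mul', CharCore.norm_hom_apply, Complex.ofReal_one, one_pow]
  constructor
  · intro h g
    refine Units.ext ?_
    rw [Units.val_pow_eq_pow_val, Units.val_one, sq]
    nth_rewrite 1 [← IsReal.conj_eq h g]
    exact hnorm g
  · intro h
    refine isReal_of_conj fun g => mul_right_cancel₀ (Units.ne_zero (f g)) ?_
    rw [hnorm, ← sq, ← Units.val_pow_eq_pow_val, h, Units.val_one]

/-- The linear character of a homomorphism. -/
noncomputable def linIrr (f : G →* ℂˣ) : IrrCharacter G := ⟨_, CharCore.isIrrCharacter_hom f⟩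

theorem charDegree_linIrr (f : G →* ℂˣ) : charDegree ((linIrr f : IrrCharacter G) : G → ℂ) = 1 :=
  BC87.charDegree_eq (by show (f 1 : ℂ) = ((1 : ℕ) : ℂ); simp)

variable [Finite G]

/-- An irreducible character of a commutative group is linear. -/
theorem exists_hom_of_comm (hG : ∀ a b : G, a * b = b * a) (θ : IrrCharacter G) :
    ∃ f : G →* ℂˣ, (θ : G → ℂ) = fun g => (f g : ℂ) := by
  classical
  have := Fintype.ofFinite G
  have : Fintype (⊥ : Subgroup G) := Fintype.ofFinite _
  have h1 : (θ : G → ℂ) 1 = 1 := by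
    refine CharCore.degree_one_of_inv (⊥ : Subgroup G) ?_ θ fun n g => ?_
    · rw [_root_.commutator_def, Subgroup.commutator_le]
      intro a _ b _
      rw [Subgroup.mem_bot, commutatorElement_def, hG a b]
      group
    · rw [Subgroup.mem_bot.mp n.2, one_mul]
  exact CharCore.IsCharacter.exists_hom_of_degree_one (CharCore.irr_isCharacter θ) h1

/-- The complex conjugate of an irreducible character. -/
noncomputable def conjC (θ : IrrCharacter G) : IrrCharacter G :=
  ⟨fun g => conj ((θ : G → ℂ) g), by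
    have := Fintype.ofFinite G
    refine CharCore.isIrrCharacter_iff.mpr ⟨CharCore.IsCharacter.star (CharCore.irr_isCharacter θ), ?_⟩
    have h := congrArg conj (CharCore.classInner_irr_self θ)
    simpa [classInner, map_sum] using h⟩

theorem conjC_apply (θ : IrrCharacter G) (g : G) :
    ((conjC θ : IrrCharacter G) : G → ℂ) g = conj ((θ : G → ℂ) g) := rfl

theorem conjC_eq_iff (θ : IrrCharacter G) : conjC θ = θ ↔ IsReal (θ : G → ℂ) :=
  ⟨fun h => isReal_of_conj fun g => congrFun (congrArg Subtype.val h) g,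
    fun h => Subtype.ext (funext h.conj_eq)⟩

theorem charDegree_conjC (θ : IrrCharacter G) :
    charDegree ((conjC θ : IrrCharacter G) : G → ℂ) = charDegree (θ : G → ℂ) := by
  simp [charDegree, conjC_apply]

theorem isReal_mul {f φ : G → ℂ} (hf : IsReal f) (hφ : IsReal φ) : IsReal (fun g => f g * φ g) :=
  fun g => by simp [Complex.mul_im, hf g, hφ g]

/-- The determinant of a constant multiple of a linear character. -/
theorem detHom_smul_hom (f : G →* ℂˣ) (d : ℕ) :
    CharDeep.Ext.detHom (fun g => (f g : ℂ) * (d : ℂ)) = f ^ d := by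
  let ρ : Representation ℂ G (Fin d → ℂ) := 1
  have hρ : ρ.character = fun _ => (d : ℂ) := by
    funext g
    simp [Representation.character, ρ]
  have hc : IsCharacter G (fun _ => (d : ℂ)) := hρ ▸ CharCore.isCharacter_character ρ
  rw [CharDeep.Ext.detHom_hom_mul f hc rfl, ← hρ, CharDeep.Ext.detHom_eq]
  ext g
  simp [CharDeep.Ext.detRep, ρ]

end Hom

section Normal

variable {G : Type*} [Group G] [Fintype G] (M : Subgroup G) [M.Normal] [Fintype M]

/-- The multiplicity of `θ` in `χ` restricted to `M`. -/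
noncomputable def mult (χ : G → ℂ) (θ : IrrCharacter M) : ℂ :=
  classInner (fun m : M => χ m) (θ : M → ℂ)

variable {M}

theorem exists_weights (χ : IrrCharacter G) :
    ∃ c : IrrCharacter M → ℕ, (∀ θ, mult M (χ : G → ℂ) θ = c θ) ∧
      charDegree (χ : G → ℂ) = ∑ θ : IrrCharacter M, c θ * charDegree (θ : M → ℂ) := by
  obtain ⟨c, hc⟩ := CharCore.IsCharacter.exists_sum
    (CharCore.isCharacter_restrict (CharCore.irr_isCharacter χ) M)
  refine ⟨c, fun θ => ?_, Nat.cast_injective (R := ℂ) ?_⟩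
  · rw [mult, hc, CharCore.classInner_sum_all]
  · have := congrFun hc 1
    simp only [Finset.sum_apply, Pi.smul_apply, smul_eq_mul, OneMemClass.coe_one, irr_one_eq] at this
    rw [this]
    push_cast
    rfl

/-- A real character of odd degree has a real constituent of odd degree. -/
theorem exists_real_constituent (χ : IrrCharacter G) (hχ : χ ∈ realOdd G) :
    ∃ θ : IrrCharacter M, mult M (χ : G → ℂ) θ ≠ 0 ∧ IsReal (θ : M → ℂ) ∧ Odd (charDegree (θ : M → ℂ)) := by
  classical
  obtain ⟨c, hc, hd⟩ := exists_weights (M := M) χ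
  set S := Finset.univ.filter (fun θ : IrrCharacter M => Odd (c θ * charDegree (θ : M → ℂ))) with hS
  have hodd : Odd S.card := (Finset.odd_sum_iff_odd_card_odd _).mp (hd ▸ hχ.2)
  have hcj : ∀ θ, c (conjC θ) = c θ := by
    intro θ
    have h : mult M (χ : G → ℂ) (conjC θ) = mult M (χ : G → ℂ) θ := by
      have h2 : conj (mult M (χ : G → ℂ) θ) = mult M (χ : G → ℂ) θ := by rw [hc, map_natCast]
      rw [← h2, mult, mult, classInner, classInner, map_mul, map_inv₀, map_natCast, map_sum]
      congr 1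
      refine Finset.sum_congr rfl fun m _ => ?_
      rw [map_mul, conjC_apply, hχ.1.conj_eq (m : G)]
    rw [hc, hc] at h
    exact_mod_cast h
  have hinv : ∀ θ, θ ∈ S ↔ conjC θ ∈ S := fun θ => by simp [hS, hcj, charDegree_conjC]
  have hinvol : ∀ θ : IrrCharacter M, conjC (conjC θ) = θ := fun θ =>
    Subtype.ext (funext fun m => by simp [conjC_apply])
  let σ : Equiv.Perm S :=
    { toFun := fun θ => ⟨conjC θ.1, (hinv θ.1).mp θ.2⟩
      invFun := fun θ => ⟨conjC θ.1, (hinv θ.1).mp θ.2⟩
      left_inv := fun θ => Subtype.ext (hinvol θ.1)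
      right_inv := fun θ => Subtype.ext (hinvol θ.1) }
  have := Fact.mk Nat.prime_two
  obtain ⟨⟨θ, hθ⟩, hfix⟩ := Equiv.Perm.exists_fixed_point_of_prime (p := 2) (n := 1) (σ := σ)
    (by rw [Fintype.card_coe]; exact fun h => (Nat.not_even_iff_odd.mpr hodd) (even_iff_two_dvd.mpr h))
    (Equiv.ext fun θ => by
      rw [pow_one, sq, Equiv.Perm.mul_apply, Equiv.Perm.one_apply]
      exact Subtype.ext (hinvol θ.1))
  obtain ⟨h1, h2⟩ := Nat.odd_mul.mp (Finset.mem_filter.mp hθ).2
  refine ⟨θ, ?_, (conjC_eq_iff θ).mp (congrArg Subtype.val hfix), h2⟩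
  rw [hc]
  exact Nat.cast_ne_zero.mpr (Nat.pos_iff_ne_zero.mp h1.pos)

/-- A character of odd degree has a constituent of odd degree fixed by a two-group. -/
theorem exists_fixed_constituent (χ : IrrCharacter G) (hχ : Odd (charDegree (χ : G → ℂ)))
    (P : Subgroup G) (hP : IsPGroup 2 P) :
    ∃ θ : IrrCharacter M, mult M (χ : G → ℂ) θ ≠ 0 ∧ Odd (charDegree (θ : M → ℂ)) ∧
      ∀ x ∈ P, ∀ m : M, (θ : M → ℂ) (MulAut.conjNormal x m) = (θ : M → ℂ) m := by
  classical
  obtain ⟨c, hc, hd⟩ := exists_weights (M := M) χ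
  set S := Finset.univ.filter (fun θ : IrrCharacter M => Odd (c θ * charDegree (θ : M → ℂ))) with hS
  have hodd : Odd S.card := (Finset.odd_sum_iff_odd_card_odd _).mp (hd ▸ hχ)
  have hinv : ∀ (t : G) (θ : IrrCharacter M), θ ∈ S → conjIrr t θ ∈ S := by
    intro t θ hθ
    have h : mult M (χ : G → ℂ) (conjIrr t θ) = mult M (χ : G → ℂ) θ := by
      rw [mult, mult, classInner, classInner]
      congr 1
      rw [← Equiv.sum_comp (MulAut.conjNormal t : MulAut M).toEquiv
        (fun m : M => (χ : G → ℂ) (m : G) * conj ((θ : M → ℂ) m))]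
      refine Finset.sum_congr rfl fun m _ => ?_
      show (χ : G → ℂ) (m : G) * _ = (χ : G → ℂ) ((MulAut.conjNormal t m : M) : G) * _
      rw [MulAut.conjNormal_apply, CharCore.irr_isClassFunction χ (m : G) t]
      rfl
    rw [hc, hc, Nat.cast_inj] at h
    have hdeg : charDegree ((conjIrr t θ : IrrCharacter M) : M → ℂ) = charDegree (θ : M → ℂ) := by
      simp [charDegree, conjIrr_apply]
    simpa [hS, h, hdeg] using hθ
  letI : MulAction P S :=
    { smul := fun x θ => ⟨conjIrr (x : G)⁻¹ θ.1, hinv _ θ.1 θ.2⟩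
      one_smul := fun θ => Subtype.ext (Subtype.ext (funext fun m => by
        show (θ.1 : M → ℂ) (MulAut.conjNormal ((1 : G))⁻¹ m) = _
        rw [inv_one, map_one]; rfl))
      mul_smul := fun x y θ => Subtype.ext (Subtype.ext (funext fun m => by
        show (θ.1 : M → ℂ) (MulAut.conjNormal ((x : G) * y)⁻¹ m) =
          (θ.1 : M → ℂ) (MulAut.conjNormal (y : G)⁻¹ (MulAut.conjNormal (x : G)⁻¹ m))
        rw [mul_inv_rev, map_mul]; rfl)) }
  have := Fact.mk Nat.prime_two
  obtain ⟨⟨θ, hθ⟩, hfix⟩ := hP.nonempty_fixed_point_of_prime_not_dvd_card S (by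
    rw [Nat.card_eq_fintype_card, Fintype.card_coe]
    exact fun h => (Nat.not_even_iff_odd.mpr hodd) (even_iff_two_dvd.mpr h))
  obtain ⟨h1, h2⟩ := Nat.odd_mul.mp (Finset.mem_filter.mp hθ).2
  refine ⟨θ, ?_, h2, fun x hx m => ?_⟩
  · rw [hc]
    exact Nat.cast_ne_zero.mpr (Nat.pos_iff_ne_zero.mp h1.pos)
  · have h3 := congrFun (congrArg (fun θ : S => ((θ.1 : IrrCharacter M) : M → ℂ)) (hfix ⟨x⁻¹, inv_mem hx⟩)) m
    change (θ : M → ℂ) (MulAut.conjNormal (x⁻¹)⁻¹ m) = _ at h3
    rwa [inv_inv] at h3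

/-- The trivial constituent forces `M` into the kernel. -/
theorem le_kerChar_of_trivial (χ : IrrCharacter G) (θ : IrrCharacter M) (hθ : ∀ m, (θ : M → ℂ) m = 1)
    (h : mult M (χ : G → ℂ) θ ≠ 0) : M ≤ BC87.kerChar χ := by
  intro m hm
  rw [BC87.mem_kerChar]
  refine apply_eq_degree_of_sum_ne_zero χ M (fun h0 => h ?_) ⟨m, hm⟩
  rw [mult, classInner]
  simp only [hθ, map_one, mul_one, h0, mul_zero]

/-- Inflation identifies the real characters of odd degree trivial on `M`. -/
theorem card_realOdd_quotient :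
    Nat.card {χ : IrrCharacter G // χ ∈ realOdd G ∧ M ≤ BC87.kerChar χ} = Nat.card (realOdd (G ⧸ M)) := by
  classical
  let e := BC87.inflEquiv M
  have hdeg : ∀ θ : IrrCharacter (G ⧸ M),
      charDegree (((e θ).1 : IrrCharacter G) : G → ℂ) = charDegree (θ : G ⧸ M → ℂ) := fun θ => by
    unfold charDegree
    rw [BC87.inflEquiv_apply, QuotientGroup.mk_one]
  have hiff : ∀ θ : IrrCharacter (G ⧸ M), θ ∈ realOdd (G ⧸ M) ↔ (e θ).1 ∈ realOdd G := fun θ => by
    show _ ∧ _ ↔ _ ∧ _
    rw [hdeg]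
    refine and_congr_left fun _ => ⟨fun h g => h _, fun h q => ?_⟩
    obtain ⟨g, rfl⟩ := QuotientGroup.mk_surjective q
    exact h g
  refine (Nat.card_congr (Equiv.ofBijective
    (fun θ : realOdd (G ⧸ M) => (⟨(e θ.1).1, (hiff θ.1).mp θ.2, (e θ.1).2⟩ :
      {χ : IrrCharacter G // χ ∈ realOdd G ∧ M ≤ BC87.kerChar χ})) ⟨fun a b h => ?_, fun χ => ?_⟩)).symm
  · have h' : (e a.1).1 = (e b.1).1 := congrArg (fun z : {χ : IrrCharacter G // χ ∈ realOdd G ∧ M ≤ BC87.kerChar χ} => z.1) h
    exact Subtype.ext (e.injective (Subtype.ext h'))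
  · obtain ⟨θ, hθ⟩ := e.surjective ⟨χ.1, χ.2.2⟩
    exact ⟨⟨θ, (hiff θ).mpr (by rw [hθ]; exact χ.2.1)⟩, Subtype.ext (show (e θ).1 = χ.1 by rw [hθ])⟩

/-- A statement about all characters of odd degree passes to quotients. -/
theorem AllReal.quotient (h : AllReal G) : AllReal (G ⧸ M) := by
  intro θ hθ q
  obtain ⟨g, rfl⟩ := QuotientGroup.mk_surjective q
  have := h (BC87.inflEquiv M θ).1 (by
    unfold charDegree at hθ ⊢
    rw [BC87.inflEquiv_apply, QuotientGroup.mk_one]; exact hθ) g
  rwa [BC87.inflEquiv_apply] at this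

/-- Characters trivial on `M` are real when those of the quotient are. -/
theorem isReal_of_le_kerChar (h : AllReal (G ⧸ M)) (χ : IrrCharacter G) (hodd : Odd (charDegree (χ : G → ℂ)))
    (hker : M ≤ BC87.kerChar χ) : IsReal (χ : G → ℂ) := by
  obtain ⟨θ, hθ⟩ := (BC87.inflEquiv M).surjective ⟨χ, hker⟩
  have h1 : ∀ g : G, (θ : G ⧸ M → ℂ) (g : G ⧸ M) = (χ : G → ℂ) g := fun g => by
    rw [← BC87.inflEquiv_apply, hθ]
  intro g
  rw [← h1]
  exact h θ (by
    unfold charDegree at hodd ⊢
    rw [← QuotientGroup.mk_one M, h1]; exact hodd) _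

end Normal

section Linear

variable {G : Type*} [Group G] [Fintype G] {M : Subgroup G} [M.Normal] [Fintype M]

/-- An invariant linear constituent is the only one: the restriction is a multiple of it. -/
theorem restrict_eq (χ : IrrCharacter G) (lam : M →* ℂˣ)
    (hlam : ∀ (g : G) (m : M), lam (MulAut.conjNormal g m) = lam m)
    (h : mult M (χ : G → ℂ) (linIrr lam) ≠ 0) (m : M) :
    (χ : G → ℂ) m = (lam m : ℂ) * (charDegree (χ : G → ℂ) : ℂ) := by
  classical
  have hdec := CharCore.IsCharacter.eq_sum_classInner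
    (CharCore.isCharacter_restrict (CharCore.irr_isCharacter χ) M)
  have hzero : ∀ θ : IrrCharacter M, θ ≠ linIrr lam →
      classInner (fun m : M => (χ : G → ℂ) m) (θ : M → ℂ) = 0 := by
    intro θ hθ
    by_contra hne
    obtain ⟨x, hx⟩ := CharClifford.exists_conjFun_eq_of_constituents M χ.2 (linIrr lam).2 θ.2 h hne
    refine hθ (Subtype.ext (hx.trans (funext fun a => ?_)))
    rw [CharClifford.conjFun_apply]
    show (lam _ : ℂ) = (lam a : ℂ)
    first
      | exact congrArg Units.val ((congrArg lam (Subtype.ext (by simp))).trans (hlam x a))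
      | exact congrArg Units.val ((congrArg lam (Subtype.ext (by simp))).trans (hlam x⁻¹ a))
  have h1 := congrFun hdec
  simp only [Finset.sum_apply, Pi.smul_apply, smul_eq_mul] at h1
  have hsingle : ∀ a : M, (χ : G → ℂ) a = classInner (fun m : M => (χ : G → ℂ) m) ((linIrr lam : IrrCharacter M) : M → ℂ) *
      (lam a : ℂ) := by
    intro a
    rw [h1 a, Finset.sum_eq_single (linIrr lam) (fun θ _ hθ => by rw [hzero θ hθ, zero_mul])
      (fun hh => absurd (Finset.mem_univ _) hh)]
    rfl
  have hd := hsingle 1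
  rw [map_one, Units.val_one, mul_one, OneMemClass.coe_one, irr_one_eq] at hd
  rw [hsingle m, ← hd, mul_comm]

/-- The determinant of a character over an invariant linear character. -/
theorem det_restrict (χ : IrrCharacter G) (lam : M →* ℂˣ)
    (hlam : ∀ (g : G) (m : M), lam (MulAut.conjNormal g m) = lam m)
    (h : mult M (χ : G → ℂ) (linIrr lam) ≠ 0) (m : M) :
    CharDeep.Ext.detHom (χ : G → ℂ) (m : G) = lam m ^ charDegree (χ : G → ℂ) := by
  have h1 := CharDeep.Ext.detHom_comp (CharCore.irr_isCharacter χ) M.subtype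
  rw [show (fun a : M => (χ : G → ℂ) (M.subtype a)) =
      fun a : M => (lam a : ℂ) * (charDegree (χ : G → ℂ) : ℂ) from funext (restrict_eq χ lam hlam h),
    detHom_smul_hom] at h1
  exact (congrArg (fun φ : M →* ℂˣ => φ m) h1).symm

/-- The determinant of a real character is real. -/
theorem det_sq (χ : IrrCharacter G) (hχ : IsReal (χ : G → ℂ)) (g : G) :
    CharDeep.Ext.detHom (χ : G → ℂ) g ^ 2 = 1 := by
  have hk : ∀ a : G, a ^ (Nat.card G - 1) = a⁻¹ := fun a => by
    refine eq_inv_of_mul_eq_one_left ?_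
    rw [← pow_succ, Nat.sub_add_cancel Nat.card_pos, pow_card_eq_one']
  have he : (fun a : G => (χ : G → ℂ) (a ^ (Nat.card G - 1))) = (χ : G → ℂ) := funext fun a => by
    rw [hk, CharCore.irr_apply_inv, hχ.conj_eq]
  have h1 := congrArg (fun φ : G →* ℂˣ => φ g) (Residual.detHom_comp_pow (CharCore.irr_isCharacter χ)
    (k := Nat.card G - 1) (by rw [he]; exact CharCore.irr_isCharacter χ))
  simp only [he, MonoidHom.pow_apply] at h1
  rw [← map_pow, hk, map_inv, eq_inv_iff_mul_eq_one] at h1
  rw [sq, h1]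

/-- The transfer of a linear character of a two-group of odd index extends it on a normal subgroup
on which it is invariant and real. -/
theorem transfer_apply (P : Subgroup G) (hodd : Odd P.index) (hMP : M ≤ P) (μ : P →* ℂˣ)
    (hinv : ∀ (g : G) (m : M), μ ⟨_, hMP (MulAut.conjNormal g m).2⟩ = μ ⟨m, hMP m.2⟩)
    (hsq : ∀ m : M, μ ⟨m, hMP m.2⟩ ^ 2 = 1) (m : M) :
    MonoidHom.transfer μ (m : G) = μ ⟨m, hMP m.2⟩ := by
  classical
  rw [MonoidHom.transfer_eq_prod_quotient_orbitRel_zpowers_quot]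
  set a := μ ⟨m, hMP m.2⟩ with ha
  have hstep : ∀ q : Quotient (MulAction.orbitRel (Subgroup.zpowers (m : G)) (G ⧸ P)),
      Function.minimalPeriod ((m : G) • ·) q.out = 1 := by
    intro q
    refine Function.minimalPeriod_eq_one_iff_isFixedPt.mpr ?_
    show (m : G) • q.out = q.out
    obtain ⟨t, ht⟩ := QuotientGroup.mk_surjective q.out
    rw [← ht, MulAction.Quotient.smul_mk, QuotientGroup.eq, smul_eq_mul]
    have h2 := hMP (((inferInstance : M.Normal).conj_mem _ (inv_mem m.2) t⁻¹))
    simpa [mul_assoc] using h2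
  have hcard : Fintype.card (Quotient (MulAction.orbitRel (Subgroup.zpowers (m : G)) (G ⧸ P))) = P.index := by
    rw [Subgroup.index_eq_card, ← Nat.card_eq_fintype_card]
    refine (Nat.card_eq_of_bijective (Quotient.mk _) ⟨fun x y hxy => ?_, Quotient.mk_surjective⟩).symm
    obtain ⟨⟨z, hz⟩, hzx⟩ := MulAction.orbitRel_apply.mp (Quotient.exact hxy)
    obtain ⟨j, rfl⟩ := hz
    have hfix : (m : G) • y = y := by
      obtain ⟨t, rfl⟩ := QuotientGroup.mk_surjective y
      rw [MulAction.Quotient.smul_mk, QuotientGroup.eq, smul_eq_mul]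
      have h2 := hMP (((inferInstance : M.Normal).conj_mem _ (inv_mem m.2) t⁻¹))
      simpa [mul_assoc] using h2
    have hst : (m : G) ∈ MulAction.stabilizer G y := hfix
    exact hzx.symm.trans (MulAction.mem_stabilizer_iff.mp (zpow_mem hst j))
  have hval : ∀ q : Quotient (MulAction.orbitRel (Subgroup.zpowers (m : G)) (G ⧸ P)), ∀ hh,
      μ ⟨q.out.out⁻¹ * (m : G) ^ Function.minimalPeriod ((m : G) • ·) q.out * q.out.out, hh⟩ = a := by
    intro q hh
    rw [ha, ← hinv q.out.out⁻¹ m]
    refine congrArg μ (Subtype.ext ?_)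
    show _ = ((MulAut.conjNormal q.out.out⁻¹ m : M) : G)
    simp only [hstep q, pow_one, MulAut.conjNormal_apply, inv_inv]
  rw [Finset.prod_eq_pow_card (b := a) (fun q _ => hval q _), Finset.card_univ, hcard]
  obtain ⟨r, hr⟩ := hodd
  rw [hr, pow_succ, pow_mul, hsq, one_pow, one_mul]

end Linear

end Cfsg.Agent.BC84.SolvReal
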