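import Cfsg.Agent.BC84.BrauerCount
import Cfsg.Agent.Lib.BlocksDefect.Induced
import Cfsg.Agent.Lib.BlocksDefect.Central
import Cfsg.Agent.Lib.BlocksDefect.Pairing
import Mathlib.LinearAlgebra.Trace

/-!
# Contributions of a subsection
-/

set_option autoImplicit false
set_option linter.unusedSectionVars false

namespace Cfsg.Agent.BC84

open BlocksCore BlocksDefect
open scoped ComplexConjugate

variable {G : Type*} [Group G] [Finite G] {p : ℕ} [Fact p.Prime] {M : Ideal AlgInt}

theorem classInner_add_left' {H : Type*} [Group H] [Fintype H] (f g h : H → ℂ) :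
    classInner (f + g) h = classInner f h + classInner g h := by
  simp only [classInner, Pi.add_apply, add_mul, Finset.sum_add_distrib, mul_add]

theorem conj_classInner {H : Type*} [Group H] [Fintype H] (f g : H → ℂ) :
    conj (classInner f g) = classInner g f := by
  simp only [classInner, map_mul, map_inv₀, map_natCast, map_sum, Complex.conj_conj]
  congr 1
  exact Finset.sum_congr rfl fun x _ => mul_comm _ _

theorem eq_zero_of_classInner_self {H : Type*} [Group H] [Fintype H] {f : H → ℂ}
    (h : classInner f f = 0) : f = 0 := by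
  have hne : (Nat.card H : ℂ) ≠ 0 := Nat.cast_ne_zero.mpr Nat.card_pos.ne'
  rw [classInner, mul_eq_zero] at h
  have h1 := h.resolve_left (inv_ne_zero hne)
  have h2 : ∑ x : H, Complex.normSq (f x) = 0 := by
    apply Complex.ofReal_injective
    push_cast
    rw [← h1]
    exact Finset.sum_congr rfl fun x _ => (Complex.mul_conj _).symm
  funext x
  exact Complex.normSq_eq_zero.mp
    ((Finset.sum_eq_zero_iff_of_nonneg fun x _ => Complex.normSq_nonneg _).mp h2 x (Finset.mem_univ x))

/-- Adjunction between sections and spreading. -/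
theorem classInner_spread [Fintype G] (x : G) [Fintype (Subgroup.centralizer ({x} : Set G))]
    {f : G → ℂ} (hf : IsClassFunction G f) (w : Subgroup.centralizer ({x} : Set G) → ℂ) :
    classInner f (spread x w) =
      classInner (fun c : Subgroup.centralizer ({x} : Set G) => f (x * (c : G))) w := by
  classical
  have hG : (Nat.card G : ℂ) ≠ 0 := Nat.cast_ne_zero.mpr Nat.card_pos.ne'
  set E : G → ℂ := fun u => extendByZero (Subgroup.centralizer ({x} : Set G)) w u with hE
  have h1 : ∀ t : G, ∑ g : G, f g * conj (E (x⁻¹ * (t * g * t⁻¹))) =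
      ∑ c : Subgroup.centralizer ({x} : Set G), f (x * (c : G)) * conj (w c) := by
    intro t
    rw [← Equiv.sum_comp ((MulAut.conj t⁻¹).toEquiv) (fun g => f g * conj (E (x⁻¹ * (t * g * t⁻¹))))]
    rw [Finset.sum_congr rfl (g := fun g => f g * conj (E (x⁻¹ * g))) (fun g _ => by
      simp only [MulEquiv.toEquiv_eq_coe, EquivLike.coe_coe, MulAut.conj_apply, inv_inv]
      rw [show t * (t⁻¹ * g * t) * t⁻¹ = g by group]
      congr 1
      have := hf g t⁻¹
      rwa [inv_inv] at this)]
    rw [← Equiv.sum_comp (Equiv.mulLeft x) (fun g => f g * conj (E (x⁻¹ * g)))]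
    simp only [Equiv.coe_mulLeft, inv_mul_cancel_left]
    rw [← Finset.sum_subset (Finset.subset_univ (Finset.univ.filter fun u => u ∈ Subgroup.centralizer ({x} : Set G)))
      (fun u _ hu => by
        rw [hE]; simp only
        rw [CharInd.extendByZero_notMem _ (by simpa using hu), map_zero, mul_zero]),
      Finset.sum_subtype (p := fun u => u ∈ Subgroup.centralizer ({x} : Set G)) _ (fun u => by simp)]
    refine Finset.sum_congr (by congr!) fun c _ => ?_
    rw [hE]; simp only
    rw [CharInd.extendByZero_coe]
  simp only [classInner, spread]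
  rw [Finset.sum_congr rfl (g := fun g => (Nat.card (Subgroup.centralizer ({x} : Set G)) : ℂ)⁻¹ *
    ∑ t : G, f g * conj (E (x⁻¹ * (t * g * t⁻¹)))) (fun g _ => by
      rw [map_mul, map_inv₀, map_natCast, map_sum, Finset.mul_sum, Finset.mul_sum, Finset.mul_sum]
      refine Finset.sum_congr (by congr!) fun t _ => ?_
      rw [hE]; ring)]
  rw [← Finset.mul_sum, Finset.sum_comm, Finset.sum_congr rfl fun t _ => h1 t, Finset.sum_const,
    nsmul_eq_mul, Finset.card_univ, ← Nat.card_eq_fintype_card]
  field_simp

/-- The element `u` in its centralizer. -/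
def cu (u : G) : Subgroup.centralizer ({u} : Set G) := ⟨u, Subgroup.mem_centralizer_singleton_iff.mpr rfl⟩

variable {u : G} {k : ℕ} (hM : IsPModular p M) (hu : orderOf u = p ^ k)
  {B : Set (IrrCharacter G)} {b : Set (IrrCharacter (Subgroup.centralizer ({u} : Set G)))}

/-- The contribution of the subsection `(u, b)`. -/
noncomputable def contr (p : ℕ) (b : Set (IrrCharacter (Subgroup.centralizer ({u} : Set G)))) (f g : G → ℂ) : ℂ :=
  haveI := Fintype.ofFinite (Subgroup.centralizer ({u} : Set G))
  classInner (sectMap p u b f) (sectMap p u b g)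

include hM

/-- The section map is adjoint to spreading on the regular span of the block. -/
theorem classInner_sectMap [Fintype G] [Fintype (Subgroup.centralizer ({u} : Set G))] (hb : IsPBlock M b)
    {f : G → ℂ} (hf : IsClassFunction G f) {w : Subgroup.centralizer ({u} : Set G) → ℂ}
    (hw : w ∈ regSpan p b) :
    classInner (sectMap p u b f) w = classInner f (spread u w) := by
  classical
  rw [classInner_spread u hf]
  set h' : Subgroup.centralizer ({u} : Set G) → ℂ := fun c => f (u * (c : G)) with hh'
  have hhc : IsClassFunction _ h' := isClassFunction_translate_of u hf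
  have h1 : classInner (sectMap p u b f) w = classInner (blockPart b h') w := by
    rw [sectMap_eq_regPart]
    simp only [classInner]
    congr 1
    refine Finset.sum_congr rfl fun c _ => ?_
    by_cases hc : p ∣ orderOf c
    · rw [(isClassFunction_of_mem_regSpan hw).2 c hc, map_zero, mul_zero, mul_zero]
    · rw [BC85.pRegularPart_pos hc]
  rw [h1]
  have := finite_irr (G := Subgroup.centralizer ({u} : Set G))
  letI := CharCore.fintypeIrrCharacter (G := Subgroup.centralizer ({u} : Set G))
  have h2 : blockPart b h' = ∑ η : IrrCharacter (Subgroup.centralizer ({u} : Set G)),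
      (if η ∈ b then classInner h' (η : _ → ℂ) else 0) • (η : Subgroup.centralizer ({u} : Set G) → ℂ) := by
    funext c
    rw [blockPart, finsum_mem_def, finsum_eq_sum_of_fintype, Finset.sum_apply]
    refine Finset.sum_congr rfl fun η _ => ?_
    by_cases hη : η ∈ b
    · rw [Set.indicator_of_mem hη, if_pos hη, Pi.smul_apply, smul_eq_mul]
      congr!
    · rw [Set.indicator_of_notMem hη, if_neg hη, zero_smul, Pi.zero_apply]
  conv_rhs => rw [CharCore.eq_sum_classInner hhc]
  rw [h2, CharCore.classInner_sum_left, CharCore.classInner_sum_left]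
  refine Finset.sum_congr rfl fun η _ => ?_
  by_cases hη : η ∈ b
  · rw [if_pos hη]
  · have h3 : classInner ((η : Subgroup.centralizer ({u} : Set G) → ℂ)) w = 0 := by
      rw [← conj_classInner, classInner_eq_zero_of_mem_span (mem_span_of_mem_regSpan hM hb hw) hη, map_zero]
    rw [CharCore.classInner_smul_left, CharCore.classInner_smul_left, h3, mul_zero, mul_zero]

include hu

theorem sectMap_eq_zero (hb : IsPBlock M b) {χ : IrrCharacter G}
    (h : ¬ IsInducedBlock M (Subgroup.centralizer ({u} : Set G)) b (blockOf M (χ : G → ℂ))) :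
    sectMap p u b (χ : G → ℂ) = 0 := by
  have := Fintype.ofFinite (Subgroup.centralizer ({u} : Set G))
  rw [sectMap_eq_regPart]
  funext y
  by_cases hy : p ∣ orderOf y
  · rw [BC85.pRegularPart_neg hy]; rfl
  · rw [BC85.pRegularPart_pos hy, blockPart_eq_sum_blockCoeff b (isClassFunction_translate_of u (CharCore.irr_isClassFunction χ)),
      Pi.zero_apply, ← sum_blockCoeff_section_eq_zero hM hu hb h y hy]
    refine Finset.sum_congr rfl fun c _ => ?_
    rw [Subgroup.coe_mul, ← mul_assoc, ← mul_assoc, Subgroup.mem_centralizer_singleton_iff.mp c.2]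

/-- The members of `B` form a tight frame in the regular span of a block inducing `B`. -/
theorem frame [Fintype (Subgroup.centralizer ({u} : Set G))] [Fintype B]
    (hb : IsInducedBlock M (Subgroup.centralizer ({u} : Set G)) b B)
    {v : Subgroup.centralizer ({u} : Set G) → ℂ} (hv : v ∈ regSpan p b) :
    ∑ χ : B, classInner v (sectMap p u b ((χ : IrrCharacter G) : G → ℂ)) •
      sectMap p u b ((χ : IrrCharacter G) : G → ℂ) = v := by
  classical
  have := isPrime hM
  have := Fintype.ofFinite G
  have := finite_irr (G := G)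
  letI := CharCore.fintypeIrrCharacter (G := G)
  have hFc := isClassFunction_spread u v
  set F := spread u v with hF
  have hco : ∀ χ : IrrCharacter G, classInner F (χ : G → ℂ) = classInner v (sectMap p u b (χ : G → ℂ)) := fun χ => by
    rw [← conj_classInner, hF, ← classInner_sectMap hM hb.1 (CharCore.irr_isClassFunction χ) hv, conj_classInner]
  have hsF : sectMap p u b F = v := by
    set d := sectMap p u b F - v with hd
    have hdm : d ∈ regSpan p b := Submodule.sub_mem _ (sectMap_mem u b F) hv
    have h1 : classInner (sectMap p u b F) d = classInner v d := by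
      rw [classInner_sectMap hM hb.1 hFc hdm, classInner_spread u hFc]
      simp only [classInner]
      congr 1
      refine Finset.sum_congr rfl fun c _ => ?_
      by_cases hc : p ∣ orderOf c
      · rw [(isClassFunction_of_mem_regSpan hdm).2 c hc, map_zero, mul_zero, mul_zero]
      · rw [hF, (spread_apply hu hu (isClassFunction_of_mem_regSpan hv).1 (isClassFunction_of_mem_regSpan hv).2
          (by rwa [Subgroup.orderOf_coe]) (Subgroup.mem_centralizer_singleton_iff.mp c.2).symm).2 rfl c.2]
    have h2 : classInner d d = 0 := by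
      have h3 : classInner (d + v) d = classInner v d := by rw [hd, sub_add_cancel]; exact h1
      rw [classInner_add_left'] at h3
      simpa using h3
    exact sub_eq_zero.mp (eq_zero_of_classInner_self h2)
  conv_rhs => rw [← hsF, CharCore.eq_sum_classInner hFc, map_sum]
  rw [← Finset.sum_subset (Finset.subset_univ B.toFinset) (fun χ _ hχ => ?_), ← Finset.sum_set_coe B]
  · refine Finset.sum_congr rfl fun χ _ => ?_
    rw [map_smul, hco]
  · have hχ' : χ ∉ B := fun h => hχ (Set.mem_toFinset.mpr h)
    rw [map_smul, sectMap_eq_zero hM hu hb.1 (fun hc => hχ' ?_), smul_zero]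
    rw [induced_unique hM hb hc]; exact mem_blockOf_self χ

/-- The contributions form an idempotent matrix. -/
theorem sum_contr_mul_contr [Fintype B] (hb : IsInducedBlock M (Subgroup.centralizer ({u} : Set G)) b B)
    (f g : G → ℂ) :
    ∑ χ : B, contr p b f ((χ : IrrCharacter G) : G → ℂ) * contr p b ((χ : IrrCharacter G) : G → ℂ) g = contr p b f g := by
  let := Fintype.ofFinite (Subgroup.centralizer ({u} : Set G))
  simp only [contr]
  conv_rhs => rw [← frame hM hu hb (sectMap_mem (p := p) u b f), CharCore.classInner_sum_left]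
  exact Finset.sum_congr rfl fun χ _ => (CharCore.classInner_smul_left _ _ _).symm

omit hu in
theorem conj_contr (f g : G → ℂ) : conj (contr p b f g) = contr p b g f := by
  simp only [contr, conj_classInner]

/-- The trace of the contributions is the rank of the block. -/
theorem sum_contr_self [Fintype B] (hb : IsInducedBlock M (Subgroup.centralizer ({u} : Set G)) b B) :
    ∑ χ : B, contr p b ((χ : IrrCharacter G) : G → ℂ) ((χ : IrrCharacter G) : G → ℂ) = (blockRank p b : ℂ) := by
  classical
  let := Fintype.ofFinite (Subgroup.centralizer ({u} : Set G))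
  let A : regSpan p b →ₗ[ℂ] (B → ℂ) :=
    { toFun := fun v χ => classInner (v : _ → ℂ) (sectMap p u b ((χ : IrrCharacter G) : G → ℂ))
      map_add' := fun v w => funext fun χ => classInner_add_left' _ _ _
      map_smul' := fun a v => funext fun χ => CharCore.classInner_smul_left _ _ _ }
  let Bm : (B → ℂ) →ₗ[ℂ] regSpan p b :=
    Fintype.linearCombination ℂ fun χ : B => (⟨sectMap p u b ((χ : IrrCharacter G) : G → ℂ), sectMap_mem u b _⟩ : regSpan p b)
  have hBA : Bm ∘ₗ A = LinearMap.id := by
    refine LinearMap.ext fun v => Subtype.ext ?_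
    simp only [Bm, LinearMap.comp_apply, Fintype.linearCombination_apply, Submodule.coe_sum, Submodule.coe_smul, LinearMap.id_apply]
    exact frame hM hu hb v.2
  have h := LinearMap.trace_comp_comm' A Bm
  rw [hBA, LinearMap.trace_id] at h
  rw [blockRank_eq_finrank, h, LinearMap.trace_eq_matrix_trace ℂ (Pi.basisFun ℂ B), Matrix.trace]
  refine Finset.sum_congr rfl fun χ _ => ?_
  rw [Matrix.diag_apply, LinearMap.toMatrix_apply]
  simp only [Pi.basisFun_repr, Pi.basisFun_apply, LinearMap.comp_apply, A, Bm, LinearMap.coe_mk, AddHom.coe_mk,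
    Fintype.linearCombination_apply_single, one_smul, contr]

omit hu in
/-- The section map through the multiplicities in the restriction. -/
theorem exists_mult [Fintype (Subgroup.centralizer ({u} : Set G))] (χ : IrrCharacter G) :
    ∃ n : IrrCharacter (Subgroup.centralizer ({u} : Set G)) → ℕ,
      (∀ η : IrrCharacter (Subgroup.centralizer ({u} : Set G)), classInner (fun c : Subgroup.centralizer ({u} : Set G) => (χ : G → ℂ) c)
        (η : Subgroup.centralizer ({u} : Set G) → ℂ) = n η) ∧
      ∀ η : IrrCharacter (Subgroup.centralizer ({u} : Set G)), classInner (fun c : Subgroup.centralizer ({u} : Set G) => (χ : G → ℂ) (u * (c : G)))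
        (η : Subgroup.centralizer ({u} : Set G) → ℂ) =
          (n η : ℂ) * cval η (cu u) := by
  classical
  set uC : Subgroup.centralizer ({u} : Set G) := cu u with huC
  have hcen : uC ∈ Subgroup.center _ := Subgroup.mem_center_iff.mpr fun c =>
    Subtype.ext (Subgroup.mem_centralizer_singleton_iff.mp c.2)
  have hφ := CharCore.isCharacter_restrict (CharCore.irr_isCharacter χ) (Subgroup.centralizer ({u} : Set G))
  choose n hn using fun η : IrrCharacter (Subgroup.centralizer ({u} : Set G)) =>
    CharCore.IsCharacter.exists_classInner_irr_eq_natCast hφ η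
  refine ⟨n, hn, fun η => ?_⟩
  letI := CharCore.fintypeIrrCharacter (G := Subgroup.centralizer ({u} : Set G))
  have e : (fun c : Subgroup.centralizer ({u} : Set G) => (χ : G → ℂ) (u * (c : G))) =
      ∑ η : IrrCharacter (Subgroup.centralizer ({u} : Set G)),
        ((n η : ℂ) * cval η uC) • (η : Subgroup.centralizer ({u} : Set G) → ℂ) := by
    funext c
    have h1 := congrFun (CharCore.IsCharacter.eq_sum_classInner hφ) (c * uC)
    simp only [Finset.sum_apply, Pi.smul_apply, smul_eq_mul] at h1 ⊢
    rw [show u * (c : G) = ((c * uC : Subgroup.centralizer ({u} : Set G)) : G) from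
      (Subgroup.mem_centralizer_singleton_iff.mp c.2).symm, h1]
    refine Finset.sum_congr rfl fun η _ => ?_
    rw [hn, BlocksDefect.apply_mul_of_center η hcen]
    ring
  rw [e, CharCore.classInner_sum_left, Finset.sum_eq_single η]
  · rw [CharCore.classInner_smul_left, CharCore.classInner_irr_self, mul_one]
  · intro θ _ hne
    rw [CharCore.classInner_smul_left, CharCore.classInner_irr_of_ne hne, mul_zero]
  · simp

omit hu in
/-- The contribution in terms of the trivial contributions of `b`. -/
theorem contr_eq_sum [Fintype (Subgroup.centralizer ({u} : Set G))] [Fintype b] (χ ψ : IrrCharacter G)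
    {n n' : IrrCharacter (Subgroup.centralizer ({u} : Set G)) → ℕ}
    (hn : ∀ η : IrrCharacter (Subgroup.centralizer ({u} : Set G)), classInner (fun c : Subgroup.centralizer ({u} : Set G) => (χ : G → ℂ) (u * (c : G)))
        (η : Subgroup.centralizer ({u} : Set G) → ℂ) =
          (n η : ℂ) * cval η (cu u))
    (hn' : ∀ η : IrrCharacter (Subgroup.centralizer ({u} : Set G)), classInner (fun c : Subgroup.centralizer ({u} : Set G) => (ψ : G → ℂ) (u * (c : G)))
        (η : Subgroup.centralizer ({u} : Set G) → ℂ) =
          (n' η : ℂ) * cval η (cu u)) :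
    contr p b (χ : G → ℂ) (ψ : G → ℂ) = ∑ η : b, ∑ η' : b,
      ((n (η : IrrCharacter (Subgroup.centralizer ({u} : Set G))) : ℂ) * cval (η : IrrCharacter (Subgroup.centralizer ({u} : Set G))) (cu u)) *
      conj ((n' (η' : IrrCharacter (Subgroup.centralizer ({u} : Set G))) : ℂ) * cval (η' : IrrCharacter (Subgroup.centralizer ({u} : Set G))) (cu u)) *
      BC85.prj p (η : IrrCharacter (Subgroup.centralizer ({u} : Set G))) η' := by
  classical
  have hexp : ∀ (ξ : IrrCharacter G) (m : IrrCharacter (Subgroup.centralizer ({u} : Set G)) → ℕ)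
      (_ : ∀ η : IrrCharacter (Subgroup.centralizer ({u} : Set G)), classInner (fun c : Subgroup.centralizer ({u} : Set G) => (ξ : G → ℂ) (u * (c : G)))
        (η : Subgroup.centralizer ({u} : Set G) → ℂ) =
          (m η : ℂ) * cval η (cu u))
      (c : Subgroup.centralizer ({u} : Set G)),
      sectMap p u b (ξ : G → ℂ) c = ∑ η : b, ((m (η : IrrCharacter (Subgroup.centralizer ({u} : Set G))) : ℂ) *
        cval (η : IrrCharacter (Subgroup.centralizer ({u} : Set G))) (cu u)) *
        pRegularPart p ((η : IrrCharacter (Subgroup.centralizer ({u} : Set G))) : Subgroup.centralizer ({u} : Set G) → ℂ) c := by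
    intro ξ m hm c
    rw [sectMap_eq_regPart]
    by_cases hc : p ∣ orderOf c
    · rw [BC85.pRegularPart_neg hc]
      exact (Finset.sum_eq_zero fun η _ => by rw [BC85.pRegularPart_neg hc, mul_zero]).symm
    · rw [BC85.pRegularPart_pos hc, blockPart, ← finsum_set_coe_eq_finsum_mem, finsum_eq_sum_of_fintype]
      refine Finset.sum_congr rfl fun η _ => ?_
      rw [BC85.pRegularPart_pos hc, ← hm]
      congr!
  rw [show contr p b (χ : G → ℂ) (ψ : G → ℂ) = classInner (sectMap p u b (χ : G → ℂ)) (sectMap p u b (ψ : G → ℂ)) by
    unfold contr; congr!]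
  rw [classInner, Finset.sum_congr rfl fun c _ => by rw [hexp χ n hn c, hexp ψ n' hn' c, map_sum, Finset.sum_mul_sum],
    Finset.sum_comm, Finset.mul_sum]
  refine Finset.sum_congr rfl fun η _ => ?_
  rw [Finset.sum_comm, Finset.mul_sum]
  refine Finset.sum_congr rfl fun η' _ => ?_
  rw [BC85.prj_def, classInner, Finset.mul_sum, Finset.mul_sum, Finset.mul_sum]
  refine Finset.sum_congr rfl fun c _ => ?_
  rw [map_mul, map_mul, map_natCast]
  by_cases hc : p ∣ orderOf c
  · rw [BC85.pRegularPart_neg hc]; ring
  · rw [BC85.pRegularPart_pos hc, BC85.pRegularPart_pos hc]; ring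

omit hu in
/-- A height zero member has unit multiplicity vector against a block inducing its block. -/
theorem not_dvd_mult (hb : IsInducedBlock M (Subgroup.centralizer ({u} : Set G)) b B)
    [Fintype (Subgroup.centralizer ({u} : Set G))] [Fintype b]
    {χ : IrrCharacter G} (hχ : χ ∈ B) (h0 : blockHeight p B (χ : G → ℂ) = 0)
    {n : IrrCharacter (Subgroup.centralizer ({u} : Set G)) → ℕ}
    (hn : ∀ η : IrrCharacter (Subgroup.centralizer ({u} : Set G)), classInner (fun c : Subgroup.centralizer ({u} : Set G) => (χ : G → ℂ) c)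
        (η : Subgroup.centralizer ({u} : Set G) → ℂ) = n η)
    {m : b → b → ℤ} (hm : ∀ η η' : b, (m η η' : ℂ) = (p : ℂ) ^ blockDefect p b *
        BC85.prj p (η : IrrCharacter (Subgroup.centralizer ({u} : Set G))) η')
    {θ : b} (hθ : ¬ (p : ℤ) ∣ m θ θ) :
    ¬ (p : ℤ) ∣ ∑ η : b, (n (η : IrrCharacter (Subgroup.centralizer ({u} : Set G))) : ℤ) * m θ η := by
  classical
  have := isPrime hM
  have := Fintype.ofFinite G
  have hu' := (regPair_unit_iff hM hb.2.1 hχ hχ).mpr h0
  intro hdvd
  refine hu' ?_
  have hω : MemLocalIdeal M (omega ((θ : IrrCharacter (Subgroup.centralizer ({u} : Set G))) : Subgroup.centralizer ({u} : Set G) → ℂ)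
      (res (Subgroup.centralizer ({u} : Set G)) (regInv p (χ : G → ℂ)))) := by
    rw [regPair_res_eq_sum]
    set θ' : IrrCharacter (Subgroup.centralizer ({u} : Set G)) := (θ : IrrCharacter (Subgroup.centralizer ({u} : Set G))) with hθ'
    set R := fun η : IrrCharacter (Subgroup.centralizer ({u} : Set G)) =>
      regPair p (θ' : Subgroup.centralizer ({u} : Set G) → ℂ) η with hR
    have hC : (Nat.card (Subgroup.centralizer ({u} : Set G)) : ℂ) ≠ 0 := Nat.cast_ne_zero.mpr Nat.card_pos.ne'
    have hrel : ∀ η : b, (m θ θ : ℂ) * R (η : IrrCharacter (Subgroup.centralizer ({u} : Set G))) = (m θ η : ℂ) * R θ' := by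
      intro η
      rw [hm, hm, BC85.prj_eq_regPair, BC85.prj_eq_regPair]
      simp only [hR, hθ']
      field_simp
    have hsum : (m θ θ : ℂ) * ∑ η : IrrCharacter (Subgroup.centralizer ({u} : Set G)),
        classInner (fun c : Subgroup.centralizer ({u} : Set G) => (χ : G → ℂ) c) η * R η =
          ((∑ η : b, (n (η : IrrCharacter (Subgroup.centralizer ({u} : Set G))) : ℤ) * m θ η : ℤ) : ℂ) * R θ' := by
      rw [← Finset.sum_subset (Finset.subset_univ b.toFinset) (fun η _ hη => by
        simp only [hR]
        rw [regPair_eq_zero hM (fun h => hη (Set.mem_toFinset.mpr (by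
          rw [isPBlock_eq_blockOf hb.1 θ.2]; exact h))), mul_zero]),
        ← Finset.sum_set_coe b, Finset.mul_sum, Int.cast_sum, Finset.sum_mul]
      refine Finset.sum_congr rfl fun η _ => ?_
      rw [hn, Int.cast_mul, Int.cast_natCast]
      linear_combination (n (η : IrrCharacter (Subgroup.centralizer ({u} : Set G))) : ℂ) * hrel η
    have h2 : MemLocalIdeal M ((m θ θ : ℂ) * ∑ η : IrrCharacter (Subgroup.centralizer ({u} : Set G)),
        classInner (fun c : Subgroup.centralizer ({u} : Set G) => (χ : G → ℂ) c) η * R η) := by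
      rw [hsum]
      exact memLocalIdeal_mul_right ((memLocalIdeal_intCast_iff hM _).mpr hdvd) (regPair_memLocalRing _ _)
    refine (memLocalIdeal_mem_or_mem (memLocalRing_intCast _) (memLocalRing_sum fun η _ => ?_) h2).resolve_left
      fun h => hθ ((memLocalIdeal_intCast_iff hM _).mp h)
    rw [hn]
    exact (localRing M).mul_mem (memLocalRing_natCast _) (regPair_memLocalRing _ _)
  have h1 := memLocalIdeal_sub hω (omega_induced hM hb θ.2 hχ (isIntClassFun_regInv (p := p) χ))
  simpa [regPair] using h1

end Cfsg.Agent.BC84
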