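import Cfsg.Agent.Lib.Thompson.PSolvable
import Cfsg.Agent.Lib.Coprime.Action
import Cfsg.Agent.Lib.Transfer.Focal
import Cfsg.Agent.Lib.BlocksCore.PPart

/-!
# Sylow subgroups normalizing Sylow subgroups
-/

set_option autoImplicit false
set_option linter.unusedSectionVars false

namespace Cfsg.Agent.BC84

universe u

variable {G : Type u} [Group G] [Finite G] {p q : ℕ} [Fact p.Prime] [Fact q.Prime]

/-- `P` normalizes a Sylow `q`-subgroup if `q` is prime to the index of `O_{p'}(G)`. -/
theorem exists_normalized_sylow (P : Sylow p G) (hq : ¬ q ∣ (pPrimeCore p G).index) :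
    ∃ Q : Sylow q G, (P : Subgroup G) ≤ Subgroup.normalizer ((Q : Subgroup G) : Set G) := by
  set N := pPrimeCore p G
  have hnorm : (P : Subgroup G) ≤ Subgroup.normalizer (N : Set G) := by
    intro x _
    rw [Subgroup.normalizer_eq_top (H := N)]
    exact Subgroup.mem_top x
  have hcop : (Nat.card (P : Subgroup G)).Coprime (Nat.card N) := by
    obtain ⟨n, hn⟩ := IsPGroup.iff_card.mp P.2
    rw [hn]
    exact Nat.Coprime.pow_left n (Thompson.card_pPrimeCore_coprime (p := p) (G := G)).symm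
  have : Group.IsNilpotent (P : Subgroup G) := P.2.isNilpotent
  obtain ⟨Q₀, hQ₀⟩ := Coprime.exists_invariant_sylow (P : Subgroup G) N hnorm hcop (Or.inl inferInstance) q
  have hidx : ¬ q ∣ (Q₀.toSubgroup.map N.subtype).index := by
    rw [Subgroup.index_map_subtype]
    exact fun h => ((Fact.out : q.Prime).dvd_mul.mp h).elim Q₀.not_dvd_index hq
  exact ⟨(Q₀.2.map N.subtype).toSylow hidx, hQ₀⟩

/-- Converse: in a `p`-solvable group `q` is then prime to the index of `O_{p'}(G)`. -/
theorem not_dvd_index_of_normalize (hpq : p ≠ q) (hsolv : IsPSolvable p G) (P : Sylow p G) (Q : Sylow q G)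
    (hPQ : (P : Subgroup G) ≤ Subgroup.normalizer ((Q : Subgroup G) : Set G)) :
    ¬ q ∣ (pPrimeCore p G).index := by
  set N := pPrimeCore p G
  let π := QuotientGroup.mk' N
  let P' : Sylow p (G ⧸ N) := P.mapSurjective (QuotientGroup.mk'_surjective N)
  let Q' : Sylow q (G ⧸ N) := Q.mapSurjective (QuotientGroup.mk'_surjective N)
  have hcl := Thompson.centralizer_pCore_le (p := p) (Thompson.isPSolvable_quotient N hsolv)
    (Thompson.pPrimeCore_quotient_pPrimeCore (p := p) (G := G))
  have hone : ∀ z : G ⧸ N, z ∈ (Q' : Subgroup (G ⧸ N)) → z ∈ pCore p (G ⧸ N) → z = 1 := by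
    intro z hzQ hzO
    obtain ⟨i, hi⟩ := Q'.2 ⟨z, hzQ⟩
    obtain ⟨j, hj⟩ := Thompson.isPGroup_pCore (p := p) ⟨z, hzO⟩
    exact orderOf_eq_one_iff.mp (Nat.eq_one_of_dvd_coprimes
      (Nat.Coprime.pow j i ((Nat.coprime_primes (Fact.out : p.Prime) (Fact.out : q.Prime)).mpr hpq))
      (orderOf_dvd_of_pow_eq_one (congrArg Subtype.val hj)) (orderOf_dvd_of_pow_eq_one (congrArg Subtype.val hi)))
  have htriv : (Q' : Subgroup (G ⧸ N)) ≤ ⊥ := by
    intro z hz
    refine Subgroup.mem_bot.mpr (hone z hz (hcl (Subgroup.mem_centralizer_iff.mpr fun u hu => ?_)))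
    obtain ⟨a, ha, rfl⟩ := Thompson.pCore_le_sylow P' hu
    obtain ⟨b, hb, rfl⟩ := hz
    have h1 : π a * π b * (π a)⁻¹ * (π b)⁻¹ ∈ (Q' : Subgroup (G ⧸ N)) := by
      refine mul_mem ?_ (inv_mem (Subgroup.mem_map_of_mem π hb))
      rw [← map_mul, ← map_inv, ← map_mul]
      exact Subgroup.mem_map_of_mem π ((Subgroup.mem_normalizer_iff.mp (hPQ ha) b).mp hb)
    have h2 : π a * π b * (π a)⁻¹ * (π b)⁻¹ ∈ pCore p (G ⧸ N) := by
      rw [mul_assoc (π a), mul_assoc (π a)]
      exact mul_mem hu ((Thompson.instPCoreNormal (p := p) (G := G ⧸ N)).conj_mem _ (inv_mem hu) (π b))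
    have h3 := hone _ h1 h2
    rwa [mul_inv_eq_one, mul_inv_eq_iff_eq_mul] at h3
  intro h
  rw [Subgroup.index_eq_card] at h
  exact Q'.not_dvd_index (by rw [le_bot_iff.mp htriv, Subgroup.index_bot]; exact h)

/-- A `q`-element of a quotient lifts to a `q`-element. -/
theorem exists_lift_qElement (N : Subgroup G) [N.Normal] {y : G ⧸ N} (hy : ∃ k : ℕ, orderOf y = q ^ k) :
    ∃ x : G, (∃ k : ℕ, orderOf x = q ^ k) ∧ QuotientGroup.mk' N x = y := by
  obtain ⟨g, rfl⟩ := QuotientGroup.mk'_surjective N y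
  obtain ⟨x, z, hxz, hcomm, ⟨a, ha⟩, hz⟩ := BlocksCore.exists_pPart (p := q) Fact.out g
  obtain ⟨k, hk⟩ := hy
  refine ⟨x, ⟨a, ha⟩, ?_⟩
  let π := QuotientGroup.mk' N
  have hz1 : π z = 1 := by
    have h1 : (π z) ^ (q ^ k * q ^ a) = 1 := by
      have h2 : π z = π x⁻¹ * π g := by rw [← map_mul, ← hxz, inv_mul_cancel_left]
      have h3 : Commute (π x⁻¹) (π g) := by
        refine (Commute.inv_left ?_).map π
        rw [← hxz]; exact (Commute.refl x).mul_right hcomm
      rw [h2, h3.mul_pow, ← map_pow, ← map_pow, inv_pow, mul_comm (q ^ k) (q ^ a), pow_mul x, ← ha,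
        pow_orderOf_eq_one, one_pow, inv_one, map_one, one_mul, mul_comm, pow_mul, map_pow, map_pow, ← hk]
      show ((π g) ^ orderOf (π g)) ^ _ = 1
      rw [pow_orderOf_eq_one, one_pow]
    exact orderOf_eq_one_iff.mp (Nat.eq_one_of_dvd_coprimes
      (Nat.Coprime.mul_left (Nat.Coprime.pow_left k ((Fact.out : q.Prime).coprime_iff_not_dvd.mpr hz))
        (Nat.Coprime.pow_left a ((Fact.out : q.Prime).coprime_iff_not_dvd.mpr hz)))
      (orderOf_dvd_of_pow_eq_one h1) (orderOf_map_dvd π z))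
  rw [← hxz, map_mul, hz1, mul_one]

/-- In a `q`-solvable group whose `q`-elements all have class size prime to `p`, the normalizer
of a Sylow `q`-subgroup has index prime to `p`. -/
theorem not_dvd_index_normalizer : ∀ (n : ℕ) (G : Type u) [Group G] [Finite G], Nat.card G = n →
    IsPSolvable q G →
    (∀ y : G, (∃ k : ℕ, orderOf y = q ^ k) → ¬ p ∣ (Subgroup.centralizer ({y} : Set G)).index) →
    ∀ Q : Sylow q G, ¬ p ∣ (Subgroup.normalizer ((Q : Subgroup G) : Set G)).index := by
  intro n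
  induction n using Nat.strong_induction_on with
  | _ n ih =>
  intro G _ _ hn hsolv h Q
  rcases subsingleton_or_nontrivial G with hs | hnt
  · rw [Subsingleton.elim (Subgroup.normalizer ((Q : Subgroup G) : Set G)) ⊤, Subgroup.index_top]
    exact (Fact.out : p.Prime).not_dvd_one
  have key : ∀ (N : Subgroup G) [N.Normal], N ≠ ⊥ →
      ¬ p ∣ ((Subgroup.normalizer (((Q : Subgroup G).map (QuotientGroup.mk' N) : Subgroup (G ⧸ N)) : Set (G ⧸ N))).comap (QuotientGroup.mk' N)).index := by
    intro N _ hN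
    rw [Subgroup.index_comap_of_surjective _ (QuotientGroup.mk'_surjective N)]
    refine ih (Nat.card (G ⧸ N)) ?_ (G ⧸ N) rfl (Thompson.isPSolvable_quotient N hsolv) ?_
      (Q.mapSurjective (QuotientGroup.mk'_surjective N))
    · rw [← hn, Subgroup.card_eq_card_quotient_mul_card_subgroup N]
      exact lt_mul_of_one_lt_right Nat.card_pos (Subgroup.one_lt_card_iff_ne_bot N |>.mpr hN)
    · intro y hy
      obtain ⟨x, hx, rfl⟩ := exists_lift_qElement N hy
      refine fun hd => h x hx (hd.trans (dvd_trans ?_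
        (Subgroup.index_map_dvd (H := Subgroup.centralizer ({x} : Set G)) (QuotientGroup.mk'_surjective N))))
      refine Subgroup.index_dvd_of_le ?_
      rintro _ ⟨c, hc, rfl⟩
      refine Subgroup.mem_centralizer_singleton_iff.mpr ?_
      rw [← map_mul, ← map_mul, Subgroup.mem_centralizer_singleton_iff.mp hc]
  set NQ := Subgroup.normalizer ((Q : Subgroup G) : Set G) with hNQ
  have hback : ∀ (N : Subgroup G) [N.Normal] (g : G),
      g ∈ (Subgroup.normalizer (((Q : Subgroup G).map (QuotientGroup.mk' N) : Subgroup (G ⧸ N)) : Set (G ⧸ N))).comap (QuotientGroup.mk' N) →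
      ∀ u ∈ (Q : Subgroup G), g * u * g⁻¹ ∈ (Q : Subgroup G) ⊔ N := by
    intro N _ g hg u hu
    have h1 := (Subgroup.mem_normalizer_iff.mp hg (QuotientGroup.mk' N u)).mp (Subgroup.mem_map_of_mem _ hu)
    rw [← map_inv, ← map_mul, ← map_mul] at h1
    have h2 : g * u * g⁻¹ ∈ ((Q : Subgroup G).map (QuotientGroup.mk' N)).comap (QuotientGroup.mk' N) := h1
    rwa [Subgroup.comap_map_eq, QuotientGroup.ker_mk'] at h2
  rcases Thompson.pCore_ne_bot_or_pPrimeCore_ne_bot hsolv with hN | hN
  · -- a normal `q`-subgroup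
    refine fun hd => key _ hN (hd.trans (Subgroup.index_dvd_of_le fun g hg => ?_))
    have hle : (Q : Subgroup G) ⊔ pCore q G = Q := sup_eq_left.mpr (Thompson.pCore_le_sylow Q)
    have hsub : (Q : Subgroup G).map (MulAut.conj g).toMonoidHom ≤ Q := by
      rintro _ ⟨u, hu, rfl⟩
      exact hle ▸ hback _ g hg u hu
    have heq : (Q : Subgroup G).map (MulAut.conj g).toMonoidHom = Q :=
      Subgroup.eq_of_le_of_card_ge hsub (le_of_eq
        (Nat.card_congr ((Q : Subgroup G).equivMapOfInjective _ (MulAut.conj g).injective).toEquiv))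
    rw [hNQ, Subgroup.mem_normalizer_iff]
    intro u
    constructor
    · intro hu; exact hsub ⟨u, hu, rfl⟩
    · intro hu
      rw [← heq] at hu
      obtain ⟨v, hv, hvu⟩ := hu
      exact (MulAut.conj g).injective hvu ▸ hv
  -- a normal `q'`-subgroup
  set R := pPrimeCore q G
  set M := (Subgroup.normalizer (((Q : Subgroup G).map (QuotientGroup.mk' R) : Subgroup (G ⧸ R)) : Set (G ⧸ R))).comap (QuotientGroup.mk' R)
  have hM : M ≤ R ⊔ NQ := by
    intro g hg
    set K := (Q : Subgroup G) ⊔ R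
    have h1 : ((g • Q : Sylow q G) : Subgroup G) ≤ K := by
      rw [Sylow.smul_def, Sylow.pointwise_smul_def]
      rintro _ ⟨u, hu, rfl⟩
      exact hback R g hg u hu
    obtain ⟨k, hk⟩ := MulAction.exists_smul_eq K ((g • Q).subtype h1) (Q.subtype le_sup_left)
    have h2 : ((k : G) * g) • Q = Q := by
      rw [mul_smul]
      have h5 : ((k : G) • g • Q : Sylow q G).1 ≤ K := by
        rintro _ ⟨u, hu, rfl⟩
        exact mul_mem (mul_mem k.2 (h1 hu)) (inv_mem k.2)
      exact Sylow.subtype_injective (N := K) (hP := h5) (hQ := le_sup_left) ((Sylow.smul_subtype h1 k).symm.trans hk)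
    have h3 : (k : G) * g ∈ NQ := Sylow.smul_eq_iff_mem_normalizer.mp h2
    have h4 : (k : G) ∈ R ⊔ NQ := (sup_le (Subgroup.le_normalizer.trans le_sup_right) le_sup_left : K ≤ R ⊔ NQ) k.2
    have := mul_mem (inv_mem h4) (Subgroup.mem_sup_right h3)
    rwa [inv_mul_cancel_left] at this
  have hnorm : ∀ A : Subgroup G, A ≤ Subgroup.normalizer (R : Set G) := fun A x _ => by
    rw [Subgroup.normalizer_eq_top (H := R)]
    exact Subgroup.mem_top x
  have hcopQ : (Nat.card (Q : Subgroup G)).Coprime (Nat.card R) := by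
    obtain ⟨a, ha⟩ := IsPGroup.iff_card.mp Q.2
    rw [ha]
    exact Nat.Coprime.pow_left a (Thompson.card_pPrimeCore_coprime (p := q) (G := G)).symm
  have : Group.IsNilpotent (Q : Subgroup G) := Q.2.isNilpotent
  obtain ⟨S, hS⟩ := Coprime.exists_invariant_sylow (Q : Subgroup G) R (hnorm _) hcopQ (Or.inl inferInstance) p
  have hcent : ∀ y ∈ (Q : Subgroup G), ∀ s ∈ S.toSubgroup.map R.subtype, y * s = s * y := by
    intro y hy s hs
    obtain ⟨a, ha⟩ := Q.2 ⟨y, hy⟩
    obtain ⟨b, -, hb⟩ := (Nat.dvd_prime_pow (Fact.out : q.Prime)).mp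
      (orderOf_dvd_of_pow_eq_one (show y ^ q ^ a = 1 from congrArg Subtype.val ha))
    obtain ⟨T⟩ : Nonempty (Sylow p (Subgroup.centralizer ({y} : Set G))) := inferInstance
    have hT : ¬ p ∣ (T.toSubgroup.map (Subgroup.centralizer ({y} : Set G)).subtype).index := by
      rw [Subgroup.index_map_subtype]
      exact fun hd => ((Fact.out : p.Prime).dvd_mul.mp hd).elim T.not_dvd_index (h y ⟨b, hb⟩)
    obtain ⟨S₀, hS₀⟩ := Transfer.exists_sylow_subgroupOf_normal ((T.2.map _).toSylow hT) R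
    have hfix : ∀ u ∈ S₀.toSubgroup.map R.subtype, y * u = u * y := by
      rintro _ ⟨v, hv, rfl⟩
      rw [hS₀] at hv
      obtain ⟨w, -, hw⟩ := Subgroup.mem_subgroupOf.mp hv
      show y * (v : G) = (v : G) * y
      rw [← hw]
      exact (Subgroup.mem_centralizer_singleton_iff.mp w.2).symm
    set A := Subgroup.zpowers y
    have hA : A ≤ Subgroup.normalizer ((S₀.toSubgroup.map R.subtype : Subgroup G) : Set G) := by
      rw [Subgroup.zpowers_le, Subgroup.mem_normalizer_iff]
      intro u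
      constructor
      · intro hu; rwa [hfix u hu, mul_inv_cancel_right]
      · intro hu
        have h1 := hfix _ hu
        have : u = y * u * y⁻¹ := by
          calc u = y⁻¹ * ((y * u * y⁻¹) * y) := by group
            _ = y⁻¹ * (y * (y * u * y⁻¹)) := by rw [h1]
            _ = y * u * y⁻¹ := by group
        rw [this]; exact hu
    have hAQ : A ≤ Q := Subgroup.zpowers_le.mpr hy
    have : Group.IsNilpotent A := (Q.2.to_le hAQ).isNilpotent
    obtain ⟨c, hc, hcS⟩ := Coprime.exists_invariant_sylow_conj A R (hnorm _)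
      (hcopQ.coprime_dvd_left (Subgroup.card_dvd_of_le hAQ)) (Or.inl inferInstance) p S₀ S hA (hAQ.trans hS)
    obtain ⟨v, hv, rfl⟩ := hs
    rw [← hcS, Sylow.smul_def, Sylow.pointwise_smul_def] at hv
    obtain ⟨w, hw, rfl⟩ := hv
    have hyc : Commute y (c : G) := Subgroup.mem_centralizer_iff.mp hc y (Subgroup.mem_zpowers y)
    have hyw : Commute y ((w : R) : G) := hfix _ ⟨w, hw, rfl⟩
    show y * ((c : G) * (w : G) * (c : G)⁻¹) = (c : G) * (w : G) * (c : G)⁻¹ * y
    exact ((hyc.mul_right hyw).mul_right hyc.inv_right).eq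
  have hSN : S.toSubgroup.map R.subtype ≤ NQ ⊓ R := fun s hs => ⟨by
    show s ∈ NQ
    rw [hNQ, Subgroup.mem_normalizer_iff]
    intro u
    constructor
    · intro hu; rwa [← hcent u hu s hs, mul_inv_cancel_right]
    · intro hu
      have h1 := hcent _ hu s hs
      have : u = s * u * s⁻¹ := by
        calc u = s⁻¹ * ((s * u * s⁻¹) * s) := by group
          _ = s⁻¹ * (s * (s * u * s⁻¹)) := by rw [h1]
          _ = s * u * s⁻¹ := by group
      rw [this]; exact hu, Subgroup.map_subtype_le _ hs⟩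
  intro hd
  have hrel : ¬ p ∣ NQ.relIndex R := by
    rw [← Subgroup.inf_relIndex_right NQ R]
    intro hd'
    refine S.not_dvd_index (hd'.trans ?_)
    have := Subgroup.index_dvd_of_le (H := S.toSubgroup) (K := (NQ ⊓ R).subgroupOf R)
      (fun x hx => hSN (Subgroup.mem_map_of_mem R.subtype hx))
    exact this
  have hsup : NQ.relIndex (R ⊔ NQ) = NQ.relIndex R := by
    have h1 := Subgroup.relIndex_mul_relIndex (NQ ⊓ R) R (R ⊔ NQ) inf_le_right le_sup_left
    have h2 := Subgroup.relIndex_mul_relIndex (NQ ⊓ R) NQ (R ⊔ NQ) inf_le_left le_sup_right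
    rw [Subgroup.relIndex_sup_left NQ R, Subgroup.inf_relIndex_right] at h1
    rw [Subgroup.inf_relIndex_left] at h2
    have hne : R.relIndex NQ ≠ 0 := Subgroup.index_ne_zero_of_finite
    exact mul_left_cancel₀ hne (by rw [h2, ← h1, mul_comm])
  have h1 : NQ.index = NQ.relIndex (R ⊔ NQ) * (R ⊔ NQ).index := (Subgroup.relIndex_mul_index le_sup_right).symm
  rw [h1, hsup] at hd
  rcases (Fact.out : p.Prime).dvd_mul.mp hd with h2 | h2
  · exact hrel h2
  · exact key R hN (h2.trans (Subgroup.index_dvd_of_le hM))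

end Cfsg.Agent.BC84
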