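import Cfsg.Agent.Lib.Transfer.Tate
import Cfsg.Agent.Lib.PGroup.Basic
import Mathlib.GroupTheory.FiniteAbelian.Duality
import Mathlib.Analysis.Complex.Polynomial.Basic
import Mathlib.RingTheory.RootsOfUnity.AlgebraicallyClosed

/-!
# Extension of the characters of order two of a Sylow 2-subgroup gives a normal 2-complement
-/

set_option autoImplicit false
set_option linter.unusedSectionVars false

namespace Cfsg.Agent.BC84

open scoped IsMulCommutative

variable {G : Type*} [Group G] [Finite G]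

theorem hasNormalPComplement_of_extend (P : Sylow 2 G)
    (h : ∀ lam : (P : Subgroup G) →* ℂˣ, (∀ x, lam x ^ 2 = 1) → ∃ f : G →* ℂˣ, ∀ x : (P : Subgroup G), f x = lam x) :
    HasNormalPComplement 2 G := by
  haveI : Fact (Nat.Prime 2) := ⟨Nat.prime_two⟩
  set N := pResidual 2 G with hNdef
  set o := Nat.card G / 2 ^ (Nat.card G).factorization 2 with ho
  have hood : ∀ g : G, Nat.Coprime (orderOf g) 2 → g ^ o = 1 := fun g hg => by
    have h1 : orderOf g ∣ 2 ^ (Nat.card G).factorization 2 * o := by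
      rw [ho, Nat.ordProj_mul_ordCompl_eq_self]
      exact orderOf_dvd_natCard g
    exact orderOf_dvd_iff_pow_eq_one.mp ((Nat.Coprime.pow_right _ hg).dvd_of_dvd_mul_left h1)
  have hood2 : Odd o := Nat.odd_iff.mpr (Nat.two_dvd_ne_zero.mp (Nat.not_dvd_ordCompl Nat.prime_two Nat.card_pos.ne'))
  have hle : N ⊓ (P : Subgroup G) ≤ (frattini P).map (P : Subgroup G).subtype := by
    rintro x ⟨hxN, hxP⟩
    refine ⟨⟨x, hxP⟩, ?_, rfl⟩
    by_contra hx
    let Q := (P : Subgroup G) ⧸ frattini (P : Subgroup G)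
    letI : CommGroup Q := { (inferInstance : Group Q) with
      mul_comm := fun a b => PGroup.quotient_frattini_commute P.2 a b }
    have hq : (QuotientGroup.mk' _ (⟨x, hxP⟩ : (P : Subgroup G)) : Q) ≠ 1 := fun he =>
      hx ((QuotientGroup.eq_one_iff _).mp he)
    obtain ⟨φ, hφ⟩ := CommGroup.exists_apply_ne_one_of_hasEnoughRootsOfUnity Q ℂ hq
    obtain ⟨f, hf⟩ := h (φ.comp (QuotientGroup.mk' _)) (fun y => by
      show φ _ ^ 2 = 1
      rw [← map_pow, show (QuotientGroup.mk' _ y : Q) ^ 2 = 1 from PGroup.quotient_frattini_pow P.2 _, map_one])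
    have hker : N ≤ (f ^ o : G →* ℂˣ).ker := Transfer.pResidual_le_iff.mpr fun g hg => by
      rw [MonoidHom.mem_ker, MonoidHom.pow_apply, ← map_pow, hood g hg, map_one]
    apply hφ
    have h1 : f x ^ o = 1 := hker hxN
    have h2 : f x ^ 2 = 1 := by
      rw [hf ⟨x, hxP⟩]
      show φ _ ^ 2 = 1
      rw [← map_pow, show (QuotientGroup.mk' _ (⟨x, hxP⟩ : (P : Subgroup G)) : Q) ^ 2 = 1 from PGroup.quotient_frattini_pow P.2 _, map_one]
    have h3 : f x = 1 := orderOf_eq_one_iff.mp (Nat.eq_one_of_dvd_coprimes (Nat.coprime_two_left.mpr hood2)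
      (orderOf_dvd_of_pow_eq_one h2) (orderOf_dvd_of_pow_eq_one h1))
    exact (hf ⟨x, hxP⟩).symm.trans h3
  have hN := Transfer.hasNormalPComplement_of_inf_le_frattini P N hle
  rw [Transfer.hasNormalPComplement_iff_not_dvd, Transfer.pResidual_pResidual] at hN
  rw [Transfer.hasNormalPComplement_iff_not_dvd]
  rwa [Subgroup.card_top] at hN

end Cfsg.Agent.BC84
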