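import Cfsg.Agent.BC84.Subsection
import Cfsg.Agent.BC84.DyadicCyclotomic

/-!
# Contributions of subsections of 2-blocks
-/

set_option autoImplicit false
set_option linter.unusedSectionVars false

namespace Cfsg.Agent.BC84

open BlocksCore BlocksDefect
open scoped ComplexConjugate

variable {G : Type*} [Group G] [Finite G] [Fact (Nat.Prime 2)] {M : Ideal AlgInt} {u : G} {k : ℕ}
  (hM : IsPModular 2 M) (hu : orderOf u = 2 ^ k)
  {B : Set (IrrCharacter G)} {b : Set (IrrCharacter (Subgroup.centralizer ({u} : Set G)))}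
  (hb : IsInducedBlock M (Subgroup.centralizer ({u} : Set G)) b B)

/-- The integral contribution. -/
noncomputable def Mc (b : Set (IrrCharacter (Subgroup.centralizer ({u} : Set G)))) (χ ψ : IrrCharacter G) : ℂ :=
  (2 : ℂ) ^ blockDefect 2 b * contr 2 b (χ : G → ℂ) (ψ : G → ℂ)

include hM

theorem conj_Mc (χ ψ : IrrCharacter G) : conj (Mc b χ ψ) = Mc b ψ χ := by
  rw [Mc, Mc, map_mul, map_pow, map_ofNat, conj_contr hM]

include hu hb

theorem sum_normSq_Mc [Fintype B] (χ : B) :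
    ∑ ψ : B, Mc b (χ : IrrCharacter G) ψ * conj (Mc b (χ : IrrCharacter G) ψ) =
      (((2 : ℤ) ^ blockDefect 2 b : ℤ) : ℂ) * Mc b (χ : IrrCharacter G) χ := by
  have h := sum_contr_mul_contr hM hu hb ((χ : IrrCharacter G) : G → ℂ) ((χ : IrrCharacter G) : G → ℂ)
  simp only [conj_Mc hM]
  unfold Mc
  rw [← h, Finset.mul_sum, Finset.mul_sum]
  refine Finset.sum_congr rfl fun ψ _ => ?_
  push_cast
  ring

theorem sum_Mc_self [Fintype B] :
    ∑ χ : B, Mc b (χ : IrrCharacter G) χ = ((((2 : ℤ) ^ blockDefect 2 b) * blockRank 2 b : ℤ) : ℂ) := by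
  unfold Mc
  rw [← Finset.mul_sum, sum_contr_self hM hu hb]
  push_cast
  rfl

omit hu in
theorem cval_pow_eq_one (η : IrrCharacter (Subgroup.centralizer ({u} : Set G))) (hk : orderOf u = 2 ^ k) :
    cval η (cu u) ^ 2 ^ k = 1 := by
  rw [← cval_pow η (Subgroup.mem_center_iff.mpr fun c =>
      Subtype.ext (Subgroup.mem_centralizer_singleton_iff.mp c.2) : cu u ∈ Subgroup.center _),
    show cu u ^ 2 ^ k = 1 from Subtype.ext (by
      rw [Subgroup.coe_pow, Subgroup.coe_one, ← hk]; exact pow_orderOf_eq_one u), cval_one]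

theorem Mc_mem (χ ψ : IrrCharacter G) : Mc b χ ψ ∈ Dyadic.lat k := by
  classical
  have := Fintype.ofFinite (Subgroup.centralizer ({u} : Set G))
  have := finite_irr (G := Subgroup.centralizer ({u} : Set G))
  have := Fintype.ofFinite b
  obtain ⟨n, -, hn⟩ := exists_mult hM χ (u := u)
  obtain ⟨n', -, hn'⟩ := exists_mult hM ψ (u := u)
  obtain ⟨m, hm, -⟩ := BC85.exists_matrix hM hb.1
  rw [Mc, contr_eq_sum hM χ ψ hn hn', Finset.mul_sum]
  refine Submodule.sum_mem _ fun η _ => ?_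
  rw [Finset.mul_sum]
  refine Submodule.sum_mem _ fun η' _ => ?_
  have hs : ∀ ξ : IrrCharacter (Subgroup.centralizer ({u} : Set G)), cval ξ (cu u) ∈ Dyadic.lat k := fun ξ =>
    Dyadic.mem_of_pow_eq_one (by rw [pow_succ, pow_mul, cval_pow_eq_one hM hb ξ hu, one_pow])
  rw [show ∀ a c d : ℂ, (2 : ℂ) ^ blockDefect 2 b * (a * conj c * d) =
    a * conj c * ((2 : ℂ) ^ blockDefect 2 b * d) from fun a c d => by ring]
  have hmm := hm η η'
  push_cast at hmm
  rw [← hmm]
  exact Dyadic.mul_mem (Dyadic.mul_mem (Dyadic.mul_mem (Dyadic.natCast_mem _) (hs _))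
    (Dyadic.conj_mem (Dyadic.mul_mem (Dyadic.natCast_mem _) (hs _)))) (Dyadic.intCast_mem _)

/-- The contribution of two members of height zero is a unit. -/
theorem Mc_unit {χ ψ : IrrCharacter G} (hχ : χ ∈ B) (hψ : ψ ∈ B)
    (hχ0 : blockHeight 2 B (χ : G → ℂ) = 0) (hψ0 : blockHeight 2 B (ψ : G → ℂ) = 0) :
    ¬ MemLocalIdeal M (Mc b χ ψ) := by
  classical
  have := isPrime hM
  have := Fintype.ofFinite (Subgroup.centralizer ({u} : Set G))
  have := finite_irr (G := Subgroup.centralizer ({u} : Set G))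
  have := Fintype.ofFinite b
  obtain ⟨n, hn₀, hn⟩ := exists_mult hM χ (u := u)
  obtain ⟨n', hn₀', hn'⟩ := exists_mult hM ψ (u := u)
  obtain ⟨m, hm, hsym, -, hdvd, hodd, hev⟩ := BC85.exists_matrix hM hb.1
  obtain ⟨θ₀, hθ₀, h00⟩ := exists_height_zero hM hb.1
  set θ : b := ⟨θ₀, hθ₀⟩ with hθ
  set e : b → ℤ := fun η => if blockHeight 2 b ((η : IrrCharacter (Subgroup.centralizer ({u} : Set G))) : Subgroup.centralizer ({u} : Set G) → ℂ) = 0 then 1 else 0 with he
  have hpar : ∀ η η' : b, (2 : ℤ) ∣ m η η' - e η * e η' := by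
    intro η η'
    simp only [he]
    by_cases h1 : blockHeight 2 b ((η : IrrCharacter (Subgroup.centralizer ({u} : Set G))) : Subgroup.centralizer ({u} : Set G) → ℂ) = 0
    · by_cases h2 : blockHeight 2 b ((η' : IrrCharacter (Subgroup.centralizer ({u} : Set G))) : Subgroup.centralizer ({u} : Set G) → ℂ) = 0
      · have h := hodd η η' h2
        rw [h1, zero_add, pow_one] at h
        rw [if_pos h1, if_pos h2, mul_one]
        omega
      · have h := hev η η' (Nat.pos_of_ne_zero h2)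
        rw [h1, zero_add, pow_one] at h
        rw [if_neg h2, mul_zero, sub_zero]
        exact h
    · have h := hdvd η η'
      rw [if_neg h1, zero_mul, sub_zero]
      exact dvd_trans (dvd_pow_self _ h1) h
  set S : ℤ := ∑ η : b, (n (η : IrrCharacter (Subgroup.centralizer ({u} : Set G))) : ℤ) * e η with hS
  set S' : ℤ := ∑ η : b, (n' (η : IrrCharacter (Subgroup.centralizer ({u} : Set G))) : ℤ) * e η with hS'
  have hθodd : ¬ (2 : ℤ) ∣ m θ θ := by
    have h := hodd θ θ h00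
    rwa [show blockHeight 2 b ((θ : IrrCharacter (Subgroup.centralizer ({u} : Set G))) : Subgroup.centralizer ({u} : Set G) → ℂ) = 0 from h00,
      zero_add, pow_one] at h
  have hSodd : ∀ (ξ : IrrCharacter G), ξ ∈ B → blockHeight 2 B (ξ : G → ℂ) = 0 →
      ∀ N : IrrCharacter (Subgroup.centralizer ({u} : Set G)) → ℕ,
      (∀ η : IrrCharacter (Subgroup.centralizer ({u} : Set G)),
        classInner (fun c : Subgroup.centralizer ({u} : Set G) => (ξ : G → ℂ) c)
          (η : Subgroup.centralizer ({u} : Set G) → ℂ) = N η) →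
      ¬ (2 : ℤ) ∣ ∑ η : b, (N (η : IrrCharacter (Subgroup.centralizer ({u} : Set G))) : ℤ) * e η := by
    intro ξ hξ hξ0 N hN hd
    refine not_dvd_mult hM hb hξ hξ0 hN hm hθodd ?_
    have h1 : (2 : ℤ) ∣ ∑ η : b, ((N (η : IrrCharacter (Subgroup.centralizer ({u} : Set G))) : ℤ) * m θ η - (N (η : IrrCharacter (Subgroup.centralizer ({u} : Set G))) : ℤ) * e η) := by
      refine Finset.dvd_sum fun η _ => ?_
      rw [← mul_sub]
      refine dvd_mul_of_dvd_right ?_ _
      have h := hpar θ η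
      rw [show e θ = 1 from if_pos h00, one_mul] at h
      exact h
    rw [Finset.sum_sub_distrib] at h1
    simpa using dvd_add h1 hd
  have hcong : MemLocalIdeal M (Mc b χ ψ - ((S * S' : ℤ) : ℂ)) := by
    rw [Mc, contr_eq_sum hM χ ψ hn hn', hS, hS', Finset.sum_mul_sum, Finset.mul_sum, Int.cast_sum,
      ← Finset.sum_sub_distrib]
    refine memLocalIdeal_sum fun η _ => ?_
    rw [Finset.mul_sum, Int.cast_sum, ← Finset.sum_sub_distrib]
    refine memLocalIdeal_sum fun η' _ => ?_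
    set s := cval (η : IrrCharacter (Subgroup.centralizer ({u} : Set G))) (cu u) with hs
    set s' := cval (η' : IrrCharacter (Subgroup.centralizer ({u} : Set G))) (cu u) with hs'
    have hss : (s * conj s') ^ 2 ^ k = 1 := by
      rw [mul_pow, ← map_pow, cval_pow_eq_one hM hb _ hu, cval_pow_eq_one hM hb _ hu, map_one, mul_one]
    have hmm := hm η η'
    push_cast at hmm
    rw [map_mul, map_natCast, show (2 : ℂ) ^ blockDefect 2 b *
      ((n (η : IrrCharacter (Subgroup.centralizer ({u} : Set G))) : ℂ) * s * ((n' (η' : IrrCharacter (Subgroup.centralizer ({u} : Set G))) : ℂ) * conj s') *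
        BC85.prj 2 (η : IrrCharacter (Subgroup.centralizer ({u} : Set G))) η') -
      (((n (η : IrrCharacter (Subgroup.centralizer ({u} : Set G))) : ℤ) * e η * ((n' (η' : IrrCharacter (Subgroup.centralizer ({u} : Set G))) : ℤ) * e η') : ℤ) : ℂ) =
      ((n (η : IrrCharacter (Subgroup.centralizer ({u} : Set G))) : ℂ) * (n' (η' : IrrCharacter (Subgroup.centralizer ({u} : Set G))) : ℂ)) *
        ((m η η' : ℂ) * (s * conj s' - 1) + ((m η η' - e η * e η' : ℤ) : ℂ)) by
          push_cast; rw [hmm]; ring]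
    exact memLocalIdeal_mul_left ((localRing M).mul_mem (memLocalRing_natCast _) (memLocalRing_natCast _))
      (memLocalIdeal_add (memLocalIdeal_mul_left (memLocalRing_intCast _) (memLocalIdeal_sub_one_of_pow hM hss))
        ((memLocalIdeal_intCast_iff hM _).mpr (hpar η η')))
  intro hmem
  have h1 := memLocalIdeal_sub hmem hcong
  rw [sub_sub_cancel] at h1
  rcases Int.prime_two.dvd_or_dvd ((memLocalIdeal_intCast_iff hM _).mp h1) with h | h
  · exact hSodd χ hχ hχ0 n hn₀ h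
  · exact hSodd ψ hψ hψ0 n' hn₀' h

/-- The number of height zero characters against the weights. -/
theorem weights [Fintype B] :
    ∃ t : B → ℤ, (∀ χ, 0 ≤ t χ) ∧
      (∀ χ : B, blockHeight 2 B ((χ : IrrCharacter G) : G → ℂ) = 0 → ¬ (2 : ℤ) ∣ t χ ∧
        (Nat.card {χ : IrrCharacter G // χ ∈ B ∧ blockHeight 2 B (χ : G → ℂ) = 0} : ℤ) ≤ 2 ^ blockDefect 2 b * t χ) ∧
      ∑ χ : B, t χ = 2 ^ blockDefect 2 b * (blockRank 2 b : ℤ) := by
  classical
  have := isPrime hM
  refine ⟨fun χ => Dyadic.tau k (Mc b (χ : IrrCharacter G) χ), ?_, ?_, ?_⟩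
  · intro χ
    have h1 := congrArg (Dyadic.tau k) (sum_normSq_Mc hM hu hb χ)
    rw [Dyadic.tau_sum _ fun ψ _ => Dyadic.mul_mem (Mc_mem hM hu hb _ _) (Dyadic.conj_mem (Mc_mem hM hu hb _ _)),
      Dyadic.tau_intCast_mul (Mc_mem hM hu hb _ _)] at h1
    exact nonneg_of_mul_nonneg_right (h1 ▸ Finset.sum_nonneg fun ψ _ => Dyadic.tau_self_nonneg (Mc_mem hM hu hb _ _))
      (by positivity)
  · intro χ hχ
    refine ⟨Dyadic.tau_parity hM (Mc_mem hM hu hb _ _) (conj_Mc hM _ _) (Mc_unit hM hu hb χ.2 χ.2 hχ hχ), ?_⟩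
    have h1 := congrArg (Dyadic.tau k) (sum_normSq_Mc hM hu hb χ)
    rw [Dyadic.tau_sum _ fun ψ _ => Dyadic.mul_mem (Mc_mem hM hu hb _ _) (Dyadic.conj_mem (Mc_mem hM hu hb _ _)),
      Dyadic.tau_intCast_mul (Mc_mem hM hu hb _ _)] at h1
    rw [← h1, Nat.card_congr (Equiv.subtypeSubtypeEquivSubtypeInter (fun χ : IrrCharacter G => χ ∈ B)
      (fun χ : IrrCharacter G => blockHeight 2 B (χ : G → ℂ) = 0)).symm, Nat.card_eq_fintype_card,
      Fintype.card_subtype]
    refine le_trans ?_ (Finset.sum_le_sum_of_subset_of_nonneg (Finset.filter_subset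
      (fun ψ : B => blockHeight 2 B ((ψ : IrrCharacter G) : G → ℂ) = 0) Finset.univ)
      fun ψ _ _ => Dyadic.tau_self_nonneg (Mc_mem hM hu hb _ _))
    rw [Finset.card_eq_sum_ones, Nat.cast_sum]
    refine Finset.sum_le_sum fun ψ hψ => ?_
    rw [Nat.cast_one]
    refine Dyadic.one_le_tau_self (Mc_mem hM hu hb _ _) fun h0 => ?_
    exact Mc_unit hM hu hb χ.2 ψ.2 hχ (Finset.mem_filter.mp hψ).2 (h0 ▸ memLocalIdeal_zero)
  · rw [← Dyadic.tau_sum _ fun χ _ => Mc_mem hM hu hb _ _, sum_Mc_self hM hu hb, Dyadic.tau_intCast]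

end Cfsg.Agent.BC84
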