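import Cfsg.Agent.BC84.Galois
import Cfsg.Agent.BC84.PrincipalTwo
import Mathlib.GroupTheory.Perm.Cycle.Type
import Mathlib.FieldTheory.Finite.Basic

/-!
# The exponent cubing 2-parts and fixing odd parts, and parity of fixed characters
-/

set_option autoImplicit false
set_option linter.unusedSectionVars false

namespace Cfsg.Agent.BC84

open BlocksCore

variable {G : Type*} [Group G] [Fintype G]

theorem coprime_of_cube {k : ℕ} (hk₁ : ∀ g : G, (∃ j : ℕ, orderOf g = 2 ^ j) → g ^ k = g ^ 3)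
    (hk₂ : ∀ g : G, Odd (orderOf g) → g ^ k = g) : k.Coprime (Nat.card G) := by
  refine Nat.coprime_of_dvd fun q hq hqk hqG => ?_
  have := Fact.mk hq
  obtain ⟨x, hx⟩ := exists_prime_orderOf_dvd_card' q hqG
  have h1 : x ^ k = 1 := orderOf_dvd_iff_pow_eq_one.mp (hx ▸ hqk)
  rcases hq.eq_two_or_odd' with rfl | ho
  · have h2 := hk₁ x ⟨1, by rw [hx, pow_one]⟩
    rw [h1, eq_comm] at h2
    have h3 := orderOf_dvd_of_pow_eq_one h2
    rw [hx] at h3
    exact absurd h3 (by decide)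
  · rw [hk₂ x (hx ▸ ho)] at h1
    rw [h1, orderOf_one] at hx
    exact hq.one_lt.ne hx

theorem pow_pow_of_cube {k : ℕ} (hk₁ : ∀ g : G, (∃ j : ℕ, orderOf g = 2 ^ j) → g ^ k = g ^ 3)
    (hk₂ : ∀ g : G, Odd (orderOf g) → g ^ k = g) (g : G) :
    g ^ k ^ 2 ^ ((Nat.card G).factorization 2) = g := by
  obtain ⟨j, -, -, -, hj, hjodd, -, -, -⟩ := exists_exponents G
  set a := (Nat.card G).factorization 2 with ha
  set v := g ^ j with hv
  set u := g * v⁻¹ with hu
  have hcomm : Commute g v := Commute.self_pow g j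
  have hcuv : Commute u v := (hcomm.mul_left (Commute.inv_left (Commute.refl v)))
  have hu2 : u ^ 2 ^ a = 1 := by
    rw [hu, hcomm.inv_right.mul_pow, hv, inv_pow, ← pow_mul, pow_eq_pow_iff_modEq.mpr (hj g),
      mul_inv_cancel]
  obtain ⟨i, hia, hi⟩ := (Nat.dvd_prime_pow Nat.prime_two).mp (orderOf_dvd_of_pow_eq_one hu2)
  have hstep : ∀ n, g ^ k ^ n = u ^ 3 ^ n * v := by
    intro n
    induction n with
    | zero => simp [hu]
    | succ n ih =>
      obtain ⟨l, -, hl⟩ := (Nat.dvd_prime_pow Nat.prime_two).mp (((orderOf_pow_dvd (3 ^ n)).trans (hi ▸ dvd_rfl : orderOf u ∣ 2 ^ i)) : orderOf (u ^ 3 ^ n) ∣ 2 ^ i)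
      rw [pow_succ, pow_mul, ih, (hcuv.pow_left _).mul_pow, hk₁ _ ⟨l, hl⟩, hk₂ v (hjodd g), ← pow_mul,
        pow_succ]
  rw [hstep]
  have h3 : u ^ 3 ^ 2 ^ a = u := by
    conv_rhs => rw [← pow_one u]
    rw [pow_eq_pow_iff_modEq, hi]
    rcases Nat.eq_zero_or_pos i with rfl | hipos
    · simp [Nat.modEq_one]
    have hE : 3 ^ Nat.totient (2 ^ i) ≡ 1 [MOD 2 ^ i] :=
      Nat.ModEq.pow_totient (Nat.Coprime.pow_right _ (by decide))
    rw [Nat.totient_prime_pow Nat.prime_two hipos] at hE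
    have e : 2 ^ a = 2 ^ (i - 1) * (2 - 1) * 2 ^ (a - (i - 1)) := by
      rw [show (2 : ℕ) - 1 = 1 from rfl, mul_one, ← pow_add]; congr 1; omega
    rw [e, pow_mul]
    simpa using hE.pow (2 ^ (a - (i - 1)))
  rw [h3, hu, inv_mul_cancel_right]

end Cfsg.Agent.BC84
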